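import Mathlib
import Groth.Prelude.Def_CAlgX
import Groth.Agent.RegSeq.Basic
import Groth.Agent.DepthLib.RegularQuotient
import Groth.Agent.DepthLib.CMModule

/-!
# Presentations of local rings by regular local rings

For a surjection `R → A` from a regular local ring with kernel `I`, the number
`μ(I) - dim R` depends only on `A`: for `I ⊆ 𝔪²` the vector space `I / 𝔪 I` is the first Koszul
homology of `A` on a minimal system of generators of its maximal ideal.
-/

set_option autoImplicit false
universe u

open IsLocalRing RingTheory.Sequence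

noncomputable section

namespace Groth.Agent.CIPres

/-- The trivial relations. -/
def kos {R : Type u} [CommRing R] {n : ℕ} (x : Fin n → R) : Submodule R (Fin n → R) :=
  Submodule.span R {v | ∃ i j : Fin n, v = Pi.single i (x j) - Pi.single j (x i)}

lemma linComb_kos {R : Type u} [CommRing R] {n : ℕ} (x : Fin n → R) :
    kos x ≤ LinearMap.ker (Fintype.linearCombination R x) := by
  rw [kos, Submodule.span_le]
  rintro _ ⟨i, j, rfl⟩
  simp [Fintype.linearCombination_apply_single, mul_comm]

/-- The length of the first Koszul homology. -/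
def h1 {A : Type u} [CommRing A] {n : ℕ} (x : Fin n → A) : ℕ∞ :=
  Module.length A (↥(LinearMap.ker (Fintype.linearCombination A x)) ⧸
    (kos x).comap (LinearMap.ker (Fintype.linearCombination A x)).subtype)

lemma length_quotient_smul_top {R : Type u} [CommRing R] [IsLocalRing R] [IsNoetherianRing R]
    (I : Ideal R) :
    Module.length R (↥I ⧸ (maximalIdeal R) • (⊤ : Submodule R ↥I)) = (I.spanFinrank : ℕ∞) := by
  rw [IsLocalRing.spanFinrank_eq_finrank_quotient I (IsNoetherian.noetherian I),
    Module.length_eq_of_surjective (R := R ⧸ maximalIdeal R) (S := R) Ideal.Quotient.mk_surjective]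
  letI : Field (R ⧸ maximalIdeal R) := Ideal.Quotient.field _
  exact Module.length_eq_finrank _ _

lemma exists_gens {R : Type u} [CommRing R] (I : Ideal R) (h : I.FG) :
    ∃ g : Fin I.spanFinrank → R, Ideal.span (Set.range g) = I := by
  have hfin := Submodule.FG.finite_generators h
  have := hfin.fintype
  have hcard : Fintype.card (Submodule.generators I) = I.spanFinrank := by
    rw [← Submodule.FG.generators_ncard h, Set.ncard_eq_toFinset_card', Set.toFinset_card]
  refine ⟨fun i => ((Fintype.equivFinOfCardEq hcard).symm i : R), ?_⟩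
  rw [show (fun i => ((Fintype.equivFinOfCardEq hcard).symm i : R)) =
    Subtype.val ∘ (Fintype.equivFinOfCardEq hcard).symm from rfl, Set.range_comp,
    Equiv.range_eq_univ, Set.image_univ, Subtype.range_coe]
  exact Submodule.span_generators I

lemma spanFinrank_le_card {R : Type u} [CommRing R] {n : ℕ} (g : Fin n → R) :
    (Ideal.span (Set.range g)).spanFinrank ≤ n := by
  refine (Submodule.spanFinrank_span_le_ncard_of_finite (Set.finite_range g)).trans ?_
  rw [← Nat.card_coe_set_eq]
  exact (Finite.card_range_le g).trans (by simp)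

lemma exists_sum_of_mem_mul {R : Type u} [CommRing R] {n : ℕ} (x : Fin n → R) (I : Ideal R) {y : R}
    (hy : y ∈ I * Ideal.span (Set.range x)) :
    ∃ d : Fin n → R, (∀ i, d i ∈ I) ∧ Fintype.linearCombination R x d = y := by
  induction hy using Submodule.mul_induction_on' with
  | mem_mul_mem c hc e he =>
    obtain ⟨a, rfl⟩ := (Ideal.mem_span_range_iff_exists_fun).1 he
    refine ⟨fun i => c * a i, fun i => I.mul_mem_right _ hc, ?_⟩
    simp [Fintype.linearCombination_apply, Finset.mul_sum, mul_assoc]
  | add a _ b _ ha hb =>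
    obtain ⟨d, hd, rfl⟩ := ha
    obtain ⟨d', hd', rfl⟩ := hb
    exact ⟨d + d', fun i => I.add_mem (hd i) (hd' i), map_add _ _ _⟩

/-- Regular systems of parameters are `H₁`-regular. -/
lemma isH1Regular_param {R : Type u} [CommRing R] [IsRegularLocalRing R] {n : ℕ} (x : Fin n → R)
    (hx : Ideal.span (Set.range x) = maximalIdeal R) (hn : (maximalIdeal R).spanFinrank = n) :
    CAlgX.IsH1Regular x := by
  have hm : ∀ r ∈ List.ofFn x, r ∈ maximalIdeal R := fun r hr => by
    obtain ⟨i, rfl⟩ := List.mem_ofFn.1 hr
    exact hx ▸ Ideal.subset_span ⟨i, rfl⟩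
  have hl : Ideal.ofList (List.ofFn x) = maximalIdeal R := by
    rw [← hx, Ideal.ofList]
    congr 1
    ext r
    simp [List.mem_ofFn]
  have := DepthLib.isCohenMacaulayLocalRing_of_isRegularLocalRing R
  have hreg : IsWeaklyRegular R (List.ofFn x) := by
    refine DepthLib.isWeaklyRegular_of_supportDim_drop _ R DepthLib.isCohenMacaulayModule_self hm ?_
    rw [Module.supportDim_eq_of_equiv (Submodule.quotEquivOfEq
        (Ideal.ofList (List.ofFn x) • ⊤ : Submodule R R) (maximalIdeal R)
        (by rw [smul_eq_mul, Ideal.mul_top, hl])),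
      Module.supportDim_quotient_eq_ringKrullDim, Module.supportDim_self_eq_ringKrullDim,
      ← IsRegularLocalRing.spanFinrank_maximalIdeal (R := R), hn, List.length_ofFn]
    letI : Field (R ⧸ maximalIdeal R) := Ideal.Quotient.field _
    rw [ringKrullDim_eq_zero_of_field, zero_add]
  have h := Groth.Agent.RegSeq.isH1Regular_of_isKoszulRegularSeq
    (Groth.Agent.RegSeq.isKoszulRegularSeq_of_isWeaklyRegular hreg)
  have hget : ∀ (c : ℕ) (e : n = c) (v : Fin c → R), CAlgX.IsH1Regular v →
      CAlgX.IsH1Regular (v ∘ Fin.cast e) := by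
    intro c e v hv; subst e; simpa using hv
  have := hget _ (List.length_ofFn (f := x)).symm _ h
  convert this using 1
  funext i
  simp

variable {R A : Type u} [CommRing R] [CommRing A] [Algebra R A]

/-- Minimal presentations: `I / 𝔪 I` is the first Koszul homology of the quotient. -/
lemma spanFinrank_eq_h1 [IsRegularLocalRing R] (hsurj : Function.Surjective (algebraMap R A))
    {n : ℕ} (x : Fin n → R) (hx : Ideal.span (Set.range x) = maximalIdeal R)
    (hn : (maximalIdeal R).spanFinrank = n)
    (hI : RingHom.ker (algebraMap R A) ≤ maximalIdeal R) :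
    ((RingHom.ker (algebraMap R A)).spanFinrank : ℕ∞) = h1 (algebraMap R A ∘ x) := by
  classical
  set I := RingHom.ker (algebraMap R A) with hIdef
  set L := Fintype.linearCombination R x with hL
  set LA := Fintype.linearCombination A (algebraMap R A ∘ x) with hLA
  set Z' : Submodule R (Fin n → R) := Submodule.comap L I with hZ'
  let red : (Fin n → R) →ₗ[R] (Fin n → A) := LinearMap.compLeft (Algebra.linearMap R A) (Fin n)
  have hred : ∀ a, red a = algebraMap R A ∘ a := fun a => rfl
  have hLred : ∀ a, LA (red a) = algebraMap R A (L a) := fun a => by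
    simp [hLA, hL, hred, Fintype.linearCombination_apply]
  have hredsurj : Function.Surjective red := fun a => by
    choose b hb using fun i => hsurj (a i)
    exact ⟨b, funext hb⟩
  have hredker : ∀ a, red a = 0 ↔ ∀ i, a i ∈ I := fun a => by
    simp [hred, funext_iff, hIdef]
  have hkos : (kos (algebraMap R A ∘ x)).restrictScalars R = (kos x).map red := by
    rw [kos, Submodule.restrictScalars_span _ _ hsurj, kos, Submodule.map_span]
    congr 1
    ext v
    constructor
    · rintro ⟨i, j, rfl⟩
      refine ⟨_, ⟨i, j, rfl⟩, ?_⟩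
      funext k
      simp [hred, Pi.single_apply, apply_ite (algebraMap R A)]
    · rintro ⟨_, ⟨i, j, rfl⟩, rfl⟩
      refine ⟨i, j, ?_⟩
      funext k
      simp [hred, Pi.single_apply, apply_ite (algebraMap R A)]
  let T : Z' →ₗ[R] (↥I ⧸ (maximalIdeal R) • (⊤ : Submodule R ↥I)) :=
    (Submodule.mkQ _).comp (L.restrict (fun a (ha : a ∈ Z') => (ha : L a ∈ I)))
  have hredmem : ∀ a : Z', red a.1 ∈ LinearMap.ker LA := fun a => by
    rw [LinearMap.mem_ker, hLred]
    exact a.2
  let red' : Z' →ₗ[R] ↥(LinearMap.ker LA) :=
    { toFun := fun a => ⟨red a.1, hredmem a⟩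
      map_add' := fun a b => Subtype.ext (map_add red _ _)
      map_smul' := fun c a => Subtype.ext (map_smul red c _) }
  let P : Z' →ₗ[R] (↥(LinearMap.ker LA) ⧸ (kos (algebraMap R A ∘ x)).comap (LinearMap.ker LA).subtype) :=
    ((Submodule.mkQ _).restrictScalars R).comp red'
  have hmI : ∀ y : R, y ∈ maximalIdeal R • I ↔ y ∈ I * Ideal.span (Set.range x) := fun y => by
    rw [hx, smul_eq_mul, mul_comm]
  have hTsurj : Function.Surjective T := by
    intro q
    obtain ⟨⟨f, hf⟩, rfl⟩ := Submodule.mkQ_surjective _ q
    obtain ⟨c, hc⟩ := Ideal.mem_span_range_iff_exists_fun.1 (hx.symm ▸ hI hf)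
    have hLc : L c = f := by simp [hL, Fintype.linearCombination_apply, hc]
    exact ⟨⟨c, by rw [hZ', Submodule.mem_comap, hLc]; exact hf⟩,
      congrArg (Submodule.mkQ _) (Subtype.ext hLc)⟩
  have hPsurj : Function.Surjective P := by
    intro q
    obtain ⟨⟨a, ha⟩, rfl⟩ := Submodule.mkQ_surjective _ q
    obtain ⟨b, rfl⟩ := hredsurj a
    refine ⟨⟨b, ?_⟩, rfl⟩
    rw [LinearMap.mem_ker, hLred] at ha
    exact ha
  have hker : LinearMap.ker T = LinearMap.ker P := by
    ext ⟨a, ha⟩
    have e1 : (⟨a, ha⟩ : Z') ∈ LinearMap.ker T ↔ L a ∈ I * Ideal.span (Set.range x) := by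
      rw [LinearMap.mem_ker, ← hmI]
      change Submodule.Quotient.mk (⟨L a, ha⟩ : I) = 0 ↔ _
      rw [Submodule.Quotient.mk_eq_zero, Submodule.mem_smul_top_iff]
    have e2 : (⟨a, ha⟩ : Z') ∈ LinearMap.ker P ↔ red a ∈ (kos x).map red := by
      rw [LinearMap.mem_ker, ← hkos]
      change Submodule.Quotient.mk _ = 0 ↔ _
      rw [Submodule.Quotient.mk_eq_zero]
      rfl
    rw [e1, e2]
    constructor
    · intro h
      obtain ⟨d, hd, hde⟩ := exists_sum_of_mem_mul x I h
      refine ⟨a - d, isH1Regular_param x hx hn (a - d) ?_, ?_⟩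
      · have : L (a - d) = 0 := by rw [map_sub, hde, sub_self]
        simpa [hL, Fintype.linearCombination_apply] using this
      · rw [map_sub, (hredker d).2 hd, sub_zero]
    · rintro ⟨k, hk, hka⟩
      have hd : ∀ i, (a - k) i ∈ I := (hredker _).1 (by rw [map_sub, hka, sub_self])
      have : L a = L (a - k) := by
        rw [map_sub, LinearMap.mem_ker.1 (linComb_kos x hk), sub_zero]
      rw [this, hL, Fintype.linearCombination_apply]
      exact Ideal.sum_mem _ fun i _ => Ideal.mul_mem_mul (hd i) (Ideal.subset_span ⟨i, rfl⟩)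
  rw [← length_quotient_smul_top, h1, ← Module.length_eq_of_surjective (S := R) hsurj]
  exact (((LinearMap.quotKerEquivOfSurjective T hTsurj).symm.trans
    (Submodule.quotEquivOfEq _ _ hker)).trans (LinearMap.quotKerEquivOfSurjective P hPsurj)).length_eq

lemma map_maximalIdeal [IsLocalRing R] [IsLocalRing A] (hsurj : Function.Surjective (algebraMap R A)) :
    (maximalIdeal R).map (algebraMap R A) = maximalIdeal A :=
  eq_maximalIdeal (Ideal.IsMaximal.map_of_surjective_of_ker_le hsurj
    (le_maximalIdeal (RingHom.ker_ne_top _)))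

/-- The general formula. -/
theorem spanFinrank_ker_add : ∀ (N : ℕ) (R A : Type u) [CommRing R] [CommRing A] [Algebra R A]
    [IsRegularLocalRing R] [IsLocalRing A], (maximalIdeal R).spanFinrank = N →
    Function.Surjective (algebraMap R A) → ∀ {n : ℕ} (x : Fin n → A),
    Ideal.span (Set.range x) = maximalIdeal A → (maximalIdeal A).spanFinrank = n →
    ((RingHom.ker (algebraMap R A)).spanFinrank : ℕ∞) + n = N + h1 x := by
  intro N
  induction N using Nat.strong_induction_on with
  | _ N ih => ?_
  intro R A _ _ _ _ _ hN hsurj n x hx hn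
  classical
  set I := RingHom.ker (algebraMap R A) with hI
  have hIm : I ≤ maximalIdeal R := le_maximalIdeal (RingHom.ker_ne_top _)
  by_cases hsq : I ≤ maximalIdeal R ^ 2
  · choose y hy using fun i => hsurj (x i)
    have hle : maximalIdeal R ≤ Ideal.span (Set.range y) ⊔ maximalIdeal R • maximalIdeal R := by
      intro r hr
      have : algebraMap R A r ∈ (Ideal.span (Set.range y)).map (algebraMap R A) := by
        rw [Ideal.map_span, ← Set.range_comp, show algebraMap R A ∘ y = x from funext hy, hx,
          ← map_maximalIdeal hsurj]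
        exact Ideal.mem_map_of_mem _ hr
      rw [← Ideal.mem_comap, Ideal.comap_map_of_surjective _ hsurj, ← RingHom.ker_eq_comap_bot,
        ← hI] at this
      rw [smul_eq_mul, ← sq]
      exact sup_le_sup_left hsq _ this
    have hym : Ideal.span (Set.range y) = maximalIdeal R := by
      refine le_antisymm (Ideal.span_le.2 ?_) (Submodule.le_of_le_smul_of_le_jacobson_bot
        (IsNoetherian.noetherian _) (maximalIdeal_le_jacobson _) hle)
      rintro _ ⟨i, rfl⟩
      by_contra hu
      have hunit : IsUnit (y i) := by simpa using hu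
      have h2 : x i ∈ maximalIdeal A := hx ▸ Ideal.subset_span ⟨i, rfl⟩
      rw [← hy i] at h2
      exact h2 (hunit.map _)
    have hNn : N = n := by
      refine le_antisymm ?_ ?_
      · rw [← hN, ← hym]; exact spanFinrank_le_card y
      · rw [← hn, ← map_maximalIdeal hsurj, ← hN]
        obtain ⟨g, hg⟩ := exists_gens (maximalIdeal R) (IsNoetherian.noetherian _)
        conv_lhs => rw [← hg, Ideal.map_span, ← Set.range_comp]
        exact spanFinrank_le_card _
    subst hNn
    rw [spanFinrank_eq_h1 hsurj y hym hN hIm, show algebraMap R A ∘ y = x from funext hy, add_comm]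
  · obtain ⟨f, hfI, hf2⟩ := SetLike.not_le_iff_exists.1 hsq
    obtain ⟨M, rfl⟩ : ∃ M, N = M + 1 := Nat.exists_eq_succ_of_ne_zero fun h0 => by
      subst h0
      rw [(Submodule.spanFinrank_eq_zero_iff_eq_bot (IsNoetherian.noetherian _)).1 hN] at hIm
      exact hsq (hIm.trans bot_le)
    obtain ⟨hreg, hrank⟩ := DepthLib.isRegularLocalRing_quotient_singleton hN (hIm hfI) hf2
    letI : Algebra (R ⧸ Ideal.span {f}) A := (Ideal.Quotient.lift (Ideal.span {f}) (algebraMap R A)
      fun a ha => by
        obtain ⟨b, rfl⟩ := Ideal.mem_span_singleton.1 ha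
        rw [map_mul, RingHom.mem_ker.1 hfI, zero_mul]).toAlgebra
    have hker : RingHom.ker (algebraMap (R ⧸ Ideal.span {f}) A) = I.map (Ideal.Quotient.mk _) := by
      rw [RingHom.algebraMap_toAlgebra, Ideal.ker_quotient_lift]
    have hsurj' : Function.Surjective (algebraMap (R ⧸ Ideal.span {f}) A) := fun a => by
      obtain ⟨r, rfl⟩ := hsurj a
      exact ⟨Ideal.Quotient.mk _ r, rfl⟩
    have h := ih M (by omega) (R ⧸ Ideal.span {f}) A hrank hsurj' x hx hn
    rw [hker] at h
    have hmu : I.spanFinrank = (I.map (Ideal.Quotient.mk (Ideal.span {f}))).spanFinrank + 1 := by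
      refine le_antisymm ?_ ?_
      · obtain ⟨g, hg⟩ := exists_gens (I.map (Ideal.Quotient.mk (Ideal.span {f})))
          (IsNoetherian.noetherian _)
        choose g' hg' using fun i => (Ideal.mem_map_iff_of_surjective _ Ideal.Quotient.mk_surjective).1
          (hg.le (Ideal.subset_span ⟨i, rfl⟩) : g i ∈ I.map (Ideal.Quotient.mk (Ideal.span {f})))
        have : I = Ideal.span (Set.range (Fin.cons f g' : Fin (_ + 1) → R)) := by
          rw [Fin.range_cons]
          refine le_antisymm (fun r hr => ?_) (Ideal.span_le.2 ?_)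
          · have h0 : Ideal.Quotient.mk (Ideal.span {f}) r ∈
                (Ideal.span (Set.range g')).map (Ideal.Quotient.mk (Ideal.span {f})) := by
              rw [Ideal.map_span, ← Set.range_comp,
                show Ideal.Quotient.mk (Ideal.span {f}) ∘ g' = g from funext fun i => (hg' i).2, hg]
              exact Ideal.mem_map_of_mem _ hr
            rw [← Ideal.mem_comap, Ideal.comap_map_of_surjective _ Ideal.Quotient.mk_surjective,
              ← RingHom.ker_eq_comap_bot, Ideal.mk_ker, sup_comm] at h0
            rwa [Ideal.span_insert]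
          · rintro r (rfl | ⟨i, rfl⟩)
            · exact hfI
            · exact (hg' i).1
        conv_lhs => rw [this]
        exact spanFinrank_le_card _
      · obtain ⟨g, hg⟩ := exists_gens I (IsNoetherian.noetherian _)
        obtain ⟨c, hc⟩ := Ideal.mem_span_range_iff_exists_fun.1 (hg.symm ▸ hfI)
        obtain ⟨i₀, hi₀⟩ : ∃ i, IsUnit (c i) := by
          by_contra hcon
          push Not at hcon
          refine hf2 ?_
          rw [← hc, sq]
          exact Ideal.sum_mem _ fun i _ => Ideal.mul_mem_mul (hcon i)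
            (hIm (hg.le (Ideal.subset_span ⟨i, rfl⟩)))
        have hle : I.map (Ideal.Quotient.mk (Ideal.span {f})) ≤
            Ideal.span ↑((Finset.univ.erase i₀).image fun i => Ideal.Quotient.mk (Ideal.span {f}) (g i)) := by
          conv_lhs => rw [← hg, Ideal.map_span, ← Set.range_comp]
          rw [Ideal.span_le]
          rintro _ ⟨i, rfl⟩
          have hmem : ∀ j, j ≠ i₀ → Ideal.Quotient.mk (Ideal.span {f}) (g j) ∈
              Ideal.span ↑((Finset.univ.erase i₀).image fun i => Ideal.Quotient.mk (Ideal.span {f}) (g i)) :=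
            fun j hj => Ideal.subset_span (by
              rw [Finset.coe_image]; exact ⟨j, by simp [hj], rfl⟩)
          rcases eq_or_ne i i₀ with rfl | hi
          · have h0 : Ideal.Quotient.mk (Ideal.span {f}) (∑ j, c j * g j) = 0 := by
              rw [hc]; exact Ideal.Quotient.eq_zero_iff_mem.2 (Ideal.subset_span rfl)
            rw [← Finset.add_sum_erase _ _ (Finset.mem_univ i), map_add, map_mul,
              add_eq_zero_iff_eq_neg] at h0
            refine (Ideal.unit_mul_mem_iff_mem _ (hi₀.map (Ideal.Quotient.mk (Ideal.span {f})))).1 ?_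
            simp only [Function.comp_apply]
            rw [h0, map_sum]
            exact neg_mem (Ideal.sum_mem _ fun j hj => by
              rw [map_mul]; exact Ideal.mul_mem_left _ _ (hmem j (Finset.ne_of_mem_erase hj)))
          · exact hmem i hi
        have hge : Ideal.span ↑((Finset.univ.erase i₀).image fun i => Ideal.Quotient.mk (Ideal.span {f}) (g i)) ≤
            I.map (Ideal.Quotient.mk (Ideal.span {f})) := by
          rw [Ideal.span_le, Finset.coe_image]
          rintro _ ⟨j, -, rfl⟩
          exact Ideal.mem_map_of_mem _ (hg.le (Ideal.subset_span ⟨j, rfl⟩))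
        rw [le_antisymm hle hge]
        refine Nat.add_one_le_iff.2 (((Submodule.spanFinrank_span_le_ncard_of_finite
          (Finset.finite_toSet _)).trans_lt ?_))
        rw [Set.ncard_coe_finset]
        refine Finset.card_image_le.trans_lt ?_
        rw [Finset.card_erase_of_mem (Finset.mem_univ _), Finset.card_univ, Fintype.card_fin]
        exact Nat.sub_lt i₀.pos one_pos
    rw [hmu, Nat.cast_add, Nat.cast_one, Nat.cast_add, Nat.cast_one]
    calc ((I.map (Ideal.Quotient.mk (Ideal.span {f}))).spanFinrank : ℕ∞) + 1 + n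
        = ((I.map (Ideal.Quotient.mk (Ideal.span {f}))).spanFinrank : ℕ∞) + n + 1 := by ring
      _ = (M : ℕ∞) + h1 x + 1 := by rw [h]
      _ = _ := by ring

/-- `μ(I) - dim R` does not depend on the presentation. -/
theorem spanFinrank_ker_eq {R B A : Type u} [CommRing R] [CommRing B] [CommRing A]
    [IsRegularLocalRing R] [IsRegularLocalRing B] [IsLocalRing A] (φ : R →+* A) (ψ : B →+* A)
    (hφ : Function.Surjective φ) (hψ : Function.Surjective ψ) :
    (RingHom.ker φ).spanFinrank + (maximalIdeal B).spanFinrank =
      (RingHom.ker ψ).spanFinrank + (maximalIdeal R).spanFinrank := by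
  letI := φ.toAlgebra
  letI := ψ.toAlgebra
  have : IsNoetherianRing A := isNoetherianRing_of_surjective R A φ hφ
  obtain ⟨x, hx⟩ := exists_gens (maximalIdeal A) (IsNoetherian.noetherian _)
  have h1' := spanFinrank_ker_add _ R A rfl hφ x hx rfl
  have h2' := spanFinrank_ker_add _ B A rfl hψ x hx rfl
  rw [RingHom.algebraMap_toAlgebra] at h1' h2'
  have hne : h1 x ≠ ⊤ := by
    intro htop
    rw [htop, add_top, ← Nat.cast_add] at h1'
    exact ENat.coe_ne_top _ h1'
  obtain ⟨hn, hhn⟩ := ENat.ne_top_iff_exists.1 hne
  rw [← hhn] at h1' h2'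
  norm_cast at h1' h2'
  omega

/-- A proper ideal generated by at most `dim R - dim R/I` elements is generated by a regular
sequence. -/
theorem exists_isRegular_of_spanFinrank_le {R : Type u} [CommRing R] [IsRegularLocalRing R]
    (I : Ideal R) (hI : I ≠ ⊤)
    (h : ringKrullDim (R ⧸ I) + (I.spanFinrank : WithBot ℕ∞) ≤ ringKrullDim R) :
    ∃ rs : List R, Ideal.ofList rs = I ∧ RingTheory.Sequence.IsRegular R rs := by
  obtain ⟨g, hg⟩ := exists_gens I (IsNoetherian.noetherian _)
  have hl : Ideal.ofList (List.ofFn g) = I := by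
    refine Eq.trans ?_ hg
    rw [Ideal.ofList]
    congr 1
    ext r
    simp [List.mem_ofFn]
  have hm : ∀ r ∈ List.ofFn g, r ∈ maximalIdeal R := fun r hr =>
    le_maximalIdeal hI (hl.le (Ideal.subset_span hr))
  have := DepthLib.isCohenMacaulayLocalRing_of_isRegularLocalRing R
  refine ⟨List.ofFn g, hl, ?_⟩
  refine (RingTheory.Sequence.isRegular_iff _ _).2 ⟨?_, ?_⟩
  · refine DepthLib.isWeaklyRegular_of_supportDim_drop _ R DepthLib.isCohenMacaulayModule_self hm ?_
    rw [Module.supportDim_eq_of_equiv (Submodule.quotEquivOfEq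
        (Ideal.ofList (List.ofFn g) • ⊤ : Submodule R R) I
        (by rw [smul_eq_mul, Ideal.mul_top, hl])),
      Module.supportDim_quotient_eq_ringKrullDim, Module.supportDim_self_eq_ringKrullDim,
      List.length_ofFn]
    exact h
  · rw [hl, smul_eq_mul, Ideal.mul_top]
    exact Ne.symm hI

end Groth.Agent.CIPres
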