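import Mathlib
import Groth.Prelude.Def_Pi1
import Groth.Agent.CIPres.Basic
import Groth.Agent.FlatSerre.Completion
import Groth.Agent.FlatAscent.QuotientFibre

/-!
# Complete intersections and regular presentations
-/

set_option autoImplicit false
universe u

open IsLocalRing RingTheory.Sequence

noncomputable section

namespace Groth.Agent.CIPres

/-- The completion of a regular local ring is regular local. -/
lemma isRegularLocalRing_completion (R : Type u) [CommRing R] [IsRegularLocalRing R] :
    IsRegularLocalRing (AdicCompletion (maximalIdeal R) R) := by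
  have : IsNoetherianRing (AdicCompletion (maximalIdeal R) R) :=
    CohenStruct.isNoetherianRing_completion R
  refine IsRegularLocalRing.of_spanFinrank_maximalIdeal_le _ ?_
  rw [FlatSerre.ringKrullDim_completion R, ← IsRegularLocalRing.spanFinrank_maximalIdeal (R := R)]
  refine Nat.cast_le.2 ?_
  obtain ⟨g, hg⟩ := exists_gens (maximalIdeal R) (IsNoetherian.noetherian _)
  rw [AdicCompletion.maximalIdeal_eq_map (R := R)]
  conv_lhs => rw [← hg, Ideal.map_span, ← Set.range_comp]
  exact spanFinrank_le_card _

/-- A complete intersection has the smallest possible presentations. -/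
lemma spanFinrank_ker_le_of_ci {B A : Type u} [CommRing B] [CommRing A] [IsRegularLocalRing B]
    (rs : List B) (hmem : ∀ r ∈ rs, r ∈ maximalIdeal B) (hrs : IsRegular B rs)
    (e : A ≃+* B ⧸ Ideal.ofList rs) {R : Type u} [CommRing R] [IsRegularLocalRing R] [IsLocalRing A]
    (φ : R →+* A) (hφ : Function.Surjective φ) :
    ringKrullDim A + ((RingHom.ker φ).spanFinrank : WithBot ℕ∞) ≤ ringKrullDim R := by
  classical
  let ψ : B →+* A := e.symm.toRingHom.comp (Ideal.Quotient.mk _)
  have hψ : Function.Surjective ψ := e.symm.surjective.comp Ideal.Quotient.mk_surjective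
  have hker : RingHom.ker ψ = Ideal.ofList rs := by
    ext b
    simp [ψ, RingHom.mem_ker, Ideal.Quotient.eq_zero_iff_mem]
  have hle : (RingHom.ker ψ).spanFinrank ≤ rs.length := by
    rw [hker, Ideal.ofList, show {r | r ∈ rs} = Set.range rs.get from (Set.range_list_get rs).symm]
    exact spanFinrank_le_card _
  have h := spanFinrank_ker_eq φ ψ hφ hψ
  have hdim := ringKrullDim_add_length_eq_ringKrullDim_of_isRegular rs hrs
  rw [← ringKrullDim_eq_of_ringEquiv e] at hdim
  rw [← IsRegularLocalRing.spanFinrank_maximalIdeal (R := B)] at hdim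
  rw [← IsRegularLocalRing.spanFinrank_maximalIdeal (R := R)]
  generalize ringKrullDim A = d at hdim ⊢
  induction d with
  | bot => simp
  | coe d =>
    induction d with
    | top =>
      rw [show ((⊤ : ℕ∞) : WithBot ℕ∞) + (rs.length : WithBot ℕ∞) = ((⊤ : ℕ∞) : WithBot ℕ∞) by
        rw [← WithBot.coe_natCast, ← WithBot.coe_add, top_add], ← WithBot.coe_natCast] at hdim
      exact absurd (WithBot.coe_injective hdim) (by simp)
    | coe a =>
      rw [← WithBot.coe_natCast, ← WithBot.coe_natCast, ← WithBot.coe_add, WithBot.coe_inj] at hdim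
      rw [← WithBot.coe_natCast, ← WithBot.coe_natCast, ← WithBot.coe_add, WithBot.coe_le_coe]
      norm_cast at hdim ⊢
      omega

/-- If the extension of an ideal to a faithfully flat local extension has few generators, so does
the ideal. -/
lemma spanFinrank_le_of_faithfullyFlat {R S : Type u} [CommRing R] [CommRing S] [Algebra R S]
    [IsLocalRing S] [IsNoetherianRing R] [IsNoetherianRing S] [Module.FaithfullyFlat R S] (I : Ideal R) :
    I.spanFinrank ≤ (I.map (algebraMap R S)).spanFinrank := by
  classical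
  by_contra hcon
  push Not at hcon
  obtain ⟨g, hg⟩ := exists_gens I (IsNoetherian.noetherian _)
  set J := I.map (algebraMap R S) with hJ
  obtain ⟨t, ht⟩ := exists_gens J (IsNoetherian.noetherian _)
  set g' : Fin I.spanFinrank → S := algebraMap R S ∘ g with hg'
  have hJg : Ideal.span (Set.range g') = J := by
    rw [hg', Set.range_comp, ← Ideal.map_span, hg]
  choose a ha using fun j =>
    Ideal.mem_span_range_iff_exists_fun.1 (show t j ∈ Ideal.span (Set.range g') from
      hJg.symm ▸ ht ▸ Ideal.subset_span ⟨j, rfl⟩)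
  choose b hb using fun i =>
    Ideal.mem_span_range_iff_exists_fun.1 (show g' i ∈ Ideal.span (Set.range t) from
      ht.symm ▸ hJg ▸ Ideal.subset_span ⟨i, rfl⟩)
  let M : Matrix (Fin I.spanFinrank) (Fin I.spanFinrank) S := 1 - Matrix.of b * Matrix.of a
  have hM : ∀ i, ∑ k, M i k * g' k = 0 := by
    intro i
    simp only [M, Matrix.sub_apply, sub_mul, Finset.sum_sub_distrib, Matrix.one_apply,
      Matrix.mul_apply, Matrix.of_apply, Finset.sum_mul, ite_mul, one_mul, zero_mul,
      Finset.sum_ite_eq, Finset.mem_univ, if_true]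
    rw [Finset.sum_comm, sub_eq_zero]
    simp_rw [mul_assoc, ← Finset.mul_sum, ha]
    exact (hb i).symm
  obtain ⟨i, k, hik⟩ : ∃ i k, IsUnit (M i k) := by
    by_contra hno
    push Not at hno
    have h1 : M.map (residue S) = 0 := by
      ext i k
      rw [Matrix.map_apply, Matrix.zero_apply, residue_eq_zero_iff]
      exact hno i k
    rw [Matrix.map_sub _ (map_sub (residue S)), Matrix.map_one _ (map_zero _) (map_one _),
      Matrix.map_mul, sub_eq_zero] at h1
    have hr := congrArg Matrix.rank h1
    rw [Matrix.rank_one, Fintype.card_fin] at hr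
    have := (Matrix.rank_mul_le_left ((Matrix.of b).map (residue S)) ((Matrix.of a).map (residue S))).trans
      (Matrix.rank_le_card_width _)
    rw [Fintype.card_fin] at this
    exact absurd (hr.trans_le this) (not_le.2 hcon)
  let S' : Finset R := (Finset.univ.erase k).image g
  have hk : g' k ∈ (Ideal.span (S' : Set R)).map (algebraMap R S) := by
    have h0 := hM i
    rw [← Finset.add_sum_erase _ _ (Finset.mem_univ k), add_eq_zero_iff_eq_neg] at h0
    refine (Ideal.unit_mul_mem_iff_mem _ hik).1 ?_
    rw [h0]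
    refine neg_mem (Ideal.sum_mem _ fun j hj => Ideal.mul_mem_left _ _ (Ideal.mem_map_of_mem _ ?_))
    exact Ideal.subset_span (Finset.mem_coe.2 (Finset.mem_image.2 ⟨j, hj, rfl⟩))
  have hle : I ≤ Ideal.span (S' : Set R) := by
    conv_lhs => rw [← hg]
    rw [Ideal.span_le]
    rintro _ ⟨j, rfl⟩
    rcases eq_or_ne j k with rfl | hj
    · have := Ideal.mem_comap.2 hk
      rwa [Ideal.comap_map_eq_self_of_faithfullyFlat] at this
    · exact Ideal.subset_span (Finset.mem_coe.2 (Finset.mem_image.2 ⟨j, by simp [hj], rfl⟩))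
  have hge : Ideal.span (S' : Set R) ≤ I := by
    rw [Ideal.span_le, Finset.coe_image]
    rintro _ ⟨j, -, rfl⟩
    exact hg.le (Ideal.subset_span ⟨j, rfl⟩)
  have hcard : (Ideal.span (S' : Set R)).spanFinrank < I.spanFinrank := by
    refine (Submodule.spanFinrank_span_le_ncard_of_finite (Finset.finite_toSet _)).trans_lt ?_
    rw [Set.ncard_coe_finset]
    refine Finset.card_image_le.trans_lt ?_
    rw [Finset.card_erase_of_mem (Finset.mem_univ _), Finset.card_univ, Fintype.card_fin]
    exact Nat.sub_lt k.pos one_pos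
  rw [le_antisymm hge hle] at hcard
  exact lt_irrefl _ hcard

/-- A quotient of a regular local ring is a complete intersection iff the ideal is generated by a
regular sequence. -/
theorem isCompleteIntersection_quotient_iff {R : Type u} [CommRing R] [IsRegularLocalRing R]
    (I : Ideal R) (hI : I ≠ ⊤) [IsLocalRing (R ⧸ I)] :
    Pi1.IsCompleteIntersection (R ⧸ I) ↔
      ∃ rs : List R, Ideal.ofList rs = I ∧ RingTheory.Sequence.IsRegular R rs := by
  have : Nontrivial (R ⧸ I) := Ideal.Quotient.nontrivial_iff.2 hI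
  have : IsRegularLocalRing (EGA4.Cpl R) := isRegularLocalRing_completion R
  have : Module.Flat R (EGA4.Cpl R) := AdicCompletion.flat_of_isNoetherian _
  have : Module.FaithfullyFlat R (EGA4.Cpl R) := Module.FaithfullyFlat.of_flat_of_isLocalHom
  obtain ⟨e⟩ := Groth.Agent.FlatAscent.exists_quotient_cpl_equiv R I
  let ec : EGA4.Cpl (R ⧸ I) ≃+* EGA4.Cpl R ⧸ I.map (algebraMap R (EGA4.Cpl R)) :=
    e.symm.toRingEquiv.trans ((Algebra.TensorProduct.comm R (R ⧸ I) (EGA4.Cpl R)).toRingEquiv.trans
      (Algebra.TensorProduct.quotIdealMapEquivTensorQuot (EGA4.Cpl R) I).symm.toRingEquiv)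
  constructor
  · rintro ⟨B, iB, iB', rs, hmem, hrs, ⟨eB⟩⟩
    let := iB
    let := iB'
    have : IsLocalRing (EGA4.Cpl R ⧸ I.map (algebraMap R (EGA4.Cpl R))) := ec.isLocalRing
    have h := spanFinrank_ker_le_of_ci rs hmem hrs (ec.symm.trans eB)
      (Ideal.Quotient.mk (I.map (algebraMap R (EGA4.Cpl R)))) Ideal.Quotient.mk_surjective
    rw [Ideal.mk_ker, ← ringKrullDim_eq_of_ringEquiv ec, FlatSerre.ringKrullDim_completion R,
      FlatSerre.ringKrullDim_completion (R ⧸ I)] at h
    refine exists_isRegular_of_spanFinrank_le I hI (le_trans ?_ h)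
    exact add_le_add le_rfl (Nat.cast_le.2 (spanFinrank_le_of_faithfullyFlat I))
  · rintro ⟨rs, hrs, hreg⟩
    refine ⟨EGA4.Cpl R, inferInstance, inferInstance, rs.map (algebraMap R (EGA4.Cpl R)), ?_,
      hreg.of_faithfullyFlat, ⟨ec.trans (Ideal.quotEquivOfEq ?_)⟩⟩
    · intro r hr
      obtain ⟨a, ha, rfl⟩ := List.mem_map.1 hr
      exact map_nonunit _ _ (le_maximalIdeal hI (hrs.le (Ideal.subset_span ha)))
    · change _ = Ideal.ofList _
      rw [← Ideal.map_ofList, hrs]

/-- Every regular presentation of a complete complete intersection is by a regular sequence. -/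
theorem ker_of_isCompleteIntersection {A R : Type u} [CommRing A] [CommRing R]
    [IsNoetherianRing A] [IsLocalRing A] [IsAdicComplete (maximalIdeal A) A]
    [IsRegularLocalRing R] (f : R →+* A) (hf : Function.Surjective f)
    (hA : Pi1.IsCompleteIntersection A) :
    ∃ rs : List R, Ideal.ofList rs = RingHom.ker f ∧ RingTheory.Sequence.IsRegular R rs := by
  obtain ⟨B, iB, iB', rs, hmem, hrs, ⟨eB⟩⟩ := hA
  let := iB
  let := iB'
  let eA : A ≃+* B ⧸ Ideal.ofList rs :=
    (AdicCompletion.ofAlgEquiv (maximalIdeal A)).toRingEquiv.trans eB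
  refine exists_isRegular_of_spanFinrank_le _ (RingHom.ker_ne_top _) ?_
  rw [ringKrullDim_eq_of_ringEquiv (RingHom.quotientKerEquivOfSurjective hf)]
  exact spanFinrank_ker_le_of_ci rs hmem hrs eA f hf

end Groth.Agent.CIPres
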