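import Mathlib
import Groth.Prelude.Def_Pi1

/-!
# Completion and the complete intersection property along ring isomorphisms
-/

set_option autoImplicit false
universe u

open IsLocalRing

noncomputable section

namespace Groth.Agent.CIPres

section

variable {A B : Type u} [CommRing A] [IsLocalRing A] [CommRing B] [IsLocalRing B]

lemma map_pow_maximalIdeal_le (e : A ≃+* B) (n : ℕ) :
    maximalIdeal A ^ n ≤ (maximalIdeal B ^ n).comap e.toRingHom := by
  refine le_trans ?_ (Ideal.le_comap_pow _ n)
  refine Ideal.pow_right_mono (fun x hx => ?_) n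
  change e x ∈ maximalIdeal B
  rw [mem_maximalIdeal, mem_nonunits_iff, isUnit_map_iff]
  exact hx

/-- The levelwise map. -/
def cplLevel (e : A ≃+* B) (n : ℕ) : AdicCompletion (maximalIdeal A) A →+* B ⧸ maximalIdeal B ^ n :=
  (Ideal.quotientMap _ e.toRingHom (map_pow_maximalIdeal_le e n)).comp
    (AdicCompletion.evalₐ (maximalIdeal A) n).toRingHom

lemma cplLevel_compat (e : A ≃+* B) {m n : ℕ} (hle : m ≤ n) :
    (Ideal.Quotient.factorPow (maximalIdeal B) hle).comp (cplLevel e n) = cplLevel e m := by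
  ext x
  obtain ⟨s, rfl⟩ := AdicCompletion.mk_surjective _ _ x
  simp only [cplLevel, RingHom.comp_apply, AlgHom.toRingHom_eq_coe, RingHom.coe_coe,
    AdicCompletion.evalₐ_mk, Ideal.quotientMap_mk, Ideal.Quotient.factorPow, Ideal.Quotient.factor_mk]
  rw [Ideal.Quotient.mk_eq_mk_iff_sub_mem, ← map_sub]
  refine map_pow_maximalIdeal_le e m ?_
  have := s.property hle
  rw [SModEq.sub_mem, smul_eq_mul, Ideal.mul_top] at this
  simpa using Ideal.neg_mem_iff _ |>.2 this

/-- The map of completions. -/
def cplMap (e : A ≃+* B) :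
    AdicCompletion (maximalIdeal A) A →+* AdicCompletion (maximalIdeal B) B :=
  AdicCompletion.liftRingHom _ (cplLevel e) (fun hle => cplLevel_compat e hle)

lemma evalₐ_cplMap (e : A ≃+* B) (n : ℕ) (x : AdicCompletion (maximalIdeal A) A) :
    AdicCompletion.evalₐ (maximalIdeal B) n (cplMap e x) =
      Ideal.quotientMap _ e.toRingHom (map_pow_maximalIdeal_le e n)
        (AdicCompletion.evalₐ (maximalIdeal A) n x) :=
  AdicCompletion.evalₐ_liftRingHom _ _ _ n x

lemma cplMap_cplMap (e : A ≃+* B) (x : AdicCompletion (maximalIdeal A) A) :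
    cplMap e.symm (cplMap e x) = x := by
  refine AdicCompletion.ext_evalₐ fun n => ?_
  rw [evalₐ_cplMap, evalₐ_cplMap]
  obtain ⟨a, ha⟩ := Ideal.Quotient.mk_surjective (AdicCompletion.evalₐ (maximalIdeal A) n x)
  rw [← ha, Ideal.quotientMap_mk, Ideal.quotientMap_mk]
  simp

/-- Completions of isomorphic local rings. -/
def cplEquiv (e : A ≃+* B) :
    AdicCompletion (maximalIdeal A) A ≃+* AdicCompletion (maximalIdeal B) B :=
  { cplMap e with
    invFun := cplMap e.symm
    left_inv := cplMap_cplMap e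
    right_inv := fun y => by simpa using cplMap_cplMap e.symm y }

/-- Being a complete intersection is invariant under isomorphisms. -/
theorem isCompleteIntersection_congr (e : A ≃+* B) :
    Pi1.IsCompleteIntersection A ↔ Pi1.IsCompleteIntersection B := by
  constructor
  · rintro ⟨C, i1, i2, rs, h1, h2, ⟨f⟩⟩
    exact ⟨C, i1, i2, rs, h1, h2, ⟨(cplEquiv e).symm.trans f⟩⟩
  · rintro ⟨C, i1, i2, rs, h1, h2, ⟨f⟩⟩
    exact ⟨C, i1, i2, rs, h1, h2, ⟨(cplEquiv e).trans f⟩⟩

end

end Groth.Agent.CIPres
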