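import Mathlib
import Groth.Prelude.Def_EGA4b
import Groth.Agent.CIPres.Completion
import Groth.Agent.CIPres.Congr
import Groth.Agent.FlatAscent.IadicFibre
import Groth.Agent.FlatDepthFormula.Basic
import Groth.Agent.FlatDescent.Critere
import Groth.Agent.LocCohLib.DualFinal

/-!
# Complete intersections over complete intersections
-/

set_option autoImplicit false
universe u

open IsLocalRing RingTheory.Sequence
open scoped TensorProduct

noncomputable section

namespace Groth.Agent.CIPres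

section levels

variable {B B' : Type u} [CommRing B] [CommRing B'] [IsLocalRing B] [IsLocalRing B'] (φ : B →+* B')

lemma exists_sub_mem_pow (hM : (maximalIdeal B).map φ = maximalIdeal B')
    (hsurj : ∀ y, ∃ x, φ x - y ∈ maximalIdeal B') (k : ℕ) :
    ∀ y, ∃ x, φ x - y ∈ maximalIdeal B' ^ k := by
  induction k with
  | zero => exact fun y => ⟨0, by simp⟩
  | succ k ih =>
    have key : ∀ z ∈ ((maximalIdeal B) ^ k).map φ, ∃ x, φ x - z ∈ maximalIdeal B' ^ (k + 1) := by
      intro z hz
      refine Submodule.span_induction (p := fun z _ => ∃ x, φ x - z ∈ maximalIdeal B' ^ (k + 1))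
        ?_ ⟨0, by simp⟩ ?_ ?_ hz
      · rintro _ ⟨a, -, rfl⟩
        exact ⟨a, by simp⟩
      · rintro a b - - ⟨x, hx⟩ ⟨x', hx'⟩
        exact ⟨x + x', by rw [map_add, add_sub_add_comm]; exact add_mem hx hx'⟩
      · rintro b z hz ⟨x, hx⟩
        obtain ⟨c, hc⟩ := hsurj b
        have hz' : z ∈ maximalIdeal B' ^ k := by rw [← hM, ← Ideal.map_pow]; exact hz
        refine ⟨c * x, ?_⟩
        rw [show φ (c * x) - b • z = φ c * (φ x - z) + (φ c - b) * z by
          rw [map_mul, smul_eq_mul]; ring]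
        refine add_mem (Ideal.mul_mem_left _ _ hx) ?_
        rw [pow_succ']
        exact Ideal.mul_mem_mul hc hz'
    intro y
    obtain ⟨x, hx⟩ := ih y
    obtain ⟨d, hd⟩ := key (φ x - y) (by rwa [Ideal.map_pow, hM])
    exact ⟨x - d, by rw [map_sub, sub_right_comm, ← neg_sub]; exact neg_mem hd⟩

/-- Being a complete intersection only depends on the quotients by the powers of the maximal ideal. -/
theorem ci_iff_of_levels (hM : (maximalIdeal B).map φ = maximalIdeal B')
    (hcomap : ∀ (k : ℕ) (x : B), φ x ∈ maximalIdeal B' ^ k → x ∈ maximalIdeal B ^ k)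
    (hsurj : ∀ y, ∃ x, φ x - y ∈ maximalIdeal B') :
    Pi1.IsCompleteIntersection B ↔ Pi1.IsCompleteIntersection B' := by
  have hle : ∀ k, maximalIdeal B ^ k ≤ (maximalIdeal B' ^ k).comap φ := fun k => by
    rw [← Ideal.map_le_iff_le_comap, Ideal.map_pow, hM]
  have hbij : ∀ k, Function.Bijective (Ideal.quotientMap (maximalIdeal B' ^ k) φ (hle k)) := fun k => by
    refine ⟨(injective_iff_map_eq_zero _).2 fun z hz => ?_, fun z => ?_⟩
    · obtain ⟨x, rfl⟩ := Ideal.Quotient.mk_surjective z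
      rw [Ideal.quotientMap_mk, Ideal.Quotient.eq_zero_iff_mem] at hz
      exact Ideal.Quotient.eq_zero_iff_mem.2 (hcomap k x hz)
    · obtain ⟨y, rfl⟩ := Ideal.Quotient.mk_surjective z
      obtain ⟨x, hx⟩ := exists_sub_mem_pow φ hM hsurj k y
      exact ⟨Ideal.Quotient.mk _ x, by rw [Ideal.quotientMap_mk, Ideal.Quotient.eq]; exact hx⟩
  obtain ⟨e, -⟩ := FlatAscent.Iadic.exists_completion_equiv (maximalIdeal B) (maximalIdeal B') φ
    (fun k => RingEquiv.ofBijective _ (hbij k)) (fun k c => by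
      rw [RingEquiv.ofBijective_apply]
      exact Ideal.quotientMap_mk)
  constructor
  · rintro ⟨R, iR, iR', rs, h1, h2, ⟨eB⟩⟩
    exact ⟨R, iR, iR', rs, h1, h2, ⟨e.symm.trans eB⟩⟩
  · rintro ⟨R, iR, iR', rs, h1, h2, ⟨eB⟩⟩
    exact ⟨R, iR, iR', rs, h1, h2, ⟨e.trans eB⟩⟩

end levels

/-- Quotients along flat local maps without residue extension. -/
theorem ci_quot_congr {C C' : Type u} [CommRing C] [CommRing C'] [IsLocalRing C] [IsLocalRing C']
    [Algebra C C'] [Module.FaithfullyFlat C C']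
    (hM : (maximalIdeal C).map (algebraMap C C') = maximalIdeal C')
    (hsurj : ∀ y, ∃ x, algebraMap C C' x - y ∈ maximalIdeal C')
    (J : Ideal C) (J' : Ideal C') (hJ' : J.map (algebraMap C C') = J')
    [IsLocalRing (C ⧸ J)] [IsLocalRing (C' ⧸ J')] :
    Pi1.IsCompleteIntersection (C ⧸ J) ↔ Pi1.IsCompleteIntersection (C' ⧸ J') := by
  subst hJ'
  have hq : maximalIdeal (C ⧸ J) = (maximalIdeal C).map (Ideal.Quotient.mk J) :=
    (IsLocalRing.map_maximalIdeal_of_surjective _ Ideal.Quotient.mk_surjective).symm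
  have hq' : maximalIdeal (C' ⧸ J.map (algebraMap C C')) =
      (maximalIdeal C').map (Ideal.Quotient.mk _) :=
    (IsLocalRing.map_maximalIdeal_of_surjective _ Ideal.Quotient.mk_surjective).symm
  refine ci_iff_of_levels (Ideal.quotientMap (J.map (algebraMap C C')) (algebraMap C C')
    Ideal.le_comap_map) ?_ ?_ ?_
  · rw [hq, hq', Ideal.map_map, ← hM, Ideal.map_map]
    rfl
  · intro k z hz
    obtain ⟨x, rfl⟩ := Ideal.Quotient.mk_surjective z
    rw [Ideal.quotientMap_mk, hq', ← Ideal.map_pow,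
      ← Ideal.mem_comap, Ideal.comap_map_of_surjective _ Ideal.Quotient.mk_surjective,
      ← RingHom.ker_eq_comap_bot, Ideal.mk_ker, ← hM, ← Ideal.map_pow, ← Ideal.map_sup,
      ← Ideal.mem_comap, Ideal.comap_map_eq_self_of_faithfullyFlat] at hz
    rw [hq, ← Ideal.map_pow, ← Ideal.mem_comap,
      Ideal.comap_map_of_surjective _ Ideal.Quotient.mk_surjective, ← RingHom.ker_eq_comap_bot,
      Ideal.mk_ker]
    exact hz
  · intro z
    obtain ⟨y, rfl⟩ := Ideal.Quotient.mk_surjective z
    obtain ⟨x, hx⟩ := hsurj y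
    refine ⟨Ideal.Quotient.mk _ x, ?_⟩
    rw [Ideal.quotientMap_mk, ← map_sub, hq']
    exact Ideal.mem_map_of_mem _ hx

lemma flat_mvPolynomial_map {A A' : Type u} [CommRing A] [CommRing A'] [Algebra A A']
    [Module.Flat A A'] (n : ℕ) : (MvPolynomial.map (σ := Fin n) (algebraMap A A')).Flat :=
  Groth.FlatDescent.flat_map (Fin n)

/-- A fibrewise regular quotient of a localised polynomial ring over a complete intersection is
a complete intersection. -/
theorem ci_ascent {A : Type u} [CommRing A] [IsLocalRing A] [IsNoetherianRing A]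
    (hA : Pi1.IsCompleteIntersection A) {n : ℕ} (Q : Ideal (MvPolynomial (Fin n) A)) [Q.IsPrime]
    (hQ : Q.comap MvPolynomial.C = maximalIdeal A) (fs : List (Localization.AtPrime Q))
    (hmem : ∀ f ∈ fs, f ∈ maximalIdeal (Localization.AtPrime Q))
    (hreg : IsWeaklyRegular
      (Localization.AtPrime Q ⧸ (maximalIdeal A).map (algebraMap A (Localization.AtPrime Q)))
      (fs.map (Ideal.Quotient.mk ((maximalIdeal A).map (algebraMap A (Localization.AtPrime Q))))))
    [IsLocalRing (Localization.AtPrime Q ⧸ Ideal.ofList fs)] :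
    Pi1.IsCompleteIntersection (Localization.AtPrime Q ⧸ Ideal.ofList fs) := by
  classical
  obtain ⟨R, iR, iR', rs, hrsm, hrsreg, ⟨eA⟩⟩ := hA
  let := iR
  let := iR'
  let π : R →+* EGA4.Cpl A := eA.symm.toRingHom.comp (Ideal.Quotient.mk _)
  have hπ : Function.Surjective π := eA.symm.surjective.comp Ideal.Quotient.mk_surjective
  have hπk : RingHom.ker π = Ideal.ofList rs := by
    ext a
    rw [RingHom.mem_ker]
    show eA.symm (Ideal.Quotient.mk _ a) = 0 ↔ _
    rw [eA.symm.map_eq_zero_iff, Ideal.Quotient.eq_zero_iff_mem]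
  let ι : A →+* EGA4.Cpl A := algebraMap A (EGA4.Cpl A)
  let Ψ : MvPolynomial (Fin n) A →+* MvPolynomial (Fin n) (EGA4.Cpl A) := MvPolynomial.map ι
  have hmk : ∀ a : A, a ∈ maximalIdeal A → Ideal.Quotient.mk Q (MvPolynomial.C a) = 0 := fun a ha =>
    Ideal.Quotient.eq_zero_iff_mem.2 (by rw [← Ideal.mem_comap, hQ]; exact ha)
  let γ : EGA4.Cpl A →+* MvPolynomial (Fin n) A ⧸ Q :=
    (Ideal.Quotient.lift (maximalIdeal A)
      ((Ideal.Quotient.mk Q).comp (MvPolynomial.C : A →+* MvPolynomial (Fin n) A)) hmk).comp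
      (AdicCompletion.evalOneₐ (maximalIdeal A)).toRingHom
  let θ : MvPolynomial (Fin n) (EGA4.Cpl A) →+* MvPolynomial (Fin n) A ⧸ Q :=
    MvPolynomial.eval₂Hom γ fun i => Ideal.Quotient.mk Q (MvPolynomial.X i)
  have hθΨ : θ.comp Ψ = Ideal.Quotient.mk Q := MvPolynomial.ringHom_ext
    (fun a => by
      show θ (MvPolynomial.map ι (MvPolynomial.C a)) = _
      rw [MvPolynomial.map_C, MvPolynomial.eval₂Hom_C]
      rfl)
    fun i => by
      show θ (MvPolynomial.map ι (MvPolynomial.X i)) = _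
      rw [MvPolynomial.map_X, MvPolynomial.eval₂Hom_X']
  have hθΨ' : ∀ z, θ (Ψ z) = Ideal.Quotient.mk Q z := fun z => congrArg (fun g => g z) hθΨ
  let Q' : Ideal (MvPolynomial (Fin n) (EGA4.Cpl A)) := RingHom.ker θ
  have : Q'.IsPrime := RingHom.ker_isPrime θ
  have hcm : Q = Q'.comap Ψ := by
    ext z
    rw [Ideal.mem_comap, RingHom.mem_ker, hθΨ', Ideal.Quotient.eq_zero_iff_mem]
  have hCplA : ∀ c : EGA4.Cpl A, ∃ a : A, c - ι a ∈ (maximalIdeal A).map ι := fun c => by
    obtain ⟨a, ha⟩ := Ideal.Quotient.mk_surjective (AdicCompletion.evalOneₐ (maximalIdeal A) c)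
    refine ⟨a, ?_⟩
    have hk := AdicCompletion.ker_evalOneₐ_eq_map (I := maximalIdeal A) (IsNoetherian.noetherian _)
    show c - ι a ∈ (maximalIdeal A).map (algebraMap A (EGA4.Cpl A))
    rw [← hk]
    show AdicCompletion.evalOneₐ (maximalIdeal A) (c - ι a) = 0
    rw [map_sub, ← ha, AlgHom.commutes, Ideal.Quotient.algebraMap_eq, sub_self]
  have hlift : ∀ z : MvPolynomial (Fin n) (EGA4.Cpl A), ∃ a, z - Ψ a ∈ Q.map Ψ := fun z => by
    induction z using MvPolynomial.induction_on with
    | C c =>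
      obtain ⟨a, ha⟩ := hCplA c
      refine ⟨MvPolynomial.C a, ?_⟩
      rw [show Ψ (MvPolynomial.C a) = MvPolynomial.C (ι a) from MvPolynomial.map_C _ _, ← map_sub]
      have h1 := Ideal.mem_map_of_mem (MvPolynomial.C (σ := Fin n)) ha
      rw [Ideal.map_map] at h1
      refine (Ideal.map_le_iff_le_comap.2 (fun m hm => ?_) : _ ≤ Q.map Ψ) h1
      rw [Ideal.mem_comap, RingHom.comp_apply, ← MvPolynomial.map_C]
      exact Ideal.mem_map_of_mem Ψ (by rw [← Ideal.mem_comap, hQ]; exact hm)
    | add p q hp hq =>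
      obtain ⟨a, ha⟩ := hp
      obtain ⟨b, hb⟩ := hq
      exact ⟨a + b, by rw [map_add, add_sub_add_comm]; exact add_mem ha hb⟩
    | mul_X p i hp =>
      obtain ⟨a, ha⟩ := hp
      refine ⟨a * MvPolynomial.X i, ?_⟩
      rw [map_mul, show Ψ (MvPolynomial.X i) = MvPolynomial.X i from MvPolynomial.map_X _ _, ← sub_mul]
      exact Ideal.mul_mem_right _ _ ha
  have hQmap : Q.map Ψ = Q' := by
    refine le_antisymm (Ideal.map_le_iff_le_comap.2 hcm.le) fun z hz => ?_
    obtain ⟨a, ha⟩ := hlift z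
    have h1 : θ (z - Ψ a) = 0 := by
      have : Q.map Ψ ≤ Q' := Ideal.map_le_iff_le_comap.2 hcm.le
      exact this ha
    rw [map_sub, RingHom.mem_ker.1 hz, zero_sub, neg_eq_zero, hθΨ', Ideal.Quotient.eq_zero_iff_mem] at h1
    simpa using add_mem ha (Ideal.mem_map_of_mem Ψ h1)
  let L := Localization.AtPrime Q
  let L' := Localization.AtPrime Q'
  let ψ : L →+* L' := Localization.localRingHom Q Q' Ψ hcm
  have : Module.Flat A (EGA4.Cpl A) := AdicCompletion.flat_of_isNoetherian _
  have hψflat : ψ.Flat := RingHom.Flat.localRingHom (flat_mvPolynomial_map n) Q' Q hcm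
  let := ψ.toAlgebra
  have : Module.Flat L L' := hψflat
  have : IsLocalHom (algebraMap L L') := Localization.isLocalHom_localRingHom Q Q' Ψ hcm
  have : Module.FaithfullyFlat L L' := Module.FaithfullyFlat.of_flat_of_isLocalHom
  have hψ : ∀ z, ψ (algebraMap _ L z) = algebraMap _ L' (Ψ z) :=
    fun z => Localization.localRingHom_to_map Q Q' Ψ hcm z
  have hM : (maximalIdeal L).map (algebraMap L L') = maximalIdeal L' := by
    refine Eq.trans ?_ (Localization.AtPrime.map_eq_maximalIdeal (I := Q'))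
    rw [← Localization.AtPrime.map_eq_maximalIdeal (I := Q), Ideal.map_map]
    refine Eq.trans ?_ (congrArg (Ideal.map (algebraMap _ L')) hQmap)
    rw [Ideal.map_map]
    exact congrArg (fun g => Ideal.map g Q) (RingHom.ext hψ)
  have hsurj : ∀ y, ∃ x, algebraMap L L' x - y ∈ maximalIdeal L' := fun y => by
    obtain ⟨⟨p, s⟩, hy⟩ := IsLocalization.surj Q'.primeCompl y
    obtain ⟨a, ha⟩ := hlift p
    obtain ⟨b, hb⟩ := hlift s
    have hbQ : b ∉ Q := fun h => s.2 (by
      rw [SetLike.mem_coe, ← sub_add_cancel (s : MvPolynomial (Fin n) (EGA4.Cpl A)) (Ψ b)]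
      exact add_mem (hQmap.le hb) (hQmap.le (Ideal.mem_map_of_mem Ψ h)))
    refine ⟨algebraMap _ L a * ↑(IsLocalization.map_units L (⟨b, hbQ⟩ : Q.primeCompl)).unit⁻¹, ?_⟩
    have hu : IsUnit (algebraMap _ L' (Ψ b)) := by
      rw [← hψ]; exact (IsLocalization.map_units L (⟨b, hbQ⟩ : Q.primeCompl)).map ψ
    refine (Ideal.mul_unit_mem_iff_mem _ hu).1 ?_
    have h1 : ψ (algebraMap _ L a * ↑(IsLocalization.map_units L (⟨b, hbQ⟩ : Q.primeCompl)).unit⁻¹) *
        algebraMap _ L' (Ψ b) = algebraMap _ L' (Ψ a) := by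
      rw [← hψ, ← map_mul, mul_assoc, IsUnit.val_inv_mul, mul_one, hψ]
    show (ψ _ - y) * _ ∈ _
    rw [sub_mul, h1, show y * algebraMap _ L' (Ψ b) =
      algebraMap _ L' p - y * algebraMap _ L' (↑s - Ψ b) by rw [map_sub, mul_sub, hy]; ring,
      ← sub_add, ← map_sub]
    have hmm : ∀ z ∈ Q.map Ψ, algebraMap _ L' z ∈ maximalIdeal L' := fun z hz => by
      rw [← Localization.AtPrime.map_eq_maximalIdeal (I := Q')]
      exact Ideal.mem_map_of_mem _ (hQmap.le hz)
    refine add_mem (hmm _ (by rw [← neg_sub]; exact neg_mem ha)) (Ideal.mul_mem_left _ _ (hmm _ hb))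
  have : IsLocalHom (algebraMap A L) := ⟨fun a ha => by
    by_contra hna
    have h1 : MvPolynomial.C a ∈ Q := by rw [← Ideal.mem_comap, hQ]; exact hna
    rw [IsScalarTower.algebraMap_apply A (MvPolynomial (Fin n) A) L] at ha
    exact (IsLocalization.AtPrime.isUnit_to_map_iff L Q _).1 ha h1⟩
  have hw : IsWeaklyRegular L fs := by
    refine FlatDepthFormula.isWeaklyRegular_self (A := A) (M := L) fs ?_
    rw [FlatDepthFormula.isWeaklyRegular_fibre_iff]
    have e : ((maximalIdeal A).map (algebraMap A L) • (⊤ : Submodule L L)) =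
        (maximalIdeal A).map (algebraMap A L) := by rw [smul_eq_mul, Ideal.mul_top]
    rw [(Submodule.quotEquivOfEq _ _ e).isWeaklyRegular_congr,
      ← isWeaklyRegular_map_algebraMap_iff (L ⧸ (maximalIdeal A).map (algebraMap A L))]
    exact hreg
  have hw' : IsWeaklyRegular L' (fs.map (algebraMap L L')) := hw.of_flat
  let φ : MvPolynomial (Fin n) R →+* MvPolynomial (Fin n) (EGA4.Cpl A) := MvPolynomial.map π
  have hφ : Function.Surjective φ := MvPolynomial.map_surjective π hπ
  let P : Ideal (MvPolynomial (Fin n) R) := Q'.comap φ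
  have hPQ : Q' = P.map φ := (Ideal.map_comap_of_surjective φ hφ Q').symm
  let T := Localization.AtPrime P
  have : IsRegularRing R := LocCohLib.isRegularRing_of_isRegularLocalRing R
  have : IsRegularLocalRing T := IsRegularRing.isRegularLocalRing_localization P
  let χ : T →+* L' := Localization.localRingHom P Q' φ rfl
  have hMS : P.primeCompl.map φ = Q'.primeCompl := by
    ext z
    constructor
    · rintro ⟨w, hw, rfl⟩; exact hw
    · intro hz
      obtain ⟨w, rfl⟩ := hφ z
      exact ⟨w, hz, rfl⟩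
  have : IsLocalization (P.primeCompl.map φ) L' := by rw [hMS]; infer_instance
  have hχmap : χ = IsLocalization.map L' φ P.primeCompl.le_comap_map :=
    IsLocalization.ringHom_ext P.primeCompl (RingHom.ext fun z => by
      show χ (algebraMap _ T z) = IsLocalization.map L' φ P.primeCompl.le_comap_map (algebraMap _ T z)
      rw [IsLocalization.map_eq]
      exact Localization.localRingHom_to_map P Q' φ rfl z)
  have hχ : Function.Surjective χ := by
    rw [hχmap]
    intro y
    obtain ⟨⟨p, s⟩, hy⟩ := IsLocalization.surj (P.primeCompl.map φ) y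
    obtain ⟨w, hwP, hw⟩ := s.2
    obtain ⟨q, rfl⟩ := hφ p
    refine ⟨IsLocalization.mk' T q ⟨w, hwP⟩, ?_⟩
    rw [IsLocalization.map_mk']
    apply IsLocalization.mk'_eq_iff_eq_mul.2
    show _ = y * algebraMap _ L' (φ w)
    rw [hw]
    exact hy.symm
  have hχk : RingHom.ker χ = Ideal.ofList (rs.map (algebraMap R T)) := by
    rw [hχmap, IsLocalization.ker_map (S := T) (T := P.primeCompl.map φ) L' φ rfl,
      MvPolynomial.ker_map, hπk, Ideal.map_map, ← Ideal.map_ofList]
    rfl
  choose lift hlift' using hχ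
  let ft : List T := fs.map fun f => lift (algebraMap L L' f)
  have hft : ft.map χ = fs.map (algebraMap L L') := by
    rw [List.map_map]
    exact List.map_congr_left fun f _ => hlift' _
  have hsurjχ : Function.Surjective χ := fun y => ⟨_, hlift' y⟩
  have hwT : IsWeaklyRegular T (rs.map (algebraMap R T) ++ ft) := by
    rw [isWeaklyRegular_append_iff']
    refine ⟨hrsreg.toIsWeaklyRegular.of_flat, ?_⟩
    let e : T ⧸ (Ideal.ofList (rs.map (algebraMap R T)) • ⊤ : Submodule T T) ≃+ L' :=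
      ((Submodule.quotEquivOfEq (Ideal.ofList (rs.map (algebraMap R T)) • ⊤ : Submodule T T)
          (RingHom.ker χ) (by rw [smul_eq_mul, Ideal.mul_top, hχk])).toAddEquiv).trans
        (RingHom.quotientKerEquivOfSurjective hsurjχ).toAddEquiv
    rw [e.isWeaklyRegular_congr (as := ft.map (Ideal.Quotient.mk _)) (bs := ft.map χ)]
    · rwa [hft]
    · refine List.forall₂_map_right_iff.2 (List.forall₂_map_left_iff.2
        (List.forall₂_same.2 fun a _ z => ?_))
      obtain ⟨w, rfl⟩ := Submodule.Quotient.mk_surjective _ z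
      exact map_mul χ a w
  have hcoll : (rs.map (algebraMap R T) ++ ft).map χ = (rs.map (algebraMap R T)).map χ ++ fs.map (algebraMap L L') := by
    rw [List.map_append, hft]
  set J' : Ideal L' := (Ideal.ofList fs).map (algebraMap L L') with hJ'
  have hker : RingHom.ker ((Ideal.Quotient.mk J').comp χ) =
      Ideal.ofList (rs.map (algebraMap R T) ++ ft) := by
    rw [← RingHom.comap_ker, Ideal.mk_ker, hJ', Ideal.map_ofList, ← hft, ← Ideal.map_ofList,
      Ideal.comap_map_of_surjective χ hsurjχ, ← RingHom.ker_eq_comap_bot, hχk, Ideal.ofList_append,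
      sup_comm]
  have hJne : J' ≠ ⊤ := ne_top_of_le_ne_top (maximalIdeal.isMaximal L').ne_top
    ((Ideal.map_mono (Ideal.span_le.2 fun f hf => hmem f hf)).trans hM.le)
  have : Nontrivial (L' ⧸ J') := Ideal.Quotient.nontrivial_iff.2 hJne
  have : IsLocalRing (L' ⧸ J') := IsLocalRing.of_surjective' (Ideal.Quotient.mk J') Ideal.Quotient.mk_surjective
  let eT : (T ⧸ Ideal.ofList (rs.map (algebraMap R T) ++ ft)) ≃+* L' ⧸ J' :=
    (Ideal.quotEquivOfEq hker.symm).trans
      (RingHom.quotientKerEquivOfSurjective (Ideal.Quotient.mk_surjective.comp hsurjχ))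
  have hne : Ideal.ofList (rs.map (algebraMap R T) ++ ft) ≠ ⊤ :=
    hker ▸ RingHom.ker_ne_top _
  have : Nontrivial (T ⧸ Ideal.ofList (rs.map (algebraMap R T) ++ ft)) :=
    Ideal.Quotient.nontrivial_iff.2 hne
  have : IsLocalRing (T ⧸ Ideal.ofList (rs.map (algebraMap R T) ++ ft)) :=
    IsLocalRing.of_surjective' (Ideal.Quotient.mk _) Ideal.Quotient.mk_surjective
  rw [ci_quot_congr hM hsurj (Ideal.ofList fs) J' rfl, ← isCompleteIntersection_congr (A := T ⧸ Ideal.ofList (rs.map (algebraMap R T) ++ ft)) eT,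
    isCompleteIntersection_quotient_iff _ hne]
  refine ⟨_, rfl, (RingTheory.Sequence.isRegular_iff _ _).2 ⟨hwT, ?_⟩⟩
  rw [smul_eq_mul, Ideal.mul_top]
  exact hne.symm

end Groth.Agent.CIPres
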