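import Mathlib
import Groth.Prelude.Def_CInt
import Groth.Prelude.Def_Mor2
import Groth.Agent.CIPres.Completion
import Groth.Agent.CIPres.Congr
import Groth.Agent.ArtinFlat.RegSeq
import Groth.Agent.RegSeq.Basic
import Groth.Agent.S18941
import Groth.Agent.RegEmbed.Scheme
import Groth.Agent.FlatDescent.Slicing.Scheme

/-!
# Regular immersions of flat schemes and complete intersection fibres
-/

set_option autoImplicit false
universe u

open CategoryTheory AlgebraicGeometry IsLocalRing RingTheory.Sequence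

noncomputable section

namespace Groth.Agent.CIPres

/-- A regular sequence with flat quotient stays regular in a Noetherian local fibre. -/
theorem isWeaklyRegular_fibre {A C : Type u} [CommRing A] [CommRing C] [Algebra A C]
    (p : Ideal A) [IsLocalRing (C ⧸ p.map (algebraMap A C))]
    [IsNoetherianRing (C ⧸ p.map (algebraMap A C))] (rs : List C) (hrs : IsWeaklyRegular C rs)
    (hmem : ∀ r ∈ rs, Ideal.Quotient.mk (p.map (algebraMap A C)) r ∈
      maximalIdeal (C ⧸ p.map (algebraMap A C)))
    [Module.Flat A (C ⧸ Ideal.ofList rs)] :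
    IsWeaklyRegular (C ⧸ p.map (algebraMap A C))
      (rs.map (Ideal.Quotient.mk (p.map (algebraMap A C)))) := by
  set I := p.map (algebraMap A C) with hI
  let mk := Ideal.Quotient.mk I
  have hspan : Ideal.span (Set.range rs.get) = Ideal.ofList rs := by
    rw [← ArtinFlat.ofList_ofFn, List.ofFn_get]
  have hH : CAlgX.IsH1Regular rs.get :=
    RegSeq.isH1Regular_of_isKoszulRegularSeq (RegSeq.isKoszulRegularSeq_of_isWeaklyRegular hrs)
  have h := S18941.result (fun i => mk (rs.get i)) (C ⧸ I) (fun N N' =>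
    IsHausdorff.of_le_jacobson _ _ ((Ideal.span_le.2 fun x hx => by
      obtain ⟨i, rfl⟩ := hx
      exact hmem _ (List.get_mem _ _)).trans (maximalIdeal_le_jacobson _))) ?_
  · convert h using 1
    conv_lhs => rw [← List.ofFn_get rs, List.map_ofFn]
    rfl
  intro m hm
  choose c hc using fun i => Ideal.Quotient.mk_surjective (I := I) (m i)
  have h0 : ∑ i, rs.get i * c i ∈ I := by
    rw [← Ideal.Quotient.eq_zero_iff_mem, map_sum, ← hm]
    exact Finset.sum_congr rfl fun i _ => by rw [map_mul, hc, smul_eq_mul]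
  have h1 : ∑ i, rs.get i * c i ∈ Ideal.ofList rs :=
    Ideal.sum_mem _ fun i _ => Ideal.mul_mem_right _ _ (Ideal.subset_span (List.get_mem _ _))
  have h2 := ArtinFlat.mem_smul_of_flat_quotient (Ideal.ofList rs) p h0 h1
  rw [mul_comm, ← hspan] at h2
  obtain ⟨d, hd, hde⟩ := exists_sum_of_mem_mul rs.get I h2
  have h3 : c - d ∈ RegSeq.triv rs.get := hH _ (by
    simp only [Pi.sub_apply, sub_mul, Finset.sum_sub_distrib]
    rw [Fintype.linearCombination_apply] at hde
    simp only [smul_eq_mul] at hde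
    rw [hde, sub_eq_zero]
    exact Finset.sum_congr rfl fun i _ => mul_comm _ _)
  have h4 := RegSeq.map_mem_triv mk h3
  rw [show mk ∘ (c - d) = m from funext fun i => by
    simp only [Function.comp_apply, Pi.sub_apply, map_sub]
    rw [show mk (d i) = 0 from Ideal.Quotient.eq_zero_iff_mem.2 (hd i), sub_zero]
    exact hc i] at h4
  refine Submodule.span_mono ?_ h4
  rintro _ ⟨i, j, rfl⟩
  refine ⟨i, j, 1, ?_⟩
  simp [← Pi.single_smul]

/-- Lifts of generators of the ideal of the fibre generate. -/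
theorem exists_lift_gens {A C : Type u} [CommRing A] [IsLocalRing A] [CommRing C] [IsLocalRing C]
    [Algebra A C] [IsLocalHom (algebraMap A C)] (J : Ideal C) (hJ : J.FG) [Module.Flat A (C ⧸ J)]
    (rb : List (C ⧸ (maximalIdeal A).map (algebraMap A C)))
    (hrb : Ideal.ofList rb = J.map (Ideal.Quotient.mk _)) :
    ∃ rs : List C, rs.map (Ideal.Quotient.mk _) = rb ∧ Ideal.ofList rs = J := by
  classical
  have hlift : ∀ r ∈ rb, ∃ c ∈ J, Ideal.Quotient.mk ((maximalIdeal A).map (algebraMap A C)) c = r := fun r hr =>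
    (Ideal.mem_map_iff_of_surjective _ Ideal.Quotient.mk_surjective).1
      (hrb.le (Ideal.subset_span hr))
  choose! f hfJ hf using hlift
  have hmap : (rb.map f).map (Ideal.Quotient.mk ((maximalIdeal A).map (algebraMap A C))) = rb := by
    rw [List.map_map]
    conv_rhs => rw [← List.map_id rb]
    exact List.map_congr_left fun r hr => hf r hr
  have hle : Ideal.ofList (rb.map f) ≤ J := Ideal.span_le.2 fun x hx => by
    obtain ⟨r, hr, rfl⟩ := List.mem_map.1 hx
    exact hfJ r hr
  refine ⟨rb.map f, hmap, le_antisymm hle (Submodule.le_of_le_smul_of_le_jacobson_bot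
    (I := maximalIdeal C) hJ (maximalIdeal_le_jacobson _) fun y hy => ?_)⟩
  have h1 : Ideal.Quotient.mk ((maximalIdeal A).map (algebraMap A C)) y ∈ (Ideal.ofList (rb.map f)).map (Ideal.Quotient.mk ((maximalIdeal A).map (algebraMap A C))) := by
    rw [Ideal.map_ofList, hmap, hrb]
    exact Ideal.mem_map_of_mem _ hy
  obtain ⟨j, hj, hjy⟩ := (Ideal.mem_map_iff_of_surjective _ Ideal.Quotient.mk_surjective).1 h1
  have h2 := ArtinFlat.mem_smul_of_flat_quotient (C := A) J (maximalIdeal A)
    (Ideal.Quotient.eq.1 hjy.symm) (J.sub_mem hy (hle hj))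
  rw [← add_sub_cancel j y]
  refine Submodule.add_mem_sup hj ?_
  rw [smul_eq_mul, mul_comm (maximalIdeal C)]
  exact Ideal.mul_mono_right (IsLocalRing.map_maximalIdeal_le (algebraMap A C)) h2

/-- A quotient of a quotient. -/
theorem nonempty_quot_map_equiv {C B : Type u} [CommRing C] [CommRing B] (φ : C →+* B)
    (hφ : Function.Surjective φ) (I : Ideal C) :
    Nonempty ((C ⧸ I) ⧸ (RingHom.ker φ).map (Ideal.Quotient.mk I) ≃+* B ⧸ I.map φ) := by
  have hs : Function.Surjective ((Ideal.Quotient.mk (I.map φ)).comp φ) :=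
    Ideal.Quotient.mk_surjective.comp hφ
  refine ⟨(DoubleQuot.quotQuotEquivQuotSup I (RingHom.ker φ)).trans
    ((Ideal.quotEquivOfEq ?_).trans (RingHom.quotientKerEquivOfSurjective hs))⟩
  rw [← RingHom.comap_ker, Ideal.mk_ker, Ideal.comap_map_of_surjective φ hφ, RingHom.ker_eq_comap_bot]

/-- Finitely many inverted elements carry an inclusion of ideals to a localisation. -/
theorem exists_mul_mem {R : Type u} [CommRing R] (p : Ideal R) [hp : p.IsPrime] (S : Type u)
    [CommRing S] [Algebra R S] [IsLocalization.AtPrime S p] (I J : Ideal R) (hI : I.FG)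
    (h : I.map (algebraMap R S) ≤ J.map (algebraMap R S)) : ∃ s ∉ p, ∀ y ∈ I, s * y ∈ J := by
  classical
  obtain ⟨T, hT⟩ := hI
  have key : ∀ y : R, ∃ s ∉ p, y ∈ I → s * y ∈ J := fun y => by
    by_cases hy : y ∈ I
    · obtain ⟨s, hs, hsy⟩ := (IsLocalization.algebraMap_mem_map_algebraMap_iff p.primeCompl
        S J y).1 (h (Ideal.mem_map_of_mem _ hy))
      exact ⟨s, hs, fun _ => hsy⟩
    · exact ⟨1, fun h => hp.ne_top ((Ideal.eq_top_iff_one _).mpr h), fun h' => absurd h' hy⟩
  choose s hs hsy using key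
  have hprod : ∏ y ∈ T, s y ∈ p.primeCompl := Submonoid.prod_mem _ fun y _ => hs y
  refine ⟨∏ y ∈ T, s y, hprod, fun y hy => ?_⟩
  rw [← hT] at hy
  induction hy using Submodule.span_induction with
  | mem y hy =>
    rw [← Finset.prod_erase_mul T s hy, mul_assoc]
    exact J.mul_mem_left _ (hsy y (hT.le (Submodule.subset_span hy)))
  | zero => simp
  | add a b _ _ ha hb => rw [mul_add]; exact J.add_mem ha hb
  | smul r a _ ha => rw [smul_eq_mul, mul_left_comm]; exact J.mul_mem_left _ ha

theorem nonempty_fiberStalk_equiv {X S : Scheme.{u}} (g : X ⟶ S) (x : X) :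
    Nonempty (CInt.fiberStalk g x ≃+* X.presheaf.stalk x ⧸ FlatDescent.maxExt g x) := by
  have key : ∀ p, g.fiberι (g x) (g.asFiber x) = p →
      Nonempty (CInt.fiberStalk g x ≃+* X.presheaf.stalk p ⧸ FlatDescent.maxExt g p) := by
    rintro _ rfl
    exact ⟨((Ideal.quotEquivOfEq (FlatDescent.ker_stalkMap_fiberι g (g x) (g.asFiber x)).symm).trans
      (RingHom.quotientKerEquivOfSurjective
        ((g.fiberι (g x)).stalkMap_surjective (g.asFiber x)))).symm⟩
  exact key x (g.fiberι_asFiber x)

end Groth.Agent.CIPres
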