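import Mathlib
import Groth.Agent.CIPres.FlatRegImm
import Groth.Agent.SmoothDense.GeomReg

/-!
# Local rings of fibres: smooth morphisms and open immersions
-/

set_option autoImplicit false
universe u

open CategoryTheory CategoryTheory.Limits AlgebraicGeometry

noncomputable section

namespace Groth.Agent.CIPres

/-- Fibres of smooth morphisms have regular local rings. -/
theorem isRegularLocalRing_fiberStalk {X S : Scheme.{u}} (g : X ⟶ S) [Smooth g] (x : X) :
    IsRegularLocalRing (CInt.fiberStalk g x) := by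
  haveI : Smooth (g.fiberToSpecResidueField (g x)) :=
    MorphismProperty.pullback_snd (P := @Smooth) _ _ inferInstance
  let t : g.fiber (g x) ⟶ Spec (CommRingCat.of (S.residueField (g x))) :=
    g.fiberToSpecResidueField (g x)
  haveI : Smooth t := this
  exact SmoothDense.isRegular_of_mem_smoothLocus (k := S.residueField (g x)) t
    (by rw [Scheme.Hom.smoothLocus_eq_top]; trivial)

theorem nonempty_fiberStalk_comp_equiv {U X S : Scheme.{u}} (i : U ⟶ X) [IsOpenImmersion i]
    (f : X ⟶ S) (u : U) : Nonempty (CInt.fiberStalk (i ≫ f) u ≃+* CInt.fiberStalk f (i u)) := by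
  obtain ⟨e₁⟩ := nonempty_fiberStalk_equiv (i ≫ f) u
  obtain ⟨e₂⟩ := nonempty_fiberStalk_equiv f (i u)
  exact ⟨e₁.trans ((Ideal.quotientEquiv (FlatDescent.maxExt f (i u)) (FlatDescent.maxExt (i ≫ f) u)
    (asIso (i.stalkMap u)).commRingCatIsoToRingEquiv (FlatDescent.maxExt_comp i f u)).symm.trans e₂.symm)⟩

theorem smooth_specMap_C {R : Type u} [CommRing R] (n : ℕ) :
    Smooth (Spec.map (CommRingCat.ofHom (MvPolynomial.C : R →+* MvPolynomial (Fin n) R))) := by
  rw [HasRingHomProperty.Spec_iff (P := @Smooth)]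
  show RingHom.Smooth (algebraMap R (MvPolynomial (Fin n) R))
  rw [RingHom.smooth_algebraMap]
  exact ⟨inferInstance, inferInstance⟩

/-- Locally a morphism locally of finite presentation embeds in an affine space over the base. -/
theorem exists_chart {X S : Scheme.{u}} (f : X ⟶ S) [LocallyOfFinitePresentation f] (x : X) :
    ∃ (U : X.Opens) (P : Scheme.{u}) (g : P ⟶ S) (j : U.toScheme ⟶ P),
      x ∈ U ∧ Smooth g ∧ IsClosedImmersion j ∧ j ≫ g = U.ι ≫ f := by
  obtain ⟨V, hV, hxV, -⟩ :=
    exists_isAffineOpen_mem_and_subset (X := S) (U := ⊤) (x := f x) trivial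
  obtain ⟨U, hU, hxU, hUV⟩ :=
    exists_isAffineOpen_mem_and_subset (X := X) (U := f ⁻¹ᵁ V) (x := x) hxV
  letI := (f.appLE V U hUV).hom.toAlgebra
  haveI : Algebra.FinitePresentation Γ(S, V) Γ(X, U) :=
    HasRingHomProperty.appLE @LocallyOfFinitePresentation f inferInstance ⟨V, hV⟩ ⟨U, hU⟩ hUV
  obtain ⟨n, π, hπ, -⟩ := Algebra.FinitePresentation.out (R := Γ(S, V)) (A := Γ(X, U))
  haveI := smooth_specMap_C (R := Γ(S, V)) n
  haveI : IsClosedImmersion (Spec.map (CommRingCat.ofHom π.toRingHom)) :=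
    IsClosedImmersion.spec_of_surjective _ hπ
  refine ⟨U, Spec (CommRingCat.of (MvPolynomial (Fin n) Γ(S, V))),
    Spec.map (CommRingCat.ofHom MvPolynomial.C) ≫ hV.fromSpec,
    hU.isoSpec.hom ≫ Spec.map (CommRingCat.ofHom π.toRingHom), hxU, inferInstance, inferInstance, ?_⟩
  have hc : CommRingCat.ofHom (MvPolynomial.C : Γ(S, V) →+* MvPolynomial (Fin n) Γ(S, V)) ≫
      CommRingCat.ofHom π.toRingHom = f.appLE V U hUV :=
    CommRingCat.hom_ext (RingHom.ext π.commutes)
  rw [Category.assoc, ← Spec.map_comp_assoc, hc, hU.isoSpec_hom,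
    IsAffineOpen.SpecMap_appLE_fromSpec f hV hU hUV, ← Category.assoc]
  congr 1
  rw [← hU.isoSpec_hom, hU.isoSpec_hom_fromSpec]

end Groth.Agent.CIPres
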