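import Mathlib
import Groth.Agent.CIPres.Completion
import Groth.Agent.CIPres.Congr
import Groth.Agent.CIPres.Fibre
import Groth.Agent.RegEmbed.Scheme
import Groth.Agent.FlatDescent.NilThick
import Groth.Agent.ArtinFlat.RegSeq

/-!
# Complete intersections and flat maps of regular rings
-/

set_option autoImplicit false
universe u

open CategoryTheory CategoryTheory.Limits AlgebraicGeometry IsLocalRing RingTheory.Sequence

noncomputable section

namespace Groth.Agent.CIPres

/-- Along a flat local map of regular local rings, being cut out by a regular sequence ascends and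
descends. -/
theorem ci_quot_flat_iff {R R' : Type u} [CommRing R] [CommRing R'] [IsRegularLocalRing R]
    [IsRegularLocalRing R'] [Algebra R R'] [Module.FaithfullyFlat R R'] (I : Ideal R) (I' : Ideal R')
    (hI' : I.map (algebraMap R R') = I') (hI : I ≠ ⊤) [IsLocalRing (R ⧸ I)] [IsLocalRing (R' ⧸ I')] :
    Pi1.IsCompleteIntersection (R ⧸ I) ↔ Pi1.IsCompleteIntersection (R' ⧸ I') := by
  subst hI'
  have hI'ne : I.map (algebraMap R R') ≠ ⊤ := Ideal.Quotient.nontrivial_iff.1 inferInstance
  rw [isCompleteIntersection_quotient_iff I hI, isCompleteIntersection_quotient_iff _ hI'ne]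
  constructor
  · rintro ⟨rs, hrs, hreg⟩
    exact ⟨rs.map (algebraMap R R'), by rw [← Ideal.map_ofList, hrs], hreg.of_faithfullyFlat⟩
  rintro ⟨rs', hrs', hreg'⟩
  obtain ⟨g, hg⟩ := exists_gens I (IsNoetherian.noetherian _)
  have hl : Ideal.ofList (List.ofFn g) = I := (ArtinFlat.ofList_ofFn g).trans hg
  have hcard : I.spanFinrank ≤ rs'.length := by
    refine (spanFinrank_le_of_faithfullyFlat (S := R') I).trans ?_
    rw [← hrs', ← List.ofFn_get rs', ArtinFlat.ofList_ofFn]
    exact (spanFinrank_le_card _).trans (by simp)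
  have hdim := ringKrullDim_add_length_eq_ringKrullDim_of_isRegular rs' hreg'
  rw [hrs'] at hdim
  have hl' : Ideal.ofList ((List.ofFn g).map (algebraMap R R')) = I.map (algebraMap R R') := by
    rw [← Ideal.map_ofList, hl]
  have := DepthLib.isCohenMacaulayLocalRing_of_isRegularLocalRing R'
  have hw : IsWeaklyRegular R' ((List.ofFn g).map (algebraMap R R')) := by
    refine DepthLib.isWeaklyRegular_of_supportDim_drop _ R' DepthLib.isCohenMacaulayModule_self
      (fun r hr => le_maximalIdeal hI'ne (hl'.le (Ideal.subset_span hr))) ?_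
    rw [Module.supportDim_eq_of_equiv (Submodule.quotEquivOfEq
        (Ideal.ofList ((List.ofFn g).map (algebraMap R R')) • ⊤ : Submodule R' R')
        (I.map (algebraMap R R')) (by rw [smul_eq_mul, Ideal.mul_top, hl'])),
      Module.supportDim_quotient_eq_ringKrullDim, Module.supportDim_self_eq_ringKrullDim,
      List.length_map, List.length_ofFn, ← hdim]
    exact add_le_add le_rfl (Nat.cast_le.2 hcard)
  refine ⟨List.ofFn g, hl, (RingTheory.Sequence.isRegular_iff _ _).2 ⟨?_, ?_⟩⟩
  · rw [ArtinFlat.isWeaklyRegular_iff_regMod] at hw ⊢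
    intro i hi y hy
    rw [bot_sup_eq] at hy ⊢
    have h := hw i (by simpa using hi) (algebraMap R R' y)
    rw [List.getElem_map, ← map_mul, ← List.map_take, bot_sup_eq, ← Ideal.map_ofList] at h
    rw [← Ideal.comap_map_eq_self_of_faithfullyFlat (B := R') (Ideal.ofList ((List.ofFn g).take i))]
    exact h (Ideal.mem_map_of_mem _ hy)
  · rw [hl, smul_eq_mul, Ideal.mul_top]
    exact hI.symm

/-- Complete intersection points of a closed subscheme and of its pullback along a flat map of
schemes with regular local rings. -/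
theorem ci_iff_of_isPullback {W U P' P : Scheme.{u}} {j' : W ⟶ P'} {p : W ⟶ U} {q : P' ⟶ P}
    {j : U ⟶ P} [IsClosedImmersion j] [Flat q] (sq : IsPullback j' p q j) (w : W)
    [IsRegularLocalRing (P'.presheaf.stalk (j' w))] [IsRegularLocalRing (P.presheaf.stalk (q (j' w)))] :
    Pi1.IsCompleteIntersection (W.presheaf.stalk w) ↔
      Pi1.IsCompleteIntersection (U.presheaf.stalk (p w)) := by
  haveI : IsClosedImmersion j' := MorphismProperty.of_isPullback sq.flip inferInstance
  obtain ⟨W₀, hW₀, hwW, -⟩ :=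
    exists_isAffineOpen_mem_and_subset (X := P) (U := ⊤) (x := q (j' w)) trivial
  obtain ⟨U₀, hU₀, hwU, e⟩ :=
    exists_isAffineOpen_mem_and_subset (X := P') (U := q ⁻¹ᵁ W₀) (x := j' w) hwW
  have hju : j (p w) = q (j' w) := by rw [← Scheme.Hom.comp_apply, ← sq.w, Scheme.Hom.comp_apply]
  let R := P.presheaf.stalk (q (j' w))
  let R' := P'.presheaf.stalk (j' w)
  let I : Ideal R := (RingHom.ker (j.app W₀).hom).map (P.presheaf.germ W₀ (q (j' w)) hwW).hom
  have key : ∀ (z : P) (hz : j (p w) = z) (hzW : z ∈ W₀),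
      ∃ φ : P.presheaf.stalk z →+* U.presheaf.stalk (p w), Function.Surjective φ ∧
        RingHom.ker φ = (RingHom.ker (j.app W₀).hom).map (P.presheaf.germ W₀ z hzW).hom := by
    rintro _ rfl hzW
    exact ⟨(j.stalkMap (p w)).hom, j.stalkMap_surjective (p w),
      RegEmbed.ker_stalkMap j (p w) W₀ hW₀ hzW⟩
  obtain ⟨φ, hφ, hφk⟩ := key _ hju hwW
  letI : Algebra R R' := (q.stalkMap (j' w)).hom.toAlgebra
  haveI : Module.Flat R R' := Flat.stalkMap q (j' w)
  haveI : IsLocalHom (algebraMap R R') := inferInstanceAs (IsLocalHom (q.stalkMap (j' w)).hom)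
  haveI : Module.FaithfullyFlat R R' := Module.FaithfullyFlat.of_flat_of_isLocalHom
  have hI' : I.map (algebraMap R R') = RingHom.ker (j'.stalkMap w).hom := by
    rw [RegEmbed.ker_stalkMap j' w U₀ hU₀ hwU,
      Groth.FlatDescent.ker_eq_map_of_isPullback sq ⟨U₀, hU₀⟩ ⟨W₀, hW₀⟩ e, Scheme.Hom.ker_apply,
      Ideal.map_map, Ideal.map_map]
    congr 1
    ext r
    show (q.stalkMap (j' w)) (P.presheaf.germ W₀ (q (j' w)) hwW r) =
      P'.presheaf.germ U₀ (j' w) hwU (q.appLE W₀ U₀ e r)
    rw [Scheme.Hom.germ_stalkMap_apply, Scheme.Hom.appLE, CommRingCat.comp_apply,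
      TopCat.Presheaf.germ_res_apply]
  have hI : I ≠ ⊤ := by
    show (RingHom.ker (j.app W₀).hom).map (P.presheaf.germ W₀ (q (j' w)) hwW).hom ≠ ⊤
    exact hφk ▸ RingHom.ker_ne_top φ
  let eU : (R ⧸ I) ≃+* U.presheaf.stalk (p w) :=
    (Ideal.quotEquivOfEq hφk.symm).trans (RingHom.quotientKerEquivOfSurjective hφ)
  let eW : (R' ⧸ RingHom.ker (j'.stalkMap w).hom) ≃+* W.presheaf.stalk w :=
    RingHom.quotientKerEquivOfSurjective (j'.stalkMap_surjective w)
  haveI : IsLocalRing (R ⧸ I) := eU.symm.isLocalRing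
  haveI : IsLocalRing (R' ⧸ RingHom.ker (j'.stalkMap w).hom) := eW.symm.isLocalRing
  rw [← isCompleteIntersection_congr eU, ← isCompleteIntersection_congr eW]
  exact (ci_quot_flat_iff I _ hI' hI).symm

end Groth.Agent.CIPres
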