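import Mathlib
import Groth.Agent.CIPres.Completion
import Groth.Agent.CIPres.Congr
import Groth.Agent.DepthLib.LocalSequence
import Groth.Agent.Vasconcelos.Global

/-!
# The complete intersection locus of a quotient of a regular ring; geometric depth
-/

set_option autoImplicit false
universe u

open IsLocalRing RingTheory.Sequence

noncomputable section

namespace Groth.Agent.CIPres

/-- A regular local ring is a complete intersection. -/
theorem isCompleteIntersection_of_regular (A : Type u) [CommRing A] [IsRegularLocalRing A] :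
    Pi1.IsCompleteIntersection A := by
  have := isRegularLocalRing_completion A
  refine ⟨AdicCompletion (maximalIdeal A) A, inferInstance, inferInstance, [], by simp,
    IsRegular.nil _ _, ⟨((Ideal.quotEquivOfEq ?_).trans (RingEquiv.quotientBot _)).symm⟩⟩
  simp

/-- The local ring of a quotient is the quotient of the local ring. -/
theorem exists_atPrime_quotient_equiv {B : Type u} [CommRing B] (I : Ideal B) (q : Ideal (B ⧸ I))
    [q.IsPrime] (P : Ideal B) [P.IsPrime] (hP : P = q.comap (Ideal.Quotient.mk I)) :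
    Nonempty (Localization.AtPrime q ≃+*
      Localization.AtPrime P ⧸ I.map (algebraMap B (Localization.AtPrime P))) := by
  have hM : Algebra.algebraMapSubmonoid (B ⧸ I) P.primeCompl = q.primeCompl := by
    ext y
    constructor
    · rintro ⟨x, hx, rfl⟩
      exact fun h => hx (hP ▸ h)
    · intro hy
      obtain ⟨x, rfl⟩ := Ideal.Quotient.mk_surjective y
      exact ⟨x, fun h => hy (by rw [SetLike.mem_coe, hP] at h; exact h), rfl⟩
  haveI : IsLocalization.AtPrime
      (Localization.AtPrime P ⧸ I.map (algebraMap B (Localization.AtPrime P))) q := by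
    unfold IsLocalization.AtPrime
    rw [← hM]
    infer_instance
  exact ⟨(IsLocalization.algEquiv q.primeCompl _ _).toRingEquiv⟩

/-- Complete intersection at a prime of a quotient of a regular ring. -/
theorem ci_atPrime_iff {B : Type u} [CommRing B] [IsRegularRing B] (I : Ideal B) (q : Ideal (B ⧸ I))
    [q.IsPrime] (P : Ideal B) [P.IsPrime] (hP : P = q.comap (Ideal.Quotient.mk I)) :
    Pi1.IsCompleteIntersection (Localization.AtPrime q) ↔
      ∃ rs : List (Localization.AtPrime P),
        Ideal.ofList rs = I.map (algebraMap B (Localization.AtPrime P)) ∧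
          IsRegular (Localization.AtPrime P) rs := by
  have := IsRegularRing.isRegularLocalRing_localization (R := B) P
  obtain ⟨e⟩ := exists_atPrime_quotient_equiv I q P hP
  have hne : I.map (algebraMap B (Localization.AtPrime P)) ≠ ⊤ := by
    refine ne_top_of_le_ne_top (maximalIdeal.isMaximal _).ne_top ?_
    rw [← Localization.AtPrime.map_eq_maximalIdeal]
    exact Ideal.map_mono fun x hx => by
      rw [hP, Ideal.mem_comap, Ideal.Quotient.eq_zero_iff_mem.2 hx]; exact zero_mem _
  have : IsLocalRing (Localization.AtPrime P ⧸ I.map (algebraMap B (Localization.AtPrime P))) :=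
    e.isLocalRing
  rw [isCompleteIntersection_congr e]
  exact isCompleteIntersection_quotient_iff _ hne

/-- The complete intersection locus spreads out. -/
theorem exists_spread {B : Type u} [CommRing B] [IsRegularRing B] (I : Ideal B) (q : Ideal (B ⧸ I))
    [q.IsPrime] (h : Pi1.IsCompleteIntersection (Localization.AtPrime q)) :
    ∃ g : B ⧸ I, g ∉ q ∧ ∀ (q' : Ideal (B ⧸ I)) [q'.IsPrime], g ∉ q' →
      Pi1.IsCompleteIntersection (Localization.AtPrime q') := by
  classical
  set P := q.comap (Ideal.Quotient.mk I) with hP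
  obtain ⟨rs, hrs, hreg⟩ := (ci_atPrime_iff I q P rfl).1 h
  have hlift : ∀ r ∈ rs, ∃ b ∈ I, ∃ v : Localization.AtPrime P,
      IsUnit v ∧ algebraMap B (Localization.AtPrime P) b = v * r := by
    intro r hr
    obtain ⟨⟨⟨b, hb⟩, ⟨s, hs⟩⟩, e⟩ := (IsLocalization.mem_map_algebraMap_iff P.primeCompl _).1
      (hrs.le (Ideal.subset_span hr))
    exact ⟨b, hb, _, IsLocalization.map_units (Localization.AtPrime P) (⟨s, hs⟩ : P.primeCompl),
      by rw [mul_comm]; exact e.symm⟩
  choose! f hfI v hv hfv using hlift
  have hreg' : IsWeaklyRegular (Localization.AtPrime P)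
      ((rs.map f).map (algebraMap B (Localization.AtPrime P))) ∧
      Ideal.ofList ((rs.map f).map (algebraMap B (Localization.AtPrime P))) = Ideal.ofList rs := by
    have heq : (rs.map f).map (algebraMap B (Localization.AtPrime P)) =
        rs.map fun r => algebraMap B (Localization.AtPrime P) (f r) := by
      rw [List.map_map]; rfl
    rw [heq]
    have hof : ∀ l : List (Localization.AtPrime P), (∀ r ∈ l, r ∈ rs) →
        Ideal.ofList (l.map fun r => algebraMap B (Localization.AtPrime P) (f r)) = Ideal.ofList l := by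
      intro l hl
      induction l with
      | nil => rfl
      | cons a l ih =>
        rw [List.map_cons, Ideal.ofList_cons, Ideal.ofList_cons,
          ih fun r hr => hl r (List.mem_cons_of_mem _ hr), hfv a (hl a (List.mem_cons_self ..)),
          Ideal.span_singleton_mul_left_unit (hv a (hl a (List.mem_cons_self ..)))]
    refine ⟨(isWeaklyRegular_iff _ _).2 fun i hi => ?_, hof rs fun r hr => hr⟩
    have hi' : i < rs.length := by simpa using hi
    have e : (Ideal.ofList ((rs.map fun r => algebraMap B (Localization.AtPrime P) (f r)).take i) •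
        ⊤ : Submodule (Localization.AtPrime P) (Localization.AtPrime P)) =
        Ideal.ofList (rs.take i) • ⊤ := by
      rw [← List.map_take, hof _ fun r hr => List.mem_of_mem_take hr]
    rw [List.getElem_map, hfv _ (List.getElem_mem hi')]
    exact ((Submodule.quotEquivOfEq _ _ e).isSMulRegular_congr _).2
      (((hv _ (List.getElem_mem hi')).isSMulRegular _).mul
        (hreg.toIsWeaklyRegular.regular_mod_prev i hi'))
  have hregOn : DepthLib.RegOn P.primeCompl B (rs.map f) :=
    (Groth.Agent.Vasconcelos.regOn_self_iff _ _).2 hreg'.1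
  obtain ⟨g₁, hg₁, hT⟩ := Groth.Agent.Vasconcelos.regOn_spread P (rs.map f) hregOn
  obtain ⟨g₂, hg₂, hg₂I⟩ := Groth.Agent.Vasconcelos.exists_mul_mem_of_map_le P I
    (Ideal.ofList (rs.map f)) (by rw [Ideal.map_ofList, hreg'.2, hrs])
  refine ⟨Ideal.Quotient.mk I (g₁ * g₂), fun hm => ?_, fun q' _ hq' => ?_⟩
  · rcases (inferInstance : P.IsPrime).mem_or_mem (Ideal.mem_comap.2 hm) with h' | h'
    · exact hg₁ h'
    · exact hg₂ h'
  set P' := q'.comap (Ideal.Quotient.mk I) with hP'
  have h1 : g₁ ∉ P' := fun hh => hq' (by rw [map_mul]; exact Ideal.mul_mem_right _ _ hh)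
  have h2 : g₂ ∉ P' := fun hh => hq' (by rw [map_mul]; exact Ideal.mul_mem_left _ _ hh)
  refine (ci_atPrime_iff I q' P' rfl).2
    ⟨(rs.map f).map (algebraMap B (Localization.AtPrime P')), ?_, ?_⟩
  · rw [← Ideal.map_ofList]
    refine le_antisymm (Ideal.map_mono ?_) (Ideal.map_le_iff_le_comap.2 fun x hx => ?_)
    · refine Ideal.span_le.2 fun x hx => ?_
      obtain ⟨r, hr, rfl⟩ := List.mem_map.1 hx
      exact hfI r hr
    · rw [Ideal.mem_comap]
      refine (Ideal.unit_mul_mem_iff_mem _
        (IsLocalization.map_units (Localization.AtPrime P') (⟨g₂, h2⟩ : P'.primeCompl))).1 ?_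
      rw [← map_mul]
      exact Ideal.mem_map_of_mem _ (hg₂I x hx)
  · refine (RingTheory.Sequence.isRegular_iff _ _).2
      ⟨(Groth.Agent.Vasconcelos.regOn_self_iff _ _).1 (hT P'.primeCompl ⟨1, by rwa [one_mul]⟩), ?_⟩
    rw [smul_eq_mul, Ideal.mul_top]
    refine fun htop => (maximalIdeal.isMaximal (Localization.AtPrime P')).ne_top
      (eq_top_iff.2 (htop.le.trans ?_))
    rw [← Localization.AtPrime.map_eq_maximalIdeal, ← Ideal.map_ofList]
    refine Ideal.map_mono (Ideal.span_le.2 fun x hx => ?_)
    obtain ⟨r, hr, rfl⟩ := List.mem_map.1 hx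
    rw [SetLike.mem_coe, hP', Ideal.mem_comap, Ideal.Quotient.eq_zero_iff_mem.2 (hfI r hr)]
    exact zero_mem _

open AlgebraicGeometry in
/-- The complete intersection locus of `Spec (B ⧸ I)`. -/
theorem ci_locus (B : Type u) [CommRing B] [IsRegularRing B] (I : Ideal B) :
    IsOpen {x : ↥(Spec (CommRingCat.of (B ⧸ I))) |
        Pi1.IsCompleteIntersection ((Spec (CommRingCat.of (B ⧸ I))).presheaf.stalk x)} ∧
      ∀ x : ↥(Spec (CommRingCat.of (B ⧸ I))),
        IsRegularLocalRing ((Spec (CommRingCat.of (B ⧸ I))).presheaf.stalk x) →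
        Pi1.IsCompleteIntersection ((Spec (CommRingCat.of (B ⧸ I))).presheaf.stalk x) := by
  have e : ∀ x : PrimeSpectrum (B ⧸ I),
      Localization.AtPrime x.asIdeal ≃+* (Spec (CommRingCat.of (B ⧸ I))).presheaf.stalk x := fun x =>
    (Spec.stalkIso (CommRingCat.of (B ⧸ I)) x).commRingCatIsoToRingEquiv.symm
  refine ⟨isOpen_iff_forall_mem_open.2 fun x hx => ?_, fun x hx => ?_⟩
  · obtain ⟨g, hg, hg'⟩ := exists_spread I x.asIdeal ((isCompleteIntersection_congr (e x)).2 hx)
    exact ⟨(PrimeSpectrum.basicOpen g : Set (PrimeSpectrum (B ⧸ I))), fun y hy =>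
      (isCompleteIntersection_congr (e y)).1 (hg' y.asIdeal hy),
      (PrimeSpectrum.basicOpen g).isOpen, hg⟩
  · exact isCompleteIntersection_of_regular _

/-- The conormal criterion. -/
theorem regularSeq_iff_conormal {R : Type u} [CommRing R] [IsRegularLocalRing R]
    (I : Ideal R) (hI : I ≠ ⊤) :
    (∃ rs : List R, Ideal.ofList rs = I ∧ RingTheory.Sequence.IsRegular R rs) ↔
      (((⊤ : Submodule (R ⧸ I) I.Cotangent).spanFinrank : WithBot ℕ∞) + ringKrullDim (R ⧸ I)
        ≤ ringKrullDim R) := by
  classical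
  have hfg : I.FG := IsNoetherian.noetherian I
  have hle : (⊤ : Submodule (R ⧸ I) I.Cotangent).spanFinrank ≤ I.spanFinrank := by
    obtain ⟨g, hg⟩ := exists_gens I hfg
    have hmem : ∀ i, g i ∈ I := fun i => hg.le (Ideal.subset_span ⟨i, rfl⟩)
    have htop : (⊤ : Submodule (R ⧸ I) I.Cotangent) =
        Submodule.span (R ⧸ I) (Set.range fun i => I.toCotangent ⟨g i, hmem i⟩) := by
      refine (eq_top_iff.2 fun c _ => ?_).symm
      obtain ⟨⟨y, hy⟩, rfl⟩ := I.toCotangent_surjective c
      obtain ⟨a, ha⟩ := Ideal.mem_span_range_iff_exists_fun.1 (hg.ge hy)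
      have : (⟨y, hy⟩ : I) = ∑ i, a i • (⟨g i, hmem i⟩ : I) := Subtype.ext (by simp [← ha])
      rw [this, map_sum]
      refine Submodule.sum_mem _ fun i _ => ?_
      rw [map_smul, ← algebraMap_smul (R ⧸ I) (a i)]
      exact Submodule.smul_mem _ _ (Submodule.subset_span ⟨i, rfl⟩)
    rw [htop]
    refine (Submodule.spanFinrank_span_le_ncard_of_finite (Set.finite_range _)).trans ?_
    rw [← Nat.card_coe_set_eq]
    exact (Finite.card_range_le _).trans (by simp)
  constructor
  · rintro ⟨rs, hrs, hreg⟩
    have hdim := ringKrullDim_add_length_eq_ringKrullDim_of_isRegular rs hreg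
    rw [hrs] at hdim
    rw [← hdim, add_comm]
    refine add_le_add le_rfl (Nat.cast_le.2 (hle.trans ?_))
    rw [← hrs, Ideal.ofList, show {r | r ∈ rs} = Set.range rs.get from (Set.range_list_get rs).symm]
    exact spanFinrank_le_card _
  · intro h
    refine exists_isRegular_of_spanFinrank_le I hI (le_trans ?_ h)
    rw [add_comm]
    refine add_le_add (Nat.cast_le.2 ?_) le_rfl
    have hfg' : (⊤ : Submodule (R ⧸ I) I.Cotangent).FG := by
      have : Module.Finite R I.Cotangent :=
        Module.Finite.of_surjective I.toCotangent I.toCotangent_surjective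
      exact Module.Finite.fg_top (R := R ⧸ I) (self := Module.Finite.of_restrictScalars_finite R _ _)
    obtain ⟨s, hs, hspan⟩ : ∃ s : Set I.Cotangent, s.Finite ∧
        s.ncard = (⊤ : Submodule (R ⧸ I) I.Cotangent).spanFinrank ∧ Submodule.span (R ⧸ I) s = ⊤ :=
      ⟨_, Submodule.FG.finite_generators hfg', Submodule.FG.generators_ncard hfg',
        Submodule.span_generators _⟩
    obtain ⟨hcard, hspan⟩ := hspan
    choose t ht using I.toCotangent_surjective
    let T : Set R := (fun c => ((t c : I) : R)) '' s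
    have hTI : T ⊆ I := by rintro _ ⟨c, -, rfl⟩; exact (t c).2
    have hgen : I ≤ Ideal.span T ⊔ I • I := by
      intro y hy
      have hmem : I.toCotangent ⟨y, hy⟩ ∈ Submodule.span R s := by
        rw [← Submodule.restrictScalars_span R (R ⧸ I) Ideal.Quotient.mk_surjective, hspan]
        trivial
      have hmap : I.toCotangent ⟨y, hy⟩ ∈ (Submodule.span R (t '' s)).map I.toCotangent := by
        rw [Submodule.map_span, ← Set.image_comp]
        convert hmem
        ext c
        simp [ht]
      obtain ⟨z, hz, hze⟩ := hmap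
      have hzT : (z : R) ∈ Ideal.span T := by
        have := Submodule.mem_map_of_mem (f := I.subtype) hz
        rw [Submodule.map_span, ← Set.image_comp] at this
        exact this
      rw [eq_comm, ← sub_eq_zero, ← map_sub, Ideal.toCotangent_eq_zero] at hze
      have : y = (z : R) + (y - z) := by ring
      rw [this]
      refine Submodule.add_mem_sup hzT ?_
      rw [smul_eq_mul, ← sq]
      exact hze
    have heq : Ideal.span T = I := le_antisymm (Ideal.span_le.2 hTI)
      (Submodule.le_of_le_smul_of_le_jacobson_bot hfg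
        ((le_maximalIdeal hI).trans (maximalIdeal_le_jacobson _)) hgen)
    rw [← hcard]
    conv_lhs => rw [← heq]
    exact (Submodule.spanFinrank_span_le_ncard_of_finite (hs.image _)).trans
      (Set.ncard_image_le hs)

/-- Geometric depth. -/
theorem geomDepth (A : Type u) [CommRing A] [IsLocalRing A] [IsNoetherianRing A] (B : Type u)
    [CommRing B] [IsRegularLocalRing B] (I : Ideal B)
    (hpres : Nonempty (AdicCompletion (maximalIdeal A) A ≃+* B ⧸ I)) (d e : ℕ)
    (hd : ringKrullDim A = (d : WithBot ℕ∞)) (he : ringKrullDim B = (e : WithBot ℕ∞)) :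
    (e : ℤ) - (I.spanFinrank : ℤ) ≤ (d : ℤ) ∧
      ((e : ℤ) - (I.spanFinrank : ℤ) = (d : ℤ) ↔ Pi1.IsCompleteIntersection A) := by
  obtain ⟨ε⟩ := hpres
  have : IsLocalRing (B ⧸ I) := ε.isLocalRing
  have hI : I ≠ ⊤ := Ideal.Quotient.nontrivial_iff.1 ε.injective.nontrivial
  have hdim : ringKrullDim (B ⧸ I) = (d : WithBot ℕ∞) := by
    rw [← ringKrullDim_eq_of_ringEquiv ε, FlatSerre.ringKrullDim_completion A, hd]
  have hge : e ≤ d + I.spanFinrank := by
    have h := ringKrullDim_le_ringKrullDim_quotient_add_spanFinrank I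
      (by rw [IsLocalRing.ringJacobson_eq_maximalIdeal]; exact le_maximalIdeal hI)
    rw [hdim, he] at h
    exact_mod_cast h
  refine ⟨by omega, ⟨fun h => ?_, fun h => ?_⟩⟩
  · obtain ⟨rs, hrs, hreg⟩ := exists_isRegular_of_spanFinrank_le I hI (by
      rw [hdim, he]; exact_mod_cast (by omega : d + I.spanFinrank ≤ e))
    refine ⟨B, inferInstance, inferInstance, rs, fun r hr => ?_, hreg,
      ⟨ε.trans (Ideal.quotEquivOfEq hrs.symm)⟩⟩
    exact le_maximalIdeal hI (hrs.le (Ideal.subset_span hr))
  · obtain ⟨C, iC, iC', rs, hmem, hreg, ⟨f⟩⟩ := h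
    let := iC
    let := iC'
    have hh := spanFinrank_ker_le_of_ci rs hmem hreg (ε.symm.trans f)
      (Ideal.Quotient.mk I) Ideal.Quotient.mk_surjective
    rw [Ideal.mk_ker, hdim, he] at hh
    have : d + I.spanFinrank ≤ e := by exact_mod_cast hh
    omega

end Groth.Agent.CIPres
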