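import Mathlib
import Groth.Agent.CIPres.Locus
import Groth.Agent.CIPres.FlatRegImm
import Groth.Agent.DepthLib.CMPoly
import Groth.Agent.CIPres.Completion
import Groth.Agent.CIPres.Congr

/-!
# Presentations of local rings of schemes locally of finite presentation over a base
-/

set_option autoImplicit false
universe u

open CategoryTheory AlgebraicGeometry IsLocalRing

noncomputable section

namespace Groth.Agent.CIPres

/-- The closed fibre of a localised polynomial ring is regular. -/
theorem isRegularLocalRing_fibre_poly {A : Type u} [CommRing A] [IsLocalRing A] {n : ℕ}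
    (Q : Ideal (MvPolynomial (Fin n) A)) [Q.IsPrime]
    (hQ : Q.comap MvPolynomial.C = maximalIdeal A) :
    IsRegularLocalRing
      (Localization.AtPrime Q ⧸ (maximalIdeal A).map (algebraMap A (Localization.AtPrime Q))) := by
  let I : Ideal (MvPolynomial (Fin n) A) := (maximalIdeal A).map MvPolynomial.C
  have hIQ : I ≤ Q := Ideal.map_le_iff_le_comap.2 hQ.ge
  let q := Q.map (Ideal.Quotient.mk I)
  have : q.IsPrime :=
    Ideal.map_isPrime_of_surjective Ideal.Quotient.mk_surjective (by rwa [Ideal.mk_ker])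
  letI : Field (A ⧸ maximalIdeal A) := Ideal.Quotient.field _
  have : IsRegularRing (A ⧸ maximalIdeal A) := DepthLib.CMPoly.isRegularRing_field _
  have : IsRegularRing (MvPolynomial (Fin n) A ⧸ I) :=
    IsRegularRing.of_ringEquiv (MvPolynomial.quotientEquivQuotientMvPolynomial
      (σ := Fin n) (maximalIdeal A)).toRingEquiv
  have hP : Q = q.comap (Ideal.Quotient.mk I) := by
    rw [Ideal.comap_map_of_surjective _ Ideal.Quotient.mk_surjective, ← RingHom.ker_eq_comap_bot,
      Ideal.mk_ker, sup_eq_left.2 hIQ]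
  obtain ⟨e⟩ := exists_atPrime_quotient_equiv I q Q hP
  have := IsRegularRing.isRegularLocalRing_localization (R := MvPolynomial (Fin n) A ⧸ I) q
  have hI : I.map (algebraMap _ (Localization.AtPrime Q)) =
      (maximalIdeal A).map (algebraMap A (Localization.AtPrime Q)) := by
    rw [Ideal.map_map]
    rfl
  exact IsRegularLocalRing.of_ringEquiv (R := Localization.AtPrime q) (e.trans (Ideal.quotEquivOfEq hI))

/-- The local ring at a point is a quotient with finitely generated kernel of a localised polynomial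
ring over the local ring of the base. -/
theorem exists_presentation_stalk {X S : Scheme.{u}} (f : X ⟶ S) [LocallyOfFinitePresentation f]
    (x : X) :
    ∃ (n : ℕ) (Q : Ideal (MvPolynomial (Fin n) (S.presheaf.stalk (f x)))) (_ : Q.IsPrime),
      Q.comap MvPolynomial.C = maximalIdeal (S.presheaf.stalk (f x)) ∧
      ∃ φ : Localization.AtPrime Q →+* X.presheaf.stalk x,
        Function.Surjective φ ∧ (RingHom.ker φ).FG ∧
        φ.comp (algebraMap (S.presheaf.stalk (f x)) (Localization.AtPrime Q)) = (f.stalkMap x).hom := by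
  obtain ⟨V, hV, hxV, -⟩ :=
    exists_isAffineOpen_mem_and_subset (X := S) (U := ⊤) (x := f x) trivial
  obtain ⟨U, hU, hxU, hUV⟩ :=
    exists_isAffineOpen_mem_and_subset (X := X) (U := f ⁻¹ᵁ V) (x := x) hxV
  letI := (f.appLE V U hUV).hom.toAlgebra
  haveI : Algebra.FinitePresentation Γ(S, V) Γ(X, U) :=
    HasRingHomProperty.appLE @LocallyOfFinitePresentation f inferInstance ⟨V, hV⟩ ⟨U, hU⟩ hUV
  obtain ⟨n, π, hπ, hπk⟩ := Algebra.FinitePresentation.out (R := Γ(S, V)) (A := Γ(X, U))
  let A := S.presheaf.stalk (f x)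
  let B := X.presheaf.stalk x
  letI : Algebra Γ(S, V) A := (S.presheaf.germ V (f x) hxV).hom.toAlgebra
  haveI : IsLocalization.AtPrime A (hV.primeIdealOf ⟨f x, hxV⟩).asIdeal :=
    hV.isLocalization_stalk ⟨f x, hxV⟩
  letI : Algebra Γ(X, U) B := (X.presheaf.germ U x hxU).hom.toAlgebra
  haveI : IsLocalization.AtPrime B (hU.primeIdealOf ⟨x, hxU⟩).asIdeal :=
    hU.isLocalization_stalk ⟨x, hxU⟩
  let Φ : MvPolynomial (Fin n) A →+* B :=
    MvPolynomial.eval₂Hom (f.stalkMap x).hom fun i => algebraMap Γ(X, U) B (π (MvPolynomial.X i))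
  let m : MvPolynomial (Fin n) Γ(S, V) →+* MvPolynomial (Fin n) A :=
    MvPolynomial.map (algebraMap Γ(S, V) A)
  have hΦm : ∀ p, Φ (m p) = algebraMap Γ(X, U) B (π p) := fun p => by
    refine congrArg (fun g => g p) (MvPolynomial.ringHom_ext (f := Φ.comp m)
      (g := (algebraMap Γ(X, U) B).comp π.toRingHom) (fun a => ?_) fun i => ?_)
    · show Φ (m (MvPolynomial.C a)) = algebraMap Γ(X, U) B (π (MvPolynomial.C a))
      rw [MvPolynomial.map_C, MvPolynomial.eval₂Hom_C]
      rw [show π (MvPolynomial.C a) = f.appLE V U hUV a from π.commutes a]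
      show (f.stalkMap x) (S.presheaf.germ V (f x) hxV a) = X.presheaf.germ U x hxU (f.appLE V U hUV a)
      rw [Scheme.Hom.germ_stalkMap_apply, Scheme.Hom.appLE, CommRingCat.comp_apply,
        TopCat.Presheaf.germ_res_apply]
    · show Φ (m (MvPolynomial.X i)) = _
      rw [MvPolynomial.map_X, MvPolynomial.eval₂Hom_X']
      rfl
  let Q : Ideal (MvPolynomial (Fin n) A) := (maximalIdeal B).comap Φ
  have hQ : Q.comap MvPolynomial.C = maximalIdeal A := by
    ext a
    show Φ (MvPolynomial.C a) ∈ maximalIdeal B ↔ _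
    rw [MvPolynomial.eval₂Hom_C]
    exact ⟨fun h => by_contra fun hn => h ((not_not.1 hn).map (f.stalkMap x).hom),
      fun h => map_nonunit (f.stalkMap x).hom a h⟩
  have hu : ∀ q : Q.primeCompl, IsUnit (Φ q) := fun q => not_not.1 q.2
  let φ : Localization.AtPrime Q →+* B := IsLocalization.lift hu
  have hφ : ∀ p, φ (algebraMap _ _ p) = Φ p := fun p => IsLocalization.lift_eq hu p
  refine ⟨n, Q, inferInstance, hQ, φ, fun z => ?_, ?_, RingHom.ext fun a => ?_⟩
  · obtain ⟨⟨a, b⟩, hab⟩ := IsLocalization.surj (hU.primeIdealOf ⟨x, hxU⟩).asIdeal.primeCompl z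
    obtain ⟨p, hp⟩ := hπ a
    obtain ⟨q, hq⟩ := hπ b
    have hub : IsUnit (algebraMap Γ(X, U) B (π q)) := hq ▸ IsLocalization.map_units B b
    have hqQ : m q ∉ Q := fun h => by
      rw [Ideal.mem_comap, hΦm] at h
      exact h hub
    refine ⟨IsLocalization.mk' _ (m p) (⟨m q, hqQ⟩ : Q.primeCompl), ?_⟩
    rw [IsLocalization.lift_mk'_spec, hΦm, hΦm, hp, hq, mul_comm]
    exact hab.symm
  · letI := MvPolynomial.algebraMvPolynomial (σ := Fin n) (R := Γ(S, V)) (S := A)
    refine (congrArg Submodule.FG (?_ : RingHom.ker φ =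
      (RingHom.ker π.toRingHom).map ((algebraMap _ (Localization.AtPrime Q)).comp m))).mpr (hπk.map _)
    refine le_antisymm (fun z hz => ?_) (Ideal.map_le_iff_le_comap.2 fun p hp => ?_)
    · obtain ⟨⟨p', s⟩, hps⟩ := IsLocalization.surj Q.primeCompl z
      obtain ⟨⟨p₀, c⟩, hp₀⟩ := IsLocalization.surj
        ((hV.primeIdealOf ⟨f x, hxV⟩).asIdeal.primeCompl.map (MvPolynomial.C (σ := Fin n))) p'
      have hcu : IsUnit (m c) := IsLocalization.map_units (M := (hV.primeIdealOf ⟨f x, hxV⟩).asIdeal.primeCompl.map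
        (MvPolynomial.C (σ := Fin n))) (MvPolynomial (Fin n) A) c
      replace hp₀ : p' * m c = m p₀ := hp₀
      have h1 : Φ p' = 0 := by rw [← hφ, ← hps, map_mul, RingHom.mem_ker.1 hz, zero_mul]
      have h2 : algebraMap Γ(X, U) B (π p₀) = 0 := by rw [← hΦm, ← hp₀, map_mul, h1, zero_mul]
      obtain ⟨t, ht⟩ := (IsLocalization.map_eq_zero_iff (hU.primeIdealOf ⟨x, hxU⟩).asIdeal.primeCompl B _).1 h2
      obtain ⟨t', ht'⟩ := hπ t
      have htQ : m t' ∉ Q := fun h => by
        rw [Ideal.mem_comap, hΦm, ht'] at h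
        exact h (IsLocalization.map_units B t)
      have hK : t' * p₀ ∈ RingHom.ker π.toRingHom := by
        rw [RingHom.mem_ker]
        show π (t' * p₀) = 0
        rw [map_mul, ht', ht]
      have h3 := Ideal.mem_map_of_mem ((algebraMap _ (Localization.AtPrime Q)).comp m) hK
      rw [RingHom.comp_apply, map_mul, map_mul, ← hp₀, map_mul, ← hps, ← mul_assoc] at h3
      rw [Ideal.mul_unit_mem_iff_mem _ (hcu.map (algebraMap _ (Localization.AtPrime Q))),
        Ideal.unit_mul_mem_iff_mem _ (IsLocalization.map_units _ (⟨m t', htQ⟩ : Q.primeCompl))] at h3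
      exact (Ideal.mul_unit_mem_iff_mem _ (IsLocalization.map_units _ s)).1 h3
    · show φ (algebraMap _ _ (m p)) = 0
      rw [hφ, hΦm, show π p = 0 from hp, map_zero]
  · show φ (algebraMap A (Localization.AtPrime Q) a) = _
    rw [IsScalarTower.algebraMap_apply A (MvPolynomial (Fin n) A) (Localization.AtPrime Q), hφ]
    exact MvPolynomial.eval₂Hom_C _ _ a

/-- A flat quotient with complete intersection fibre, of a ring with regular fibre, is cut out by
elements forming a regular sequence on the fibre. -/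
theorem exists_gens_fibre_regular {A C B : Type u} [CommRing A] [IsLocalRing A] [CommRing C]
    [IsLocalRing C] [CommRing B] [Algebra A C] [IsLocalHom (algebraMap A C)] (φ : C →+* B)
    (hφ : Function.Surjective φ) (hfg : (RingHom.ker φ).FG) (hB : (φ.comp (algebraMap A C)).Flat)
    [IsRegularLocalRing (C ⧸ (maximalIdeal A).map (algebraMap A C))]
    (M : Ideal B) (hM : (maximalIdeal A).map (φ.comp (algebraMap A C)) = M) [IsLocalRing (B ⧸ M)]
    (hci : Pi1.IsCompleteIntersection (B ⧸ M)) :
    ∃ rs : List C, Ideal.ofList rs = RingHom.ker φ ∧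
      RingTheory.Sequence.IsWeaklyRegular (C ⧸ (maximalIdeal A).map (algebraMap A C))
        (rs.map (Ideal.Quotient.mk ((maximalIdeal A).map (algebraMap A C)))) := by
  have : Module.Flat A (C ⧸ RingHom.ker φ) := by
    refine RingHom.flat_algebraMap_iff.1 ?_
    have hψ : Function.Bijective (RingHom.quotientKerEquivOfSurjective hφ).symm.toRingHom :=
      (RingHom.quotientKerEquivOfSurjective hφ).symm.bijective
    have h' := RingHom.Flat.comp hB (RingHom.Flat.of_bijective hψ)
    convert h' using 1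
    ext a
    exact ((RingHom.quotientKerEquivOfSurjective hφ).symm_apply_apply _).symm
  obtain ⟨eQ⟩ := nonempty_quot_map_equiv φ hφ ((maximalIdeal A).map (algebraMap A C))
  let e := eQ.trans (Ideal.quotEquivOfEq ((Ideal.map_map _ _).trans hM))
  have : IsLocalRing ((C ⧸ (maximalIdeal A).map (algebraMap A C)) ⧸
      (RingHom.ker φ).map (Ideal.Quotient.mk ((maximalIdeal A).map (algebraMap A C)))) :=
    e.symm.isLocalRing
  have hne : (RingHom.ker φ).map (Ideal.Quotient.mk ((maximalIdeal A).map (algebraMap A C))) ≠ ⊤ :=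
    Ideal.Quotient.nontrivial_iff.1 inferInstance
  obtain ⟨rb, hrb, hrbreg⟩ := (isCompleteIntersection_quotient_iff _ hne).1
    ((isCompleteIntersection_congr e).2 hci)
  obtain ⟨rs, hmap, hgen⟩ := exists_lift_gens (RingHom.ker φ) hfg rb hrb
  exact ⟨rs, hgen, hmap ▸ hrbreg.toIsWeaklyRegular⟩

end Groth.Agent.CIPres
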