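import Mathlib
import Groth.Agent.CIPres.Fibre
import Groth.Agent.S2843
import Groth.Agent.S2847
import Groth.Agent.S2900
import Groth.Agent.FibrewiseCrit.Unramified

/-!
# Complete intersection morphisms: base change, composition, regular immersions
-/

set_option autoImplicit false
universe u

open CategoryTheory CategoryTheory.Limits AlgebraicGeometry

noncomputable section

namespace Groth.Agent.CIPres

/-- The local rings of fibres at an arbitrary point. -/
theorem ci_fiber_stalk_iff {X S : Scheme.{u}} (f : X ⟶ S) (s : S) (z : f.fiber s) :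
    Pi1.IsCompleteIntersection ((f.fiber s).presheaf.stalk z) ↔
      Pi1.IsCompleteIntersection (CInt.fiberStalk f (f.fiberι s z)) := by
  obtain ⟨e₂⟩ := nonempty_fiberStalk_equiv f (f.fiberι s z)
  let e₁ : (f.fiber s).presheaf.stalk z ≃+*
      X.presheaf.stalk (f.fiberι s z) ⧸ FlatDescent.maxExt f (f.fiberι s z) :=
    ((Ideal.quotEquivOfEq (FlatDescent.ker_stalkMap_fiberι f s z).symm).trans
      (RingHom.quotientKerEquivOfSurjective ((f.fiberι s).stalkMap_surjective z))).symm
  exact isCompleteIntersection_congr (e₁.trans e₂.symm)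

/-- Complete intersection fibres and base change. -/
theorem ci_fiberStalk_iff_of_isPullback {P X Y Z : Scheme.{u}} {fst : P ⟶ X} {snd : P ⟶ Y}
    {f : X ⟶ Z} {g : Y ⟶ Z} [LocallyOfFiniteType f] (h : IsPullback fst snd f g) (w : P) :
    Pi1.IsCompleteIntersection (CInt.fiberStalk f (fst w)) ↔
      Pi1.IsCompleteIntersection (CInt.fiberStalk snd w) := by
  let y := snd w
  have sq := isPullback_fiberToSpecResidueField_of_isPullback h y
  letI : Algebra (Z.residueField (g y)) (Y.residueField y) := (g.residueFieldMap y).hom.toAlgebra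
  let p : f.fiber (g y) ⟶ Spec (CommRingCat.of (Z.residueField (g y))) :=
    f.fiberToSpecResidueField (g y)
  haveI : LocallyOfFiniteType p := MorphismProperty.pullback_snd _ _ ‹LocallyOfFiniteType f›
  let K := Spec.map (CommRingCat.ofHom (algebraMap (Z.residueField (g y)) (Y.residueField y)))
  have sq' : IsPullback
      (pullback.map _ _ _ _ fst (Spec.map (g.residueFieldMap y)) g h.w.symm (by simp))
      (snd.fiberToSpecResidueField y) p K := sq
  let e := sq'.isoPullback
  let x' := e.hom (snd.asFiber w)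
  have hS : Pi1.IsCompleteIntersection ((f.fiber (g y)).presheaf.stalk (pullback.fst p K x')) ↔
      Pi1.IsCompleteIntersection (CInt.fiberStalk snd w) :=
    (S2843.result (f.fiber (g y)) p x').trans
      (isCompleteIntersection_congr (asIso (e.hom.stalkMap (snd.asFiber w))).commRingCatIsoToRingEquiv)
  rw [ci_fiber_stalk_iff f (g y)] at hS
  have hpt : f.fiberι (g y) ((pullback.fst p K) x') = fst w := by
    have h1 : e.hom ≫ pullback.fst p K =
        pullback.map _ _ _ _ fst (Spec.map (g.residueFieldMap y)) g h.w.symm (by simp) :=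
      sq'.isoPullback_hom_fst
    show f.fiberι (g y) (pullback.fst p K (e.hom (snd.asFiber w))) = fst w
    refine (congrArg (f.fiberι (g y)) (congrArg (fun t => t (snd.asFiber w)) h1)).trans ?_
    have : pullback.map _ _ _ _ fst (Spec.map (g.residueFieldMap y)) g h.w.symm (by simp) ≫
        f.fiberι (g y) = snd.fiberι y ≫ fst := pullback.lift_fst _ _ _
    refine (congrArg (fun t => t (snd.asFiber w)) this).trans ?_
    show fst (snd.fiberι y (snd.asFiber w)) = _
    rw [Scheme.Hom.fiberι_asFiber]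
  rw [hpt] at hS
  exact hS

theorem isCIMorphism_snd {X S S' : Scheme.{u}} (f : X ⟶ S) (g : S' ⟶ S) (hf : CInt.IsCIMorphism f) :
    CInt.IsCIMorphism (pullback.snd f g) := by
  obtain ⟨hfl, hlfp, hci⟩ := hf
  exact ⟨MorphismProperty.pullback_snd _ _ hfl, MorphismProperty.pullback_snd _ _ hlfp,
    fun w => (ci_fiberStalk_iff_of_isPullback (IsPullback.of_hasPullback f g) w).1 (hci _)⟩

theorem isCIMorphism_of_isPullback {P X Y Z : Scheme.{u}} {fst : P ⟶ X} {snd : P ⟶ Y}
    {f : X ⟶ Z} {g : Y ⟶ Z} (h : IsPullback fst snd f g) (hf : CInt.IsCIMorphism f) :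
    CInt.IsCIMorphism snd := by
  obtain ⟨hfl, hlfp, hci⟩ := hf
  exact ⟨MorphismProperty.of_isPullback h hfl, MorphismProperty.of_isPullback h hlfp,
    fun w => (ci_fiberStalk_iff_of_isPullback h w).1 (hci _)⟩

theorem isCIMorphism_comp {X Y Z : Scheme.{u}} (f : X ⟶ Y) (g : Y ⟶ Z) (hf : CInt.IsCIMorphism f)
    (hg : CInt.IsCIMorphism g) : CInt.IsCIMorphism (f ≫ g) := by
  haveI := hf.1
  haveI := hf.2.1
  haveI := hg.1
  haveI := hg.2.1
  refine ⟨inferInstance, inferInstance, fun x => ?_⟩
  let s := (f ≫ g) x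
  let φ : (f ≫ g).fiber s ⟶ g.fiber s := CInt.fiberMap f g s
  have h1 : φ ≫ g.fiberι s = (f ≫ g).fiberι s ≫ f := pullback.lift_fst _ _ _
  have h2 : φ ≫ g.fiberToSpecResidueField s = (f ≫ g).fiberToSpecResidueField s :=
    (pullback.lift_snd _ _ _).trans (Category.comp_id _)
  have hφ : CInt.IsCIMorphism φ :=
    isCIMorphism_of_isPullback (Groth.FibrewiseCrit.isPullback_fiberMap rfl s φ h1 h2) hf
  haveI : LocallyOfFiniteType (g.fiberToSpecResidueField s) :=
    MorphismProperty.pullback_snd _ _ (inferInstance : LocallyOfFiniteType g)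
  haveI : IsLocallyNoetherian (g.fiber s) :=
    LocallyOfFiniteType.isLocallyNoetherian (g.fiberToSpecResidueField s)
  exact S2847.result φ hφ ((f ≫ g).asFiber x)
    ((ci_fiber_stalk_iff g s _).2 (hg.2.2 _))

/-- Regular closed immersions are recognised locally. -/
theorem isRegularClosedImmersion_of_local {Y X : Scheme.{u}} (i : Y ⟶ X) [IsClosedImmersion i]
    (h : ∀ y : Y, ∃ V : X.Opens, i y ∈ V ∧ Mor2.IsRegularClosedImmersion (i ∣_ V)) :
    Mor2.IsRegularClosedImmersion i := by
  refine ⟨inferInstance, fun y => ?_⟩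
  obtain ⟨V, hy, -, hV⟩ := h y
  obtain ⟨U, hU, hyU, rs, hrs, hk⟩ := hV ⟨y, hy⟩
  rw [Scheme.ker_morphismRestrict_ideal i V ⟨U, hU⟩] at hk
  refine ⟨V.ι ''ᵁ U, hU.image_of_isOpenImmersion _, ?_, rs, hrs, hk⟩
  refine ⟨_, hyU, ?_⟩
  show V.ι ((i ∣_ V) ⟨y, hy⟩) = i y
  rw [← Scheme.Hom.comp_apply, morphismRestrict_ι]
  rfl

end Groth.Agent.CIPres
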