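import Mathlib
import Groth.Prelude.Def_RegImm
import Groth.Agent.CIPres.Morphism

/-!
# Koszul-regular factorisations and complete intersection fibres
-/

set_option autoImplicit false
universe u

open CategoryTheory CategoryTheory.Limits AlgebraicGeometry IsLocalRing RingTheory.Sequence

noncomputable section

namespace Groth.Agent.CIPres

/-- An `H₁`-regular family with flat quotient gives a regular sequence in a Noetherian local fibre. -/
theorem isWeaklyRegular_fibre_of_h1 {A C : Type u} [CommRing A] [CommRing C] [Algebra A C]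
    (p : Ideal A) [IsLocalRing (C ⧸ p.map (algebraMap A C))]
    [IsNoetherianRing (C ⧸ p.map (algebraMap A C))] {n : ℕ} (t : Fin n → C)
    (hH : CAlgX.IsH1Regular t)
    (hmem : ∀ i, Ideal.Quotient.mk (p.map (algebraMap A C)) (t i) ∈
      maximalIdeal (C ⧸ p.map (algebraMap A C)))
    [Module.Flat A (C ⧸ Ideal.span (Set.range t))] :
    IsWeaklyRegular (C ⧸ p.map (algebraMap A C))
      (List.ofFn fun i => Ideal.Quotient.mk (p.map (algebraMap A C)) (t i)) := by
  set I := p.map (algebraMap A C) with hI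
  let mk := Ideal.Quotient.mk I
  refine S18941.result (fun i => mk (t i)) (C ⧸ I) (fun N N' =>
    IsHausdorff.of_le_jacobson _ _ ((Ideal.span_le.2 fun x hx => by
      obtain ⟨i, rfl⟩ := hx
      exact hmem i).trans (maximalIdeal_le_jacobson _))) ?_
  intro m hm
  choose c hc using fun i => Ideal.Quotient.mk_surjective (I := I) (m i)
  have h0 : ∑ i, t i * c i ∈ I := by
    rw [← Ideal.Quotient.eq_zero_iff_mem, map_sum, ← hm]
    exact Finset.sum_congr rfl fun i _ => by rw [map_mul, hc, smul_eq_mul]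
  have h1 : ∑ i, t i * c i ∈ Ideal.span (Set.range t) :=
    Ideal.sum_mem _ fun i _ => Ideal.mul_mem_right _ _ (Ideal.subset_span ⟨i, rfl⟩)
  have h2 := ArtinFlat.mem_smul_of_flat_quotient (Ideal.span (Set.range t)) p h0 h1
  rw [mul_comm] at h2
  obtain ⟨d, hd, hde⟩ := exists_sum_of_mem_mul t I h2
  have h3 : c - d ∈ RegSeq.triv t := hH _ (by
    simp only [Pi.sub_apply, sub_mul, Finset.sum_sub_distrib]
    rw [Fintype.linearCombination_apply] at hde
    simp only [smul_eq_mul] at hde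
    rw [hde, sub_eq_zero]
    exact Finset.sum_congr rfl fun i _ => mul_comm _ _)
  have h4 := RegSeq.map_mem_triv mk h3
  rw [show mk ∘ (c - d) = m from funext fun i => by
    simp only [Function.comp_apply, Pi.sub_apply, map_sub]
    rw [show mk (d i) = 0 from Ideal.Quotient.eq_zero_iff_mem.2 (hd i), sub_zero]
    exact hc i] at h4
  refine Submodule.span_mono ?_ h4
  rintro _ ⟨i, j, rfl⟩
  refine ⟨i, j, 1, ?_⟩
  simp [← Pi.single_smul]

/-- A quotient by an `H₁`-regular family, flat over the base, of a ring with regular fibre has complete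
intersection fibre. -/
theorem ci_of_h1 {A C B : Type u} [CommRing A] [IsLocalRing A] [CommRing C] [IsLocalRing C]
    [CommRing B] [Algebra A C] [IsLocalHom (algebraMap A C)] (φ : C →+* B)
    (hφ : Function.Surjective φ) (hB : (φ.comp (algebraMap A C)).Flat) {n : ℕ} (t : Fin n → C)
    (hH : CAlgX.IsH1Regular t) (hker : RingHom.ker φ = Ideal.span (Set.range t))
    [IsRegularLocalRing (C ⧸ (maximalIdeal A).map (algebraMap A C))]
    (M : Ideal B) (hM : (maximalIdeal A).map (φ.comp (algebraMap A C)) = M) [IsLocalRing (B ⧸ M)] :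
    Pi1.IsCompleteIntersection (B ⧸ M) := by
  have : Nontrivial B := (Ideal.Quotient.mk M).domain_nontrivial
  have : Module.Flat A (C ⧸ Ideal.span (Set.range t)) := by
    rw [← hker]
    refine RingHom.flat_algebraMap_iff.1 ?_
    have hψ : Function.Bijective (RingHom.quotientKerEquivOfSurjective hφ).symm.toRingHom :=
      (RingHom.quotientKerEquivOfSurjective hφ).symm.bijective
    have h' := RingHom.Flat.comp hB (RingHom.Flat.of_bijective hψ)
    convert h' using 1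
    ext a
    exact ((RingHom.quotientKerEquivOfSurjective hφ).symm_apply_apply _).symm
  obtain ⟨eQ⟩ := nonempty_quot_map_equiv φ hφ ((maximalIdeal A).map (algebraMap A C))
  let e := eQ.trans (Ideal.quotEquivOfEq ((Ideal.map_map _ _).trans hM))
  have : IsLocalRing ((C ⧸ (maximalIdeal A).map (algebraMap A C)) ⧸
      (RingHom.ker φ).map (Ideal.Quotient.mk ((maximalIdeal A).map (algebraMap A C)))) :=
    e.symm.isLocalRing
  have hne : (RingHom.ker φ).map (Ideal.Quotient.mk ((maximalIdeal A).map (algebraMap A C))) ≠ ⊤ :=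
    Ideal.Quotient.nontrivial_iff.1 inferInstance
  have hspan : Ideal.ofList (List.ofFn fun i => Ideal.Quotient.mk ((maximalIdeal A).map (algebraMap A C)) (t i)) =
      (RingHom.ker φ).map (Ideal.Quotient.mk ((maximalIdeal A).map (algebraMap A C))) := by
    rw [ArtinFlat.ofList_ofFn, hker, Ideal.map_span, ← Set.range_comp]
    rfl
  refine (isCompleteIntersection_congr e).1 ((isCompleteIntersection_quotient_iff _ hne).2
    ⟨_, hspan, (RingTheory.Sequence.isRegular_iff _ _).2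
      ⟨isWeaklyRegular_fibre_of_h1 (maximalIdeal A) t hH fun i => ?_, ?_⟩⟩)
  · haveI : IsLocalHom (Ideal.Quotient.mk ((maximalIdeal A).map (algebraMap A C))) :=
      IsLocalHom.of_surjective _ Ideal.Quotient.mk_surjective
    exact map_nonunit _ _ (le_maximalIdeal (RingHom.ker_ne_top φ)
      (hker.ge (Ideal.subset_span ⟨i, rfl⟩)))
  · rw [hspan, smul_eq_mul, Ideal.mul_top]
    exact hne.symm

/-- Complete intersection fibre at a point where a closed subscheme is Koszul regular. -/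
theorem ci_fiberStalk_of_koszul {X Y S : Scheme.{u}} (g : X ⟶ S) (j : Y ⟶ X) [IsClosedImmersion j]
    [Flat (j ≫ g)] (y : Y) [IsRegularLocalRing (CInt.fiberStalk g (j y))] (W : X.Opens)
    (hW : IsAffineOpen W) (hy : j y ∈ W) (rs : List Γ(X, W))
    (hrs : LCI.IsKoszulRegularSeq Γ(X, W) rs) (hk : RingHom.ker (j.app W).hom = Ideal.ofList rs) :
    Pi1.IsCompleteIntersection (CInt.fiberStalk (j ≫ g) y) := by
  let x := j y
  let A := S.presheaf.stalk (g x)
  let C := X.presheaf.stalk x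
  let φ : C →+* Y.presheaf.stalk y := (j.stalkMap y).hom
  letI : Algebra A C := (g.stalkMap x).hom.toAlgebra
  haveI : IsLocalHom (algebraMap A C) := inferInstanceAs (IsLocalHom (g.stalkMap x).hom)
  letI : Algebra Γ(X, W) C := (X.presheaf.germ W x hy).hom.toAlgebra
  haveI : IsLocalization.AtPrime C (hW.primeIdealOf ⟨x, hy⟩).asIdeal := hW.isLocalization_stalk ⟨x, hy⟩
  haveI : Module.Flat Γ(X, W) C := IsLocalization.flat C (hW.primeIdealOf ⟨x, hy⟩).asIdeal.primeCompl
  have hH : CAlgX.IsH1Regular (algebraMap Γ(X, W) C ∘ rs.get) :=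
    RegSeq.isH1Regular_of_flat (RegSeq.isH1Regular_of_isKoszulRegularSeq hrs)
  have hker : RingHom.ker φ = Ideal.span (Set.range (algebraMap Γ(X, W) C ∘ rs.get)) := by
    rw [Set.range_comp, ← Ideal.map_span, ← ArtinFlat.ofList_ofFn, List.ofFn_get, ← hk]
    exact RegEmbed.ker_stalkMap j y W hW hy
  have hB : (φ.comp (algebraMap A C)).Flat := by
    have h := Flat.stalkMap (j ≫ g) y
    rw [Scheme.Hom.stalkMap_comp] at h
    exact h
  obtain ⟨eC⟩ := nonempty_fiberStalk_equiv g x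
  haveI : IsRegularLocalRing (C ⧸ (maximalIdeal A).map (algebraMap A C)) :=
    IsRegularLocalRing.of_ringEquiv eC
  obtain ⟨eY⟩ := nonempty_fiberStalk_equiv (j ≫ g) y
  haveI : IsLocalRing (Y.presheaf.stalk y ⧸ FlatDescent.maxExt (j ≫ g) y) := eY.isLocalRing
  refine (isCompleteIntersection_congr eY).2 (ci_of_h1 (A := A) φ (j.stalkMap_surjective y) hB
    (algebraMap Γ(X, W) C ∘ rs.get) hH hker (FlatDescent.maxExt (j ≫ g) y) ?_)
  rw [FlatDescent.maxExt_comp, ← Ideal.map_map]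
  rfl

theorem ci_fiberStalk_of_isKoszulAt {X S : Scheme.{u}} (f : X ⟶ S) [Flat f] (x : X)
    (h : Synt.IsKoszulAt f x) : Pi1.IsCompleteIntersection (CInt.fiberStalk f x) := by
  obtain ⟨U, P, i, π, hxU, -, ⟨hi, hreg⟩, hπ, hiπ⟩ := h
  obtain ⟨⟨W, hW⟩, hxW, hcl, rs, hrs, hk⟩ := hreg ⟨x, hxU⟩
  haveI := hπ
  let j := i ∣_ W
  have hjg : j ≫ (W.ι ≫ π) = ((i ⁻¹ᵁ W).ι ≫ U.ι) ≫ f := by
    rw [← Category.assoc, morphismRestrict_ι, Category.assoc, hiπ, Category.assoc]
  haveI : Flat (j ≫ (W.ι ≫ π)) := hjg ▸ inferInstance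
  haveI : IsAffine W.toScheme := hW
  have key : ∀ W' : P.Opens, W' = W → ∃ rs : List Γ(P, W'),
      LCI.IsKoszulRegularSeq Γ(P, W') rs ∧ RingHom.ker (i.app W').hom = Ideal.ofList rs := by
    rintro _ rfl
    exact ⟨rs, hrs, hk⟩
  obtain ⟨rs', hrs', hk'⟩ := key (W.ι ''ᵁ ⊤) W.ι_image_top
  let y : (i ⁻¹ᵁ W).toScheme := ⟨⟨x, hxU⟩, hxW⟩
  haveI := isRegularLocalRing_fiberStalk (W.ι ≫ π) (j y)
  have h1 := ci_fiberStalk_of_koszul (W.ι ≫ π) j y ⊤ (isAffineOpen_top W.toScheme) trivial rs' hrs' (by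
    rw [morphismRestrict_app]
    refine Eq.trans ?_ hk'
    ext a
    show ((U : Scheme.{u}).presheaf.map (eqToHom (image_morphismRestrict_preimage i W ⊤)).op).hom
        ((i.app (W.ι ''ᵁ ⊤)).hom a) = 0 ↔ (i.app (W.ι ''ᵁ ⊤)).hom a = 0
    exact map_eq_zero_iff _ (ConcreteCategory.bijective_of_isIso
      ((U : Scheme.{u}).presheaf.map (eqToHom (image_morphismRestrict_preimage i W ⊤)).op)).1)
  rw [hjg] at h1
  obtain ⟨e⟩ := nonempty_fiberStalk_comp_equiv ((i ⁻¹ᵁ W).ι ≫ U.ι) f y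
  exact (isCompleteIntersection_congr e).1 h1

theorem isKoszulAt_of_ci {X S : Scheme.{u}} (f : X ⟶ S) [Flat f] [LocallyOfFinitePresentation f]
    (x : X) (h : Pi1.IsCompleteIntersection (CInt.fiberStalk f x)) : Synt.IsKoszulAt f x := by
  obtain ⟨U, P, g, j, hxU, hg, hj, hjg⟩ := exists_chart f x
  haveI := hg
  haveI : Flat (j ≫ g) := hjg ▸ inferInstance
  haveI : LocallyOfFinitePresentation (j ≫ g) := hjg ▸ inferInstance
  haveI := isRegularLocalRing_fiberStalk g (j ⟨x, hxU⟩)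
  have hci : Pi1.IsCompleteIntersection (CInt.fiberStalk (j ≫ g) ⟨x, hxU⟩) := by
    obtain ⟨e⟩ := nonempty_fiberStalk_comp_equiv U.ι f ⟨x, hxU⟩
    rw [hjg]
    exact (isCompleteIntersection_congr e).2 h
  obtain ⟨V, hV, hVreg⟩ := (S2900.result g j ⟨x, hxU⟩).2 hci
  let U' : X.Opens := U.ι ''ᵁ (j ⁻¹ᵁ V)
  have hle : U' ≤ U := U.ι_image_le _
  let a : (U' : Scheme.{u}) ⟶ U.toScheme := X.homOfLE hle
  have ha : a ≫ U.ι = U'.ι := X.homOfLE_ι hle
  refine ⟨U', P, a ≫ j, g, ⟨⟨x, hxU⟩, hV, rfl⟩, inferInstance, ⟨inferInstance, fun z => ?_⟩, hg,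
    by rw [Category.assoc, hjg, ← Category.assoc, ha]⟩
  have hz : j (a z) ∈ V := by
    obtain ⟨w, hw, hwz⟩ := (z.2 : z.1 ∈ U')
    have : a z = w := by
      apply U.ι.isOpenEmbedding.injective
      refine (congrArg (fun t => t z) ha).trans ?_
      exact hwz.symm
    rw [this]
    exact hw
  obtain ⟨-, hloc⟩ := hVreg
  obtain ⟨O, hO, hzO, rs, hrs, hk⟩ := hloc ⟨a z, hz⟩
  rw [Scheme.ker_morphismRestrict_ideal j V ⟨O, hO⟩, Scheme.Hom.ker_apply] at hk
  have hzO' : j (a z) ∈ V.ι ''ᵁ O := by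
    refine ⟨_, hzO, ?_⟩
    show V.ι ((j ∣_ V) ⟨a z, hz⟩) = _
    rw [← Scheme.Hom.comp_apply, morphismRestrict_ι]
    rfl
  have hpre : j ⁻¹ᵁ (V.ι ''ᵁ O) ≤ a.opensRange := by
    intro w hw
    have hwV : j w ∈ V := (V.ι_image_le O) hw
    refine ⟨⟨U.ι w, w, hwV, rfl⟩, U.ι.isOpenEmbedding.injective ?_⟩
    exact congrArg (fun t => t ⟨U.ι w, w, hwV, rfl⟩) ha
  have hcl : IsClosedImmersion ((a ≫ j) ∣_ (V.ι ''ᵁ O)) := by
    rw [morphismRestrict_comp]
    haveI : IsClosedImmersion (j ∣_ (V.ι ''ᵁ O)) := IsZariskiLocalAtTarget.restrict hj _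
    haveI : IsIso (a ∣_ (j ⁻¹ᵁ (V.ι ''ᵁ O))) := by
      refine (isIso_iff_isOpenImmersion_and_surjective _).2
        ⟨IsZariskiLocalAtTarget.restrict (P := @IsOpenImmersion) inferInstance _, ⟨fun w => ?_⟩⟩
      obtain ⟨q, hq⟩ := hpre w.2
      refine ⟨⟨q, show a q ∈ j ⁻¹ᵁ (V.ι ''ᵁ O) by rw [hq]; exact w.2⟩, Subtype.ext ?_⟩
      rw [morphismRestrict_base_coe]
      exact hq
    exact MorphismProperty.comp_mem @IsClosedImmersion _ _
      (MorphismProperty.of_isIso @IsClosedImmersion (a ∣_ (j ⁻¹ᵁ (V.ι ''ᵁ O)))) ‹IsClosedImmersion (j ∣_ (V.ι ''ᵁ O))›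
  refine ⟨⟨V.ι ''ᵁ O, hO.image_of_isOpenImmersion _⟩, hzO', hcl, rs,
    RegSeq.isKoszulRegularSeq_of_isWeaklyRegular hrs.toIsWeaklyRegular, ?_⟩
  refine Eq.trans ?_ hk
  rw [Scheme.Hom.comp_app]
  haveI : IsIso (a.app (j ⁻¹ᵁ (V.ι ''ᵁ O))) := Scheme.Hom.isIso_app a _ hpre
  exact RingHom.ker_comp_of_injective _
    (ConcreteCategory.bijective_of_isIso (a.app (j ⁻¹ᵁ (V.ι ''ᵁ O)))).1

end Groth.Agent.CIPres
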