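import Mathlib
import Groth.Prelude.Def_RegImm
import Groth.Agent.CIPres.KoszulAt
import Groth.Agent.CIPres.Congr
import Groth.Agent.CIPres.Completion
import Groth.Agent.CIPres.Locus
import Groth.Agent.KRIdeal.Pres
import Groth.Agent.RegSeq.Basic

/-!
# Local presentations of algebras of finite type over a field and complete intersections
-/

set_option autoImplicit false
set_option linter.style.haveILetI false
universe u

open IsLocalRing RingTheory.Sequence
open Groth.Agent.KoszulLib (Ex ex_iff)

noncomputable section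

namespace Groth.Agent.CIPres

theorem isWeaklyRegular_of_ex {L : Type u} [CommRing L] [IsLocalRing L] [IsNoetherianRing L] (l : List L)
    (hmem : ∀ r ∈ l, r ∈ maximalIdeal L) (h : Ex l) : IsWeaklyRegular L l := by
  have h1 : CAlgX.IsH1Regular l.get := RegSeq.isH1Regular_of_isKoszulRegularSeq ((ex_iff l).1 h)
  rw [← List.ofFn_get l]
  refine S18941.result l.get L (fun N N' => IsHausdorff.of_le_jacobson _ _ ((Ideal.span_le.2 fun x hx => by
    obtain ⟨i, rfl⟩ := hx
    exact hmem _ (List.getElem_mem _)).trans (maximalIdeal_le_jacobson _))) ?_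
  intro m hm
  have h2 : m ∈ RegSeq.triv l.get := h1 m (by
    refine Eq.trans ?_ hm
    simp only [Fintype.linearCombination_apply, smul_eq_mul, mul_comm])
  refine Submodule.span_mono ?_ h2
  rintro _ ⟨i, j, rfl⟩
  refine ⟨i, j, 1, ?_⟩
  simp [← Pi.single_smul]

/-- A surjection of algebras localises to a surjection of local rings. -/
theorem exists_local_pres {k B T : Type u} [CommRing k] [CommRing B] [CommRing T] [Algebra k B] [Algebra k T]
    (α : B →ₐ[k] T) (hα : Function.Surjective α) (Q : Ideal T) [Q.IsPrime] (P : Ideal B) [P.IsPrime]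
    (hP : P = Q.comap α.toRingHom) :
    ∃ π : Localization.AtPrime P →ₐ[k] Localization.AtPrime Q, Function.Surjective π ∧
      RingHom.ker π.toRingHom = (RingHom.ker α.toRingHom).map (algebraMap B (Localization.AtPrime P)) := by
  subst hP
  let π : Localization.AtPrime (Q.comap α.toRingHom) →+* Localization.AtPrime Q :=
    Localization.localRingHom (Q.comap α.toRingHom) Q α.toRingHom rfl
  refine ⟨⟨π, fun r => ?_⟩, RingHom.surjective_localRingHom_of_surjective _ hα Q,
    le_antisymm (fun x hx => ?_) (Ideal.map_le_iff_le_comap.2 fun a ha => ?_)⟩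
  · rw [IsScalarTower.algebraMap_apply k B (Localization.AtPrime (Q.comap α.toRingHom))]
    show π _ = _
    rw [Localization.localRingHom_to_map]
    show algebraMap T _ (α (algebraMap k B r)) = _
    rw [α.commutes, ← IsScalarTower.algebraMap_apply]
  · obtain ⟨⟨a, s⟩, rfl⟩ := IsLocalization.mk'_surjective (Q.comap α.toRingHom).primeCompl x
    have h1 : π (algebraMap B (Localization.AtPrime (Q.comap α.toRingHom)) a) = 0 := by
      rw [← IsLocalization.mk'_spec (Localization.AtPrime (Q.comap α.toRingHom)) a s, map_mul,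
        show π _ = 0 from hx, zero_mul]
    rw [Localization.localRingHom_to_map] at h1
    obtain ⟨⟨t, ht⟩, hts⟩ := (IsLocalization.map_eq_zero_iff Q.primeCompl (Localization.AtPrime Q) _).1 h1
    obtain ⟨t, rfl⟩ := hα t
    have h2 : algebraMap B (Localization.AtPrime (Q.comap α.toRingHom)) (t * a) ∈
        (RingHom.ker α.toRingHom).map (algebraMap B (Localization.AtPrime (Q.comap α.toRingHom))) :=
      Ideal.mem_map_of_mem _ (show α (t * a) = 0 by rw [map_mul]; exact hts)
    rw [map_mul, Ideal.unit_mul_mem_iff_mem _ (IsLocalization.map_units _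
      (⟨t, ht⟩ : (Q.comap α.toRingHom).primeCompl))] at h2
    exact IsLocalization.mk'_mem_iff.2 h2
  · show π _ = 0
    rw [Localization.localRingHom_to_map, show α.toRingHom a = 0 from ha, map_zero]

/-- The complete intersection property read on a presentation by a regular ring. -/
theorem ci_iff_pres {k B T : Type u} [CommRing k] [CommRing B] [IsRegularRing B] [CommRing T] [Algebra k B]
    [Algebra k T] (α : B →ₐ[k] T) (hα : Function.Surjective α) (Q : Ideal T) [Q.IsPrime] (P : Ideal B)
    [P.IsPrime] (hP : P = Q.comap α.toRingHom) :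
    Pi1.IsCompleteIntersection (Localization.AtPrime Q) ↔ ∃ rs : List (Localization.AtPrime P),
      Ideal.ofList rs = (RingHom.ker α.toRingHom).map (algebraMap B (Localization.AtPrime P)) ∧
        IsRegular (Localization.AtPrime P) rs := by
  obtain ⟨π, hπ, hker⟩ := exists_local_pres α hα Q P hP
  have := IsRegularRing.isRegularLocalRing_localization (R := B) P
  let e : (Localization.AtPrime P ⧸ RingHom.ker π.toRingHom) ≃+* Localization.AtPrime Q :=
    RingHom.quotientKerEquivOfSurjective (f := π.toRingHom) hπ
  haveI := e.symm.isLocalRing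
  rw [← isCompleteIntersection_congr e, isCompleteIntersection_quotient_iff _ (RingHom.ker_ne_top _), hker]

/-- Koszul regularity near a prime containing the ideal is regularity in the local ring. -/
theorem at_iff_regular {B : Type u} [CommRing B] [IsNoetherianRing B] (J P : Ideal B) [P.IsPrime] (hJP : J ≤ P) :
    KRIdeal.At J P ↔ ∃ rs : List (Localization.AtPrime P),
      Ideal.ofList rs = J.map (algebraMap B (Localization.AtPrime P)) ∧ IsRegular (Localization.AtPrime P) rs := by
  constructor
  · rintro ⟨g, hg, r, f, hd⟩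
    haveI : Module.Flat B (Localization.AtPrime P) := IsLocalization.flat _ P.primeCompl
    obtain ⟨hex, hmap⟩ := hd.transfer (Localization.AtPrime P)
      (IsLocalization.map_units (Localization.AtPrime P) (⟨g, hg⟩ : P.primeCompl))
    have hof : Ideal.ofList (List.ofFn (algebraMap B (Localization.AtPrime P) ∘ f)) =
        J.map (algebraMap B (Localization.AtPrime P)) := by
      rw [KRIdeal.ofList_ofFn, hmap]
    have hle : J.map (algebraMap B (Localization.AtPrime P)) ≤ maximalIdeal _ :=
      (Ideal.map_mono hJP).trans (Localization.AtPrime.map_eq_maximalIdeal).le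
    refine ⟨_, hof, ⟨isWeaklyRegular_of_ex _ (fun x hx => hle (hof.le (Ideal.subset_span hx))) hex, ?_⟩⟩
    rw [hof, smul_eq_mul, Ideal.mul_top]
    exact fun h => (maximalIdeal.isMaximal (Localization.AtPrime P)).ne_top (top_le_iff.1 (h.le.trans hle))
  · rintro ⟨rs, hrs, hreg⟩
    have hlift : ∀ r ∈ rs, ∃ b ∈ J, ∃ v : Localization.AtPrime P,
        IsUnit v ∧ algebraMap B (Localization.AtPrime P) b = v * r := by
      intro r hr
      obtain ⟨⟨⟨b, hb⟩, ⟨s, hs⟩⟩, e⟩ := (IsLocalization.mem_map_algebraMap_iff P.primeCompl _).1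
        (hrs.le (Ideal.subset_span hr))
      exact ⟨b, hb, _, IsLocalization.map_units (Localization.AtPrime P) (⟨s, hs⟩ : P.primeCompl),
        by rw [mul_comm]; exact e.symm⟩
    choose! f hfJ v hv hfv using hlift
    have heq : (rs.map f).map (algebraMap B (Localization.AtPrime P)) =
        rs.map fun r => algebraMap B (Localization.AtPrime P) (f r) := by
      rw [List.map_map]; rfl
    have hof : ∀ l : List (Localization.AtPrime P), (∀ r ∈ l, r ∈ rs) →
        Ideal.ofList (l.map fun r => algebraMap B (Localization.AtPrime P) (f r)) = Ideal.ofList l := by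
      intro l hl
      induction l with
      | nil => rfl
      | cons a l ih =>
        rw [List.map_cons, Ideal.ofList_cons, Ideal.ofList_cons,
          ih fun r hr => hl r (List.mem_cons_of_mem _ hr), hfv a (hl a (List.mem_cons_self ..)),
          Ideal.span_singleton_mul_left_unit (hv a (hl a (List.mem_cons_self ..)))]
    have hweak : IsWeaklyRegular (Localization.AtPrime P)
        ((rs.map f).map (algebraMap B (Localization.AtPrime P))) := by
      rw [heq]
      refine (isWeaklyRegular_iff _ _).2 fun i hi => ?_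
      have hi' : i < rs.length := by simpa using hi
      have e : (Ideal.ofList ((rs.map fun r => algebraMap B (Localization.AtPrime P) (f r)).take i) •
          ⊤ : Submodule (Localization.AtPrime P) (Localization.AtPrime P)) =
          Ideal.ofList (rs.take i) • ⊤ := by
        rw [← List.map_take, hof _ fun r hr => List.mem_of_mem_take hr]
      rw [List.getElem_map, hfv _ (List.getElem_mem hi')]
      exact ((Submodule.quotEquivOfEq _ _ e).isSMulRegular_congr _).2
        (((hv _ (List.getElem_mem hi')).isSMulRegular _).mul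
          (hreg.toIsWeaklyRegular.regular_mod_prev i hi'))
    obtain ⟨g₁, hg₁, hT⟩ := Vasconcelos.regOn_spread P (rs.map f) ((Vasconcelos.regOn_self_iff _ _).2 hweak)
    obtain ⟨g₂, hg₂, hg₂J⟩ := Vasconcelos.exists_mul_mem_of_map_le P J (Ideal.ofList (rs.map f))
      (by rw [Ideal.map_ofList, heq, hof rs fun r hr => hr, hrs])
    have hG : g₂ * g₁ ∉ P := fun h => (Ideal.IsPrime.mem_or_mem ‹_› h).elim hg₂ hg₁
    have hreg2 : IsWeaklyRegular (Localization.Away (g₂ * g₁))
        ((rs.map f).map (algebraMap B (Localization.Away (g₂ * g₁)))) :=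
      (Vasconcelos.regOn_self_iff _ _).1 (hT _ ⟨g₂, Submonoid.mem_powers _⟩)
    refine ⟨g₂ * g₁, hG, (rs.map f).length, (rs.map f).get, ⟨fun i => ?_, ?_, ?_⟩⟩
    · have hmem : (rs.map f).get i ∈ rs.map f := List.getElem_mem _
      obtain ⟨r, hr, hre⟩ := List.mem_map.1 hmem
      rw [← hre]
      exact hfJ r hr
    · rw [List.ofFn_get]
      exact (ex_iff _).2 (RegSeq.isKoszulRegularSeq_of_isWeaklyRegular hreg2)
    · rw [← KRIdeal.ofList_ofFn, List.ofFn_get]
      refine le_antisymm (Ideal.map_le_iff_le_comap.2 fun x hx => ?_) (Ideal.map_mono (Ideal.span_le.2 fun x hx => ?_))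
      · rw [Ideal.mem_comap]
        refine (Ideal.unit_mul_mem_iff_mem _ (isUnit_of_dvd_unit (map_dvd _ (dvd_mul_right g₂ g₁))
          (IsLocalization.Away.algebraMap_isUnit (g₂ * g₁)))).1 ?_
        rw [← map_mul]
        exact Ideal.mem_map_of_mem _ (hg₂J x hx)
      · obtain ⟨r, hr, rfl⟩ := List.mem_map.1 hx
        exact hfJ r hr

section Field

variable {k : Type u} [Field k]

theorem isCIOver_congr {S S' : Type u} [CommRing S] [CommRing S'] [Algebra k S] [Algebra k S'] [IsLocalRing S]
    [IsLocalRing S'] (e : S ≃ₐ[k] S') (h : Synt.IsCIOver k S) : Synt.IsCIOver k S' := by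
  obtain ⟨R, i1, i2, i3, hess, rs, hmem, hreg, ⟨f⟩⟩ := h
  exact ⟨R, i1, i2, i3, hess, rs, hmem, hreg, ⟨e.symm.trans f⟩⟩

theorem ci_of_isCIOver {S : Type u} [CommRing S] [Algebra k S] [IsLocalRing S] (h : Synt.IsCIOver k S) :
    Pi1.IsCompleteIntersection S := by
  obtain ⟨R, i1, i2, i3, -, rs, hmem, hreg, ⟨f⟩⟩ := h
  let := i1
  let := i3
  haveI := i2
  haveI := f.toRingEquiv.isLocalRing
  have hne : Ideal.ofList rs ≠ ⊤ :=
    ne_top_of_le_ne_top (maximalIdeal.isMaximal R).ne_top (Ideal.span_le.2 hmem)
  rw [isCompleteIntersection_congr f.toRingEquiv, isCompleteIntersection_quotient_iff (Ideal.ofList rs) hne]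
  exact ⟨rs, rfl, hreg⟩

theorem isCIOver_of_ci {A : Type u} [CommRing A] [Algebra k A] [Algebra.FiniteType k A] (Q : Ideal A) [Q.IsPrime]
    (h : Pi1.IsCompleteIntersection (Localization.AtPrime Q)) : Synt.IsCIOver k (Localization.AtPrime Q) := by
  obtain ⟨n, α, hα⟩ := Algebra.FiniteType.iff_quotient_mvPolynomial''.1 ‹_›
  let P := Q.comap α.toRingHom
  have := IsRegularRing.isRegularLocalRing_localization (R := MvPolynomial (Fin n) k) P
  obtain ⟨rs, hrs, hreg⟩ := (ci_iff_pres α hα Q P rfl).1 h
  obtain ⟨π, hπ, hker⟩ := exists_local_pres α hα Q P rfl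
  haveI : Algebra.EssFiniteType (MvPolynomial (Fin n) k) (Localization.AtPrime P) :=
    Algebra.EssFiniteType.of_isLocalization _ P.primeCompl
  have hne : Ideal.ofList rs ≠ ⊤ := by
    rw [hrs, ← hker]
    exact RingHom.ker_ne_top _
  exact ⟨Localization.AtPrime P, inferInstance, inferInstance, inferInstance,
    Algebra.EssFiniteType.comp k (MvPolynomial (Fin n) k) _, rs,
    fun r hr => le_maximalIdeal hne (Ideal.subset_span hr), hreg,
    ⟨((Ideal.quotientEquivAlgOfEq k (hrs.trans hker.symm)).trans
      (Ideal.quotientKerAlgEquivOfSurjective hπ)).symm⟩⟩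

/-- Local complete intersection algebras have complete intersection local rings. -/
theorem ci_of_isLCI {A : Type u} [CommRing A] [Algebra k A] [Algebra.FiniteType k A] (h : LCI.IsLCI k A)
    (Q : Ideal A) [Q.IsPrime] : Pi1.IsCompleteIntersection (Localization.AtPrime Q) := by
  obtain ⟨n, α, hα⟩ := Algebra.FiniteType.iff_quotient_mvPolynomial''.1 ‹_›
  have hle : RingHom.ker α.toRingHom ≤ Q.comap α.toRingHom := fun y hy => by
    rw [Ideal.mem_comap, show α.toRingHom y = 0 from hy]; exact zero_mem _
  refine (ci_iff_pres α hα Q _ rfl).2 ((at_iff_regular _ _ hle).1 ?_)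
  exact (KRIdeal.isKRI_iff _).1 (KRIdeal.isKRI_ker_of_isLCI h α hα) _ hle

/-- Complete intersection local rings give Koszul regular presentations. -/
theorem at_of_ci {A : Type u} [CommRing A] [Algebra k A] {n : ℕ} (α : MvPolynomial (Fin n) k →ₐ[k] A)
    (hα : Function.Surjective α) (Q : Ideal A) [Q.IsPrime]
    (h : Pi1.IsCompleteIntersection (Localization.AtPrime Q)) :
    KRIdeal.At (RingHom.ker α.toRingHom) (Q.comap α.toRingHom) := by
  have hle : RingHom.ker α.toRingHom ≤ Q.comap α.toRingHom := fun y hy => by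
    rw [Ideal.mem_comap, show α.toRingHom y = 0 from hy]; exact zero_mem _
  exact (at_iff_regular _ _ hle).2 ((ci_iff_pres α hα Q _ rfl).1 h)

end Field

end Groth.Agent.CIPres
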