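import Mathlib
import Groth.Prelude.Def_RegImm
import Groth.Agent.CIPres.KoszulAt
import Groth.Agent.RelGCILib.Mor
import Groth.Agent.S9758
import Groth.Agent.FibrewiseCrit.Basic

/-!
# Syntomic morphisms are complete intersection morphisms
-/

set_option autoImplicit false
set_option linter.style.haveILetI false
universe u

open CategoryTheory CategoryTheory.Limits AlgebraicGeometry IsLocalRing RingTheory.Sequence

noncomputable section

namespace Groth.Agent.CIPres

variable {X S : Scheme.{u}}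

theorem locallyOfFinitePresentation_of_isSyntomicMor (f : X ⟶ S) (h : Synt.IsSyntomicMor f) :
    LocallyOfFinitePresentation f := by
  refine (HasRingHomProperty.iff_exists_appLE (P := @LocallyOfFinitePresentation)
    (RingHom.finitePresentation_stableUnderComposition.stableUnderCompositionWithLocalizationAway
      RingHom.finitePresentation_holdsForLocalizationAway).left).2 fun x => ?_
  obtain ⟨U, V, e, hx, -, hfp, -⟩ := h x
  exact ⟨V, U, hx, e, hfp⟩

/-- Syntomic morphisms are the complete intersection morphisms. -/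
theorem isSyntomicMor_iff_isCIMorphism (f : X ⟶ S) : Synt.IsSyntomicMor f ↔ CInt.IsCIMorphism f := by
  constructor
  · intro h
    obtain ⟨hfl, hk⟩ := (S9758.result f).2 h
    exact ⟨hfl, locallyOfFinitePresentation_of_isSyntomicMor f h,
      fun x => ci_fiberStalk_of_isKoszulAt f x (hk x)⟩
  · rintro ⟨hfl, hlfp, hci⟩
    exact (S9758.result f).1 ⟨hfl, fun x => isKoszulAt_of_ci f x (hci x)⟩

theorem isSyntomicMor_fiber (f : X ⟶ S) (h : Synt.IsSyntomicMor f) (s : S) :
    Synt.IsSyntomicMor (f.fiberToSpecResidueField s) :=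
  (isSyntomicMor_iff_isCIMorphism _).2
    (isCIMorphism_snd f (S.fromSpecResidueField s) ((isSyntomicMor_iff_isCIMorphism f).1 h))

/-- All affine charts of a syntomic morphism are syntomic ring maps. -/
theorem isSyntomic_appLE (f : X ⟶ S) (h : Synt.IsSyntomicMor f) {U : X.Opens} (hU : IsAffineOpen U)
    {V : S.Opens} (hV : IsAffineOpen V) (e : U ≤ f ⁻¹ᵁ V) :
    letI := (f.appLE V U e).hom.toAlgebra
    Synt.IsSyntomic Γ(S, V) Γ(X, U) := by
  letI := (f.appLE V U e).hom.toAlgebra
  obtain ⟨hfl, hlfp, -⟩ := (isSyntomicMor_iff_isCIMorphism f).1 h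
  exact ⟨HasRingHomProperty.appLE @Flat f hfl ⟨V, hV⟩ ⟨U, hU⟩ e,
    HasRingHomProperty.appLE @LocallyOfFinitePresentation f hlfp ⟨V, hV⟩ ⟨U, hU⟩ e,
    fun p => RelGCILib.isLCIOver_fibre f (isSyntomicMor_fiber f h) hU hV e p⟩

/-- The fibre of a flat map between rings with regular fibres is a complete intersection. -/
theorem ci_quot_of_flat_regular {B C : Type u} [CommRing B] [IsLocalRing B] [CommRing C] [IsLocalRing C]
    (φ : B →+* C) [IsLocalHom φ] (I : Ideal B) (hI : I ≤ maximalIdeal B)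
    [IsRegularLocalRing (B ⧸ I)] [IsRegularLocalRing (C ⧸ I.map φ)]
    (hfl : (Ideal.quotientMap (I.map φ) φ Ideal.le_comap_map).Flat)
    [IsLocalRing (C ⧸ (maximalIdeal B).map φ)] :
    Pi1.IsCompleteIntersection (C ⧸ (maximalIdeal B).map φ) := by
  obtain ⟨rs, hrs, hreg⟩ := exists_isRegular_of_spanFinrank_le (maximalIdeal (B ⧸ I))
    (maximalIdeal.isMaximal _).ne_top (by
      letI : Field ((B ⧸ I) ⧸ maximalIdeal (B ⧸ I)) := Ideal.Quotient.field _
      rw [ringKrullDim_eq_zero_of_field, zero_add]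
      exact ((isRegularLocalRing_iff (B ⧸ I)).1 ‹_›).le)
  let ψ : B ⧸ I →+* C ⧸ I.map φ := Ideal.quotientMap (I.map φ) φ Ideal.le_comap_map
  have hmap : Ideal.ofList (rs.map ψ) = ((maximalIdeal B).map φ).map (Ideal.Quotient.mk (I.map φ)) := by
    rw [← Ideal.map_ofList, hrs,
      ← IsLocalRing.map_maximalIdeal_of_surjective (Ideal.Quotient.mk I) Ideal.Quotient.mk_surjective,
      Ideal.map_map, Ideal.map_map]
    rfl
  have hw : IsWeaklyRegular (C ⧸ I.map φ) (rs.map ψ) := by
    letI : Algebra (B ⧸ I) (C ⧸ I.map φ) := ψ.toAlgebra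
    haveI : Module.Flat (B ⧸ I) (C ⧸ I.map φ) := hfl
    exact hreg.toIsWeaklyRegular.of_flat
  let e : ((C ⧸ I.map φ) ⧸ ((maximalIdeal B).map φ).map (Ideal.Quotient.mk (I.map φ))) ≃+*
      C ⧸ (maximalIdeal B).map φ :=
    DoubleQuot.quotQuotEquivQuotOfLE (Ideal.map_mono hI)
  haveI : IsLocalRing ((C ⧸ I.map φ) ⧸ ((maximalIdeal B).map φ).map (Ideal.Quotient.mk (I.map φ))) :=
    e.symm.isLocalRing
  have hne : ((maximalIdeal B).map φ).map (Ideal.Quotient.mk (I.map φ)) ≠ ⊤ :=
    Ideal.Quotient.nontrivial_iff.1 inferInstance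
  refine (isCompleteIntersection_congr e).1 ((isCompleteIntersection_quotient_iff _ hne).2
    ⟨rs.map ψ, hmap, (RingTheory.Sequence.isRegular_iff _ _).2 ⟨hw, ?_⟩⟩)
  rw [hmap, smul_eq_mul, Ideal.mul_top]
  exact hne.symm

/-- A flat morphism between schemes with regular fibres over a base is a complete intersection
morphism. -/
theorem isCIMorphism_of_flat_of_smooth {Y : Scheme.{u}} (p : X ⟶ S) (q : Y ⟶ S) [Smooth p] [Smooth q]
    (f : X ⟶ Y) (hf : f ≫ q = p) [Flat f] : CInt.IsCIMorphism f := by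
  subst hf
  refine ⟨inferInstance, Groth.FibrewiseCrit.locallyOfFinitePresentation_of_comp f q inferInstance
    inferInstance, fun x => ?_⟩
  obtain ⟨eY⟩ := nonempty_fiberStalk_equiv q (f x)
  obtain ⟨eX⟩ := nonempty_fiberStalk_equiv (f ≫ q) x
  obtain ⟨eF⟩ := nonempty_fiberStalk_equiv f x
  haveI := isRegularLocalRing_fiberStalk q (f x)
  haveI := isRegularLocalRing_fiberStalk (f ≫ q) x
  let φ : Y.presheaf.stalk (f x) →+* X.presheaf.stalk x := (f.stalkMap x).hom
  haveI : IsLocalHom φ := inferInstanceAs (IsLocalHom (f.stalkMap x).hom)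
  haveI : IsRegularLocalRing (Y.presheaf.stalk (f x) ⧸ FlatDescent.maxExt q (f x)) :=
    IsRegularLocalRing.of_ringEquiv eY
  haveI : IsRegularLocalRing (X.presheaf.stalk x ⧸ (FlatDescent.maxExt q (f x)).map φ) :=
    IsRegularLocalRing.of_ringEquiv (eX.trans (Ideal.quotEquivOfEq (FlatDescent.maxExt_comp f q x)))
  haveI : IsLocalRing (X.presheaf.stalk x ⧸ (maximalIdeal (Y.presheaf.stalk (f x))).map φ) :=
    eF.isLocalRing
  haveI : IsLocalRing (X.presheaf.stalk x ⧸ FlatDescent.maxExt f x) := eF.isLocalRing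
  exact (isCompleteIntersection_congr eF).2 (ci_quot_of_flat_regular φ (FlatDescent.maxExt q (f x))
    (IsLocalRing.map_maximalIdeal_le (q.stalkMap (f x)).hom)
    (FlatDescent.fibFlat_of_flat f q x (Flat.stalkMap f x)))

end Groth.Agent.CIPres
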