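import Mathlib
import Groth.Agent.CIPres.LocalPres
import Groth.Agent.RelGCILib.Syntomic
import Groth.Agent.RelGCILib.Criterion
import Groth.Agent.RelGCILib.GlobalLift

/-!
# Syntomic neighbourhoods and local conditions
-/

set_option autoImplicit false
set_option linter.style.haveILetI false
universe u

open TensorProduct

noncomputable section

namespace Groth.Agent.CIPres

variable {R S : Type u} [CommRing R] [CommRing S] [Algebra R S] (p : Ideal R) [p.IsPrime]

theorem exists_fiber_away_equiv (s : S) (C : Type u) [CommRing C] [Algebra R C] [Algebra S C] [IsScalarTower R S C]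
    [IsLocalization.Away s C] (g : p.Fiber S) (hg : Associated g ((1 : p.ResidueField) ⊗ₜ[R] s)) :
    ∃ e : Localization.Away g ≃ₐ[p.ResidueField] p.Fiber C, ∀ x : S,
      e (algebraMap (p.Fiber S) (Localization.Away g) ((1 : p.ResidueField) ⊗ₜ[R] x)) =
        (1 : p.ResidueField) ⊗ₜ[R] algebraMap S C x := by
  haveI : IsLocalization.Away ((1 : p.ResidueField) ⊗ₜ[R] s : p.Fiber S) (Localization.Away g) :=
    IsLocalization.Away.of_associated hg
  let m : p.Fiber S →ₐ[p.ResidueField] p.Fiber C :=
    Algebra.TensorProduct.map (AlgHom.id _ _) (IsScalarTower.toAlgHom R S C)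
  have hu : IsUnit (m ((1 : p.ResidueField) ⊗ₜ[R] s)) := by
    show IsUnit ((1 : p.ResidueField) ⊗ₜ[R] algebraMap S C s : p.Fiber C)
    exact (IsLocalization.Away.algebraMap_isUnit s).map (Algebra.TensorProduct.includeRight : C →ₐ[R] p.Fiber C)
  let f : Localization.Away g →ₐ[p.ResidueField] p.Fiber C :=
    IsLocalization.liftAlgHom (M := Submonoid.powers ((1 : p.ResidueField) ⊗ₜ[R] s : p.Fiber S)) (f := m)
      (by rintro ⟨_, k, rfl⟩; rw [map_pow]; exact hu.pow k)
  let i₀ : S →ₐ[R] Localization.Away g :=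
    ((Algebra.algHom p.ResidueField (p.Fiber S) (Localization.Away g)).restrictScalars R).comp
      Algebra.TensorProduct.includeRight
  have hu₀ : IsUnit (i₀ s) := IsLocalization.Away.algebraMap_isUnit ((1 : p.ResidueField) ⊗ₜ[R] s : p.Fiber S)
  let i₁ : C →ₐ[R] Localization.Away g :=
    IsLocalization.liftAlgHom (M := Submonoid.powers s) (f := i₀) (by rintro ⟨_, k, rfl⟩; rw [map_pow]; exact hu₀.pow k)
  let b : p.Fiber C →ₐ[p.ResidueField] Localization.Away g :=
    Algebra.TensorProduct.lift (Algebra.ofId _ _) i₁ fun _ _ => Commute.all _ _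
  have hf : ∀ x, f (algebraMap (p.Fiber S) (Localization.Away g) x) = m x := fun x => IsLocalization.lift_eq _ x
  have hi : ∀ x, i₁ (algebraMap S C x) = i₀ x := fun x => IsLocalization.lift_eq _ x
  refine ⟨AlgEquiv.ofAlgHom f b ?_ ?_, fun x => hf _⟩
  · refine Algebra.TensorProduct.ext (Subsingleton.elim _ _) (IsLocalization.algHom_ext (Submonoid.powers s) ?_)
    refine AlgHom.ext fun x => ?_
    show f (b (1 ⊗ₜ[R] algebraMap S C x)) = 1 ⊗ₜ[R] algebraMap S C x
    rw [show b ((1 : p.ResidueField) ⊗ₜ[R] algebraMap S C x) = i₀ x by simp [b, hi]]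
    show f (algebraMap (p.Fiber S) (Localization.Away g) (1 ⊗ₜ[R] x)) = _
    rw [hf]; rfl
  · refine IsLocalization.algHom_ext (Submonoid.powers ((1 : p.ResidueField) ⊗ₜ[R] s : p.Fiber S))
      (Algebra.TensorProduct.ext (Subsingleton.elim _ _) (AlgHom.ext fun x => ?_))
    show b (f (algebraMap (p.Fiber S) (Localization.Away g) (1 ⊗ₜ[R] x))) = algebraMap (p.Fiber S) (Localization.Away g) (1 ⊗ₜ[R] x)
    rw [hf]
    show b (1 ⊗ₜ[R] algebraMap S C x) = _
    simp [b, hi]; rfl

theorem atPrime_congr {A T : Type u} [CommRing A] [CommRing T] [Algebra A T] {P P' : Ideal A} [P.IsPrime]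
    [P'.IsPrime] (h : P = P') (hT : IsLocalization.AtPrime T P) : IsLocalization.AtPrime T P' := by
  subst h; exact hT

/-- The fibre local rings of a basic open. -/
theorem exists_fiber_away_prime (q : Ideal S) [q.IsPrime] (Q : Ideal (p.Fiber S)) [Q.IsPrime]
    (hQ : Q.comap Algebra.TensorProduct.includeRight.toRingHom = q) (g : S) (hg : g ∉ q) :
    ∃ (QC : Ideal (p.Fiber (Localization.Away g))) (_ : QC.IsPrime),
      (∀ x : S, (1 : p.ResidueField) ⊗ₜ[R] algebraMap S (Localization.Away g) x ∈ QC ↔ x ∈ q) ∧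
      Nonempty (Localization.AtPrime QC ≃ₐ[p.ResidueField] Localization.AtPrime Q) := by
  have hQm : ∀ x : S, (1 : p.ResidueField) ⊗ₜ[R] x ∈ Q ↔ x ∈ q := fun x => by rw [← hQ]; rfl
  let gF : p.Fiber S := (1 : p.ResidueField) ⊗ₜ[R] g
  obtain ⟨e, he⟩ := exists_fiber_away_equiv p g (Localization.Away g) gF (Associated.refl _)
  have hgF : gF ∉ Q := fun h => hg ((hQm g).1 h)
  have hdisj : Disjoint (Submonoid.powers gF : Set (p.Fiber S)) (Q : Set (p.Fiber S)) :=
    Set.disjoint_left.2 fun x hx hxQ => by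
      obtain ⟨k, rfl⟩ := hx
      exact hgF (‹Q.IsPrime›.mem_of_pow_mem k hxQ)
  let QL : Ideal (Localization.Away gF) := Q.map (algebraMap (p.Fiber S) (Localization.Away gF))
  haveI hQL : QL.IsPrime := IsLocalization.isPrime_of_isPrime_disjoint _ _ Q inferInstance hdisj
  have hc : QL.comap (algebraMap (p.Fiber S) (Localization.Away gF)) = Q :=
    IsLocalization.under_map_of_isPrime_disjoint _ _ ‹Q.IsPrime› hdisj
  let QC : Ideal (p.Fiber (Localization.Away g)) := QL.comap (e.symm : p.Fiber (Localization.Away g) ≃+* _)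
  haveI : QC.IsPrime := Ideal.IsPrime.comap _
  refine ⟨QC, inferInstance, fun x => ?_, ⟨?_⟩⟩
  · show e.symm _ ∈ QL ↔ _
    rw [← he, AlgEquiv.symm_apply_apply, ← hQm, ← Ideal.mem_comap, hc]
  · haveI : IsLocalization.AtPrime (Localization.AtPrime QL) Q :=
      atPrime_congr hc (IsLocalization.isLocalization_isLocalization_atPrime_isLocalization (Submonoid.powers gF)
        (T := Localization.AtPrime QL) QL)
    have hpres : ∃ π : Localization.AtPrime QC →ₐ[p.ResidueField] Localization.AtPrime QL,
        Function.Bijective π := by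
      obtain ⟨π, hπ, hker⟩ := exists_local_pres e.symm.toAlgHom e.symm.surjective QL QC rfl
      refine ⟨π, (RingHom.injective_iff_ker_eq_bot π.toRingHom).2 ?_, hπ⟩
      rw [hker, (RingHom.injective_iff_ker_eq_bot e.symm.toAlgHom.toRingHom).1 e.symm.injective, Ideal.map_bot]
    let e₁ : Localization.AtPrime QC ≃ₐ[p.ResidueField] Localization.AtPrime QL :=
      AlgEquiv.ofBijective _ hpres.choose_spec
    exact e₁.trans ((IsLocalization.algEquiv Q.primeCompl (Localization.AtPrime QL)
      (Localization.AtPrime Q)).restrictScalars p.ResidueField)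

variable {p}

theorem atPrime_flat_iff (q : Ideal S) [q.IsPrime] (g : S) (qC : Ideal (Localization.Away g)) [qC.IsPrime]
    (hqC : qC.comap (algebraMap S (Localization.Away g)) = q) :
    Module.Flat R (Localization.AtPrime qC) ↔ Module.Flat R (Localization.AtPrime q) := by
  haveI : IsLocalization.AtPrime (Localization.AtPrime qC) q :=
    atPrime_congr hqC (IsLocalization.isLocalization_isLocalization_atPrime_isLocalization (Submonoid.powers g)
      (T := Localization.AtPrime qC) qC)
  let e := ((IsLocalization.algEquiv q.primeCompl (Localization.AtPrime qC)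
    (Localization.AtPrime q)).restrictScalars R).toLinearEquiv
  exact ⟨fun h => Module.Flat.of_linearEquiv e.symm, fun h => Module.Flat.of_linearEquiv e⟩

theorem syntomic_nhd_tfae (q : Ideal S) [q.IsPrime] [q.LiesOver p] (Q : Ideal (p.Fiber S)) [Q.IsPrime]
    (hQ : Q.comap Algebra.TensorProduct.includeRight.toRingHom = q) :
    ((∃ g : S, g ∉ q ∧ Synt.IsSyntomic R (Localization.Away g)) ↔
        ∃ g : S, g ∉ q ∧ ∃ (n c : ℕ) (F : Fin c → MvPolynomial (Fin n) R), Synt.IsRelGCI R n c F ∧
          Nonempty (Localization.Away g ≃ₐ[R] Synt.RelGCIRing R n c F)) ∧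
      ((∃ g : S, g ∉ q ∧ Synt.IsSyntomic R (Localization.Away g)) ↔
        ∃ g : S, g ∉ q ∧ Algebra.FinitePresentation R (Localization.Away g) ∧
          Module.Flat R (Localization.AtPrime q) ∧
          Synt.IsCIOver p.ResidueField (Localization.AtPrime Q)) := by
  have hqp : q.comap (algebraMap R S) = p := (Ideal.LiesOver.over (P := q) (p := p)).symm
  have hgood : ∀ g : S, g ∉ q → ∃ (qC : Ideal (Localization.Away g)) (_ : qC.IsPrime),
      qC.comap (algebraMap S (Localization.Away g)) = q ∧ qC.comap (algebraMap R (Localization.Away g)) = p ∧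
      qC = q.map (algebraMap S (Localization.Away g)) := fun g hg => by
    have hdisj : Disjoint (Submonoid.powers g : Set S) (q : Set S) := Set.disjoint_left.2 fun x hx hxq => by
      obtain ⟨k, rfl⟩ := hx
      exact hg (‹q.IsPrime›.mem_of_pow_mem k hxq)
    have h1 : (q.map (algebraMap S (Localization.Away g))).comap (algebraMap S (Localization.Away g)) = q :=
      IsLocalization.under_map_of_isPrime_disjoint (Submonoid.powers g) (Localization.Away g)
      ‹q.IsPrime› hdisj
    refine ⟨_, IsLocalization.isPrime_of_isPrime_disjoint _ _ q inferInstance hdisj, h1, ?_, rfl⟩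
    rw [IsScalarTower.algebraMap_eq R S (Localization.Away g), ← Ideal.comap_comap, h1, hqp]
  have h31 : ∀ g : S, g ∉ q → Algebra.FinitePresentation R (Localization.Away g) →
      Module.Flat R (Localization.AtPrime q) → Synt.IsCIOver p.ResidueField (Localization.AtPrime Q) →
      ∃ g' : S, g' ∉ q ∧ ∃ (n c : ℕ) (F : Fin c → MvPolynomial (Fin n) R), Synt.IsRelGCI R n c F ∧
        Nonempty (Localization.Away g' ≃ₐ[R] Synt.RelGCIRing R n c F) := by
    intro g hg hfp hfl hci
    obtain ⟨qC, hqCp, hqC, hpC, hqCmap⟩ := hgood g hg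
    haveI := hqCp
    haveI : Module.Flat R (Localization.AtPrime qC) := (atPrime_flat_iff q g qC hqC).2 hfl
    obtain ⟨QC, hQCp, hQC, ⟨eQ⟩⟩ := exists_fiber_away_prime p q Q hQ g hg
    haveI := hQCp
    obtain ⟨n, π, hπ, hI⟩ := Algebra.FinitePresentation.out (R := R) (A := Localization.Away g)
    letI : Algebra (MvPolynomial (Fin n) R) (Localization.Away g) := π.toRingHom.toAlgebra
    haveI : IsScalarTower R (MvPolynomial (Fin n) R) (Localization.Away g) :=
      IsScalarTower.of_algebraMap_eq fun r => (π.commutes r).symm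
    obtain ⟨α, hα, hker, hαmap⟩ := RelGCILib.exists_fiber_pres p π hπ
    have hAt := at_of_ci α hα QC
      ((isCompleteIntersection_congr eQ.toRingEquiv).2 (ci_of_isCIOver hci))
    rw [hker] at hAt
    have hQC' : ∀ y : Localization.Away g, (1 : p.ResidueField) ⊗ₜ[R] y ∈ QC ↔ y ∈ qC := fun y => by
      have hcm : (QC.comap (Algebra.TensorProduct.includeRight :
          Localization.Away g →ₐ[R] p.Fiber (Localization.Away g)).toRingHom).comap
            (algebraMap S (Localization.Away g)) = q := Ideal.ext fun x => hQC x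
      have h2 : QC.comap (Algebra.TensorProduct.includeRight :
          Localization.Away g →ₐ[R] p.Fiber (Localization.Away g)).toRingHom = qC := by
        rw [← IsLocalization.map_under (Submonoid.powers g) (Localization.Away g)
            (QC.comap (Algebra.TensorProduct.includeRight :
              Localization.Away g →ₐ[R] p.Fiber (Localization.Away g)).toRingHom),
          ← IsLocalization.map_under (Submonoid.powers g) (Localization.Away g) qC]
        show (Ideal.comap _ _).map _ = (Ideal.comap _ _).map _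
        rw [hcm, hqC]
      rw [← h2]; rfl
    obtain ⟨g₁, hg₁, m, d, G, hG, ⟨eG⟩⟩ := RelGCILib.exists_away_isRelGCI (S := Localization.Away g) hπ hI qC p hpC
      (QC.comap α.toRingHom) (Ideal.ext fun z => by
        show α (MvPolynomial.map (algebraMap R p.ResidueField) z) ∈ QC ↔ π z ∈ qC
        rw [hαmap]; exact hQC' _) hAt
    obtain ⟨g', hg', ⟨e⟩⟩ := RelGCILib.exists_away_away (R := R) q g (AlgEquiv.refl) g₁
      (fun a ha => Ideal.mem_map_of_mem _ ha) qC hg₁ hqCmap.ge
    exact ⟨g', hg', m, d, G, hG, ⟨e.trans eG⟩⟩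
  have h21 : (∃ g : S, g ∉ q ∧ ∃ (n c : ℕ) (F : Fin c → MvPolynomial (Fin n) R), Synt.IsRelGCI R n c F ∧
      Nonempty (Localization.Away g ≃ₐ[R] Synt.RelGCIRing R n c F)) →
      ∃ g : S, g ∉ q ∧ Synt.IsSyntomic R (Localization.Away g) := by
    rintro ⟨g, hg, n, c, F, hF, ⟨e⟩⟩
    exact ⟨g, hg, RelGCILib.isSyntomic_congr e.symm (RelGCILib.isSyntomic_relGCIRing F hF)⟩
  have h13 : (∃ g : S, g ∉ q ∧ Synt.IsSyntomic R (Localization.Away g)) →
      ∃ g : S, g ∉ q ∧ Algebra.FinitePresentation R (Localization.Away g) ∧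
        Module.Flat R (Localization.AtPrime q) ∧
        Synt.IsCIOver p.ResidueField (Localization.AtPrime Q) := by
    rintro ⟨g, hg, hfl, hfp, hfib⟩
    obtain ⟨qC, hqCp, hqC, -, -⟩ := hgood g hg
    haveI := hqCp
    haveI := hfl
    haveI := hfp
    haveI : Module.Flat (Localization.Away g) (Localization.AtPrime qC) :=
      IsLocalization.flat _ qC.primeCompl
    haveI : Module.Flat R (Localization.AtPrime qC) := Module.Flat.trans R (Localization.Away g) _
    obtain ⟨QC, hQCp, -, ⟨eQ⟩⟩ := exists_fiber_away_prime p q Q hQ g hg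
    haveI := hQCp
    refine ⟨g, hg, hfp, (atPrime_flat_iff q g qC hqC).1 inferInstance, isCIOver_congr (S := Localization.AtPrime QC) (S' := Localization.AtPrime Q) eQ ?_⟩
    exact isCIOver_of_ci QC (ci_of_isLCI (RelGCILib.isLCI_of_isLCIOver (hfib ⟨p, inferInstance⟩)) QC)
  refine ⟨⟨fun h => ?_, h21⟩, ⟨h13, fun ⟨g, hg, h1, h2, h3⟩ => h21 (h31 g hg h1 h2 h3)⟩⟩
  obtain ⟨g, hg, h1, h2, h3⟩ := h13 h
  exact h31 g hg h1 h2 h3

end Groth.Agent.CIPres
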