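import Mathlib
import Groth.Agent.CIPres.LocalPres
import Groth.Agent.CIPres.SyntomicNhd
import Groth.Agent.CIPres.Syntomic
import Groth.Agent.RelGCILib.Criterion
import Groth.Agent.KRIdeal.Scheme

/-!
# Local complete intersections over a field
-/

set_option autoImplicit false
set_option linter.style.haveILetI false
universe u

open CategoryTheory AlgebraicGeometry

noncomputable section

namespace Groth.Agent.CIPres

theorem isLCI_of_forall_ci {k A : Type u} [Field k] [CommRing A] [Algebra k A] [Algebra.FiniteType k A]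
    (h : ∀ (Q : Ideal A) [Q.IsPrime], Pi1.IsCompleteIntersection (Localization.AtPrime Q)) : LCI.IsLCI k A := by
  obtain ⟨n, α, hα⟩ := Algebra.FiniteType.iff_quotient_mvPolynomial''.1 ‹_›
  refine ⟨inferInstance, n, α, hα, (KRIdeal.isKRI_iff _).2 fun P hP hle => ?_⟩
  haveI hQ : (P.map α.toRingHom).IsPrime := Ideal.map_isPrime_of_surjective hα hle
  have hc : (P.map α.toRingHom).comap α.toRingHom = P := by
    rw [Ideal.comap_map_of_surjective α.toRingHom hα, ← RingHom.ker_eq_comap_bot, sup_eq_left.2 hle]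
  have := at_of_ci α hα (P.map α.toRingHom) (h _)
  rwa [hc] at this

variable {k : Type u} [Field k] {X : Scheme.{u}} (p : X ⟶ Spec (CommRingCat.of k))

theorem syntomic_ringHom_iff (U : X.affineOpens) :
    (letI := (p.appLE ⊤ U.1 le_top).hom.toAlgebra
     Synt.IsSyntomic Γ(Spec (CommRingCat.of k), ⊤) Γ(X, U.1)) ↔
    (letI := ((Scheme.ΓSpecIso (CommRingCat.of k)).inv ≫ p.appLE ⊤ U.1 le_top).hom.toAlgebra
     Synt.IsSyntomic k Γ(X, U.1)) := by
  have h1 : (Scheme.ΓSpecIso (CommRingCat.of k)).inv ≫ p.appLE ⊤ U.1 le_top =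
      (Scheme.ΓSpecIso (CommRingCat.of k)).inv ≫ p.appLE ⊤ U.1 le_top := rfl
  letI a1 := (p.appLE ⊤ U.1 le_top).hom.toAlgebra
  letI a2 := ((Scheme.ΓSpecIso (CommRingCat.of k)).inv ≫ p.appLE ⊤ U.1 le_top).hom.toAlgebra
  rw [RelGCILib.isSyntomic_iff_flat_and_isLCI, RelGCILib.isSyntomic_iff_flat_and_isLCI]
  refine and_congr ?_ ?_
  · rw [← RingHom.flat_algebraMap_iff, ← RingHom.flat_algebraMap_iff]
    exact (RingHom.Flat.respectsIso.cancel_left_isIso (Scheme.ΓSpecIso (CommRingCat.of k)).inv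
      (p.appLE ⊤ U.1 le_top)).symm
  · rw [← KRIdeal.ringLCI_algebraMap, ← KRIdeal.ringLCI_algebraMap]
    exact (KRIdeal.respectsIso.cancel_left_isIso (Scheme.ΓSpecIso (CommRingCat.of k)).inv
      (p.appLE ⊤ U.1 le_top)).symm

theorem germ_comp (U : X.Opens) (x : X) (hx : x ∈ U) :
    ((Scheme.ΓSpecIso (CommRingCat.of k)).inv ≫ p.appLE ⊤ U le_top) ≫ X.presheaf.germ U x hx =
      (Scheme.ΓSpecIso (CommRingCat.of k)).inv ≫ p.appLE ⊤ ⊤ le_top ≫ X.presheaf.germ ⊤ x trivial := by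
  rw [Category.assoc, ← p.appLE_map (U := ⊤) (V := ⊤) (V' := U) le_top (homOfLE (le_top : U ≤ ⊤)).op,
    Category.assoc, X.presheaf.germ_res (homOfLE (le_top : U ≤ ⊤)) x hx]

theorem nonempty_stalk_algEquiv (U : X.affineOpens) (x : X) (hx : x ∈ U.1) :
    letI := ((Scheme.ΓSpecIso (CommRingCat.of k)).inv ≫ p.appLE ⊤ U.1 le_top).hom.toAlgebra
    letI := ((Scheme.ΓSpecIso (CommRingCat.of k)).inv ≫ p.appLE ⊤ ⊤ le_top ≫
      X.presheaf.germ ⊤ x trivial).hom.toAlgebra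
    Nonempty (Localization.AtPrime (U.2.primeIdealOf ⟨x, hx⟩).asIdeal ≃ₐ[k] X.presheaf.stalk x) := by
  letI := ((Scheme.ΓSpecIso (CommRingCat.of k)).inv ≫ p.appLE ⊤ U.1 le_top).hom.toAlgebra
  letI := ((Scheme.ΓSpecIso (CommRingCat.of k)).inv ≫ p.appLE ⊤ ⊤ le_top ≫
    X.presheaf.germ ⊤ x trivial).hom.toAlgebra
  letI := (X.presheaf.germ U.1 x hx).hom.toAlgebra
  haveI : IsScalarTower k Γ(X, U.1) (X.presheaf.stalk x) :=
    IsScalarTower.of_algebraMap_eq' (congrArg CommRingCat.Hom.hom (germ_comp p U.1 x hx)).symm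
  haveI := U.2.isLocalization_stalk ⟨x, hx⟩
  exact ⟨(IsLocalization.algEquiv (U.2.primeIdealOf ⟨x, hx⟩).asIdeal.primeCompl _ _).restrictScalars k⟩

theorem finiteType_of_lft [LocallyOfFiniteType p] (U : X.affineOpens) :
    letI := ((Scheme.ΓSpecIso (CommRingCat.of k)).inv ≫ p.appLE ⊤ U.1 le_top).hom.toAlgebra
    Algebra.FiniteType k Γ(X, U.1) :=
  (RingHom.finiteType_respectsIso.cancel_left_isIso (Scheme.ΓSpecIso (CommRingCat.of k)).inv
      (p.appLE ⊤ U.1 le_top)).2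
    (HasRingHomProperty.appLE @LocallyOfFiniteType p inferInstance ⟨⊤, isAffineOpen_top _⟩ U le_top)

theorem lci_over_field_tfae [LocallyOfFiniteType p] :
    [Synt.IsSyntomicMor p,
      ∀ x : ↑X, ∃ U : X.affineOpens, x ∈ U.1 ∧
        letI := ((Scheme.ΓSpecIso (CommRingCat.of k)).inv ≫ p.appLE ⊤ U.1 le_top).hom.toAlgebra
        Synt.IsGlobalCI k Γ(X, U.1),
      ∀ x : ↑X,
        letI := ((Scheme.ΓSpecIso (CommRingCat.of k)).inv ≫ p.appLE ⊤ ⊤ le_top ≫ X.presheaf.germ ⊤ x trivial).hom.toAlgebra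
        Synt.IsCIOver k (X.presheaf.stalk x)].TFAE := by
  tfae_have 1 → 2 := by
    intro h x
    obtain ⟨U, hU, hxU, -⟩ := exists_isAffineOpen_mem_and_subset (X := X) (U := ⊤) (x := x) trivial
    letI := ((Scheme.ΓSpecIso (CommRingCat.of k)).inv ≫ p.appLE ⊤ U le_top).hom.toAlgebra
    have hs : Synt.IsSyntomic k Γ(X, U) :=
      (syntomic_ringHom_iff p ⟨U, hU⟩).1 (isSyntomic_appLE p h hU (isAffineOpen_top _) le_top)
    obtain ⟨g, hg, m, d, G, hG, ⟨e⟩⟩ :=
      RelGCILib.exists_away_isRelGCI_of_isSyntomic k hs (hU.primeIdealOf ⟨x, hxU⟩).asIdeal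
    have hxg : x ∈ X.basicOpen g := by
      by_contra hn
      apply hg
      rw [hU.primeIdealOf_eq_map_closedPoint]
      show (X.presheaf.germ U x hxU).hom g ∈ IsLocalRing.maximalIdeal _
      rwa [IsLocalRing.mem_maximalIdeal, mem_nonunits_iff, ← X.mem_basicOpen g x hxU]
    refine ⟨⟨X.basicOpen g, hU.basicOpen g⟩, hxg, ?_⟩
    letI := ((Scheme.ΓSpecIso (CommRingCat.of k)).inv ≫ p.appLE ⊤ (X.basicOpen g) le_top).hom.toAlgebra
    haveI : IsScalarTower k Γ(X, U) Γ(X, X.basicOpen g) := IsScalarTower.of_algebraMap_eq' (by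
      show _ = (X.presheaf.map (homOfLE (X.basicOpen_le g)).op).hom.comp _
      rw [RingHom.algebraMap_toAlgebra, RingHom.algebraMap_toAlgebra, ← CommRingCat.hom_comp,
        Category.assoc, Scheme.Hom.appLE_map])
    haveI := hU.isLocalization_basicOpen g
    exact RelGCILib.isGlobalCI_of_equiv
      (e.symm.trans ((IsLocalization.algEquiv (Submonoid.powers g) _ _).restrictScalars k))
      (RelGCILib.isGlobalCI_of_isRelGCI G hG)
  tfae_have 2 → 3 := by
    intro h x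
    obtain ⟨U, hxU, hU⟩ := h x
    letI := ((Scheme.ΓSpecIso (CommRingCat.of k)).inv ≫ p.appLE ⊤ U.1 le_top).hom.toAlgebra
    letI := ((Scheme.ΓSpecIso (CommRingCat.of k)).inv ≫ p.appLE ⊤ ⊤ le_top ≫
      X.presheaf.germ ⊤ x trivial).hom.toAlgebra
    haveI := finiteType_of_lft p U
    haveI : Nontrivial Γ(X, U.1) :=
      PrimeSpectrum.nonempty_iff_nontrivial.1 ⟨U.2.primeIdealOf ⟨x, hxU⟩⟩
    obtain ⟨e⟩ := nonempty_stalk_algEquiv p U x hxU
    exact isCIOver_congr e (isCIOver_of_ci _ (ci_of_isLCI (RelGCILib.isLCI_of_isGlobalCI hU) _))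
  tfae_have 3 → 1 := by
    intro h x
    obtain ⟨U, hU, hxU, -⟩ := exists_isAffineOpen_mem_and_subset (X := X) (U := ⊤) (x := x) trivial
    refine ⟨⟨U, hU⟩, ⟨⊤, isAffineOpen_top _⟩, le_top, hxU, ?_⟩
    refine (syntomic_ringHom_iff p ⟨U, hU⟩).2 ?_
    letI := ((Scheme.ΓSpecIso (CommRingCat.of k)).inv ≫ p.appLE ⊤ U le_top).hom.toAlgebra
    haveI := finiteType_of_lft p ⟨U, hU⟩
    refine RelGCILib.isSyntomic_of_flat_isLCI k Γ(X, U) (isLCI_of_forall_ci fun Q hQ => ?_)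
    let z : PrimeSpectrum Γ(X, U) := ⟨Q, hQ⟩
    have hz : hU.fromSpec z ∈ U := hU.range_fromSpec.le ⟨z, rfl⟩
    letI := ((Scheme.ΓSpecIso (CommRingCat.of k)).inv ≫ p.appLE ⊤ ⊤ le_top ≫
      X.presheaf.germ ⊤ (hU.fromSpec z) trivial).hom.toAlgebra
    obtain ⟨e⟩ := nonempty_stalk_algEquiv p ⟨U, hU⟩ (hU.fromSpec z) hz
    have hzQ : (hU.primeIdealOf ⟨hU.fromSpec z, hz⟩).asIdeal = Q := by
      have : hU.primeIdealOf ⟨hU.fromSpec z, hz⟩ = z :=
        hU.fromSpec.isOpenEmbedding.injective (hU.fromSpec_primeIdealOf _)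
      exact congrArg PrimeSpectrum.asIdeal this
    have hci : ∀ (Q' : Ideal Γ(X, U)) [Q'.IsPrime],
        (hU.primeIdealOf ⟨hU.fromSpec z, hz⟩).asIdeal = Q' →
        Pi1.IsCompleteIntersection (Localization.AtPrime Q') := by
      rintro _ _ rfl
      exact (isCompleteIntersection_congr e.toRingEquiv).2 (ci_of_isCIOver (h (hU.fromSpec z)))
    exact hci Q hzQ
  tfae_finish

end Groth.Agent.CIPres
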