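import Mathlib
import Groth.Agent.CIPres.Syntomic
import Groth.Agent.FlatSerre.Basic
import Groth.Agent.FlatSerre.Descent
import Groth.Agent.FlatDescent.CM.Scheme
import Groth.Agent.DepthLib.CMModule
import Groth.Agent.GeomRk.Basic
import Groth.Agent.AlgStLib.StkNoeth
import Groth.Agent.S9249

/-!
# Cohen-Macaulay and (S_k) along syntomic morphisms
-/

set_option autoImplicit false
set_option linter.style.haveILetI false
universe u

open CategoryTheory CategoryTheory.Limits AlgebraicGeometry IsLocalRing LocCoh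
open Groth.Agent.FlatSerre Groth.Agent.DepthLib Groth.FlatDescent

noncomputable section

namespace Groth.Agent.CIPres

theorem cm_quotient_ofList {R : Type u} [CommRing R] [IsCohenMacaulayLocalRing R] (rs : List R)
    (hmem : ∀ r ∈ rs, r ∈ maximalIdeal R) (hreg : RingTheory.Sequence.IsWeaklyRegular R rs)
    [IsLocalRing (R ⧸ Ideal.ofList rs)] : IsCohenMacaulayLocalRing (R ⧸ Ideal.ofList rs) := by
  have h := isCohenMacaulayModule_quot_ofList rs R isCohenMacaulayModule_self hmem hreg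
  have he : (Ideal.ofList rs • (⊤ : Submodule R R)) = Ideal.ofList rs := by
    rw [smul_eq_mul, Ideal.mul_top]
  rw [isCohenMacaulayModule_congr (Submodule.quotEquivOfEq _ _ he)] at h
  unfold IsCohenMacaulayModule at h
  rw [isCohenMacaulayLocalRing_iff, ← Module.supportDim_quotient_eq_ringKrullDim, h,
    depth_eq_of_surjective (R := R) (S := R ⧸ Ideal.ofList rs) Ideal.Quotient.mk_surjective]

theorem cm_of_ci (A : Type u) [CommRing A] [IsLocalRing A] [IsNoetherianRing A]
    (h : Pi1.IsCompleteIntersection A) : IsCohenMacaulayLocalRing A := by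
  obtain ⟨B, iB, iB', rs, hmem, hrs, ⟨e⟩⟩ := h
  let := iB
  let := iB'
  haveI := isCohenMacaulayLocalRing_of_isRegularLocalRing B
  haveI : Nontrivial (B ⧸ Ideal.ofList rs) := Ideal.Quotient.nontrivial_iff.2
    (ne_top_of_le_ne_top (maximalIdeal.isMaximal B).ne_top (Ideal.span_le.2 hmem))
  haveI : IsLocalRing (B ⧸ Ideal.ofList rs) :=
    IsLocalRing.of_surjective' (Ideal.Quotient.mk _) Ideal.Quotient.mk_surjective
  exact (S9249.result A).2 (CM.cm_ringEquiv e.symm (cm_quotient_ofList rs hmem hrs.toIsWeaklyRegular))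

theorem skLoc_of_cm (k : ℕ) (T : Type u) [CommRing T] [IsLocalRing T]
    (h : IsCohenMacaulayLocalRing T) : SkLoc k T := by
  haveI := h
  haveI : IsNoetherianRing T := inferInstance
  exact (min_le_right _ _).trans (ringKrullDim_eq_depth (R := T)).le

theorem hasSk_stalk_iff (Z : Scheme.{u}) (k : ℕ) :
    (∀ x : Z, HasSk k (Z.presheaf.stalk x) (Z.presheaf.stalk x)) ↔
      ∀ x : Z, SkLoc k (Z.presheaf.stalk x) := by
  refine ⟨fun h x => skLoc_of_hasSk (h x), fun h x => hasSk_iff_forall_skLoc.mpr fun p hp => ?_⟩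
  obtain ⟨e⟩ := GeomRk.exists_stalk_equiv_localization Z x ⟨p, hp⟩
  exact (h _).congr e.symm

theorem isLocallyNoetherian_of_jointly_surjective {ι : Type u} {S : Scheme.{u}} {X : ι → Scheme.{u}}
    (f : ∀ i, X i ⟶ S) (hsurj : ∀ s : S, ∃ i, s ∈ Set.range (f i).base) (hflat : ∀ i, Flat (f i))
    (hfp : ∀ i, LocallyOfFinitePresentation (f i)) (hX : ∀ i, IsLocallyNoetherian (X i)) :
    IsLocallyNoetherian S := by
  let p : ∐ X ⟶ S := Sigma.desc f
  have hp : ∀ i, Sigma.ι X i ≫ p = f i := fun i => Sigma.ι_desc _ _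
  haveI : IsLocallyNoetherian (∐ X) := (isLocallyNoetherian_iff_openCover (sigmaOpenCover X)).2
    (fun i => hX i)
  haveI : Flat p := (IsZariskiLocalAtSource.iff_of_openCover (P := @Flat) (sigmaOpenCover X)).2 fun i => by
    show Flat (Sigma.ι X i ≫ p)
    rw [hp]
    exact hflat i
  haveI : LocallyOfFinitePresentation p :=
    (IsZariskiLocalAtSource.iff_of_openCover (P := @LocallyOfFinitePresentation) (sigmaOpenCover X)).2 fun i => by
      show LocallyOfFinitePresentation (Sigma.ι X i ≫ p)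
      rw [hp]
      exact hfp i
  haveI : Surjective p := ⟨fun s => by
    obtain ⟨i, x, hx⟩ := hsurj s
    refine ⟨Sigma.ι X i x, ?_⟩
    rw [← Scheme.Hom.comp_apply, hp]
    exact hx⟩
  exact AlgStLib.isLocallyNoetherian_of_fppf p

theorem flat_and_cm_fibre {X S : Scheme.{u}} (f : X ⟶ S) (h : Synt.IsSyntomicMor f) (x : X) :
    (f.stalkMap x).hom.Flat ∧ IsCohenMacaulayLocalRing (X.presheaf.stalk x ⧸ maxExt f x) := by
  obtain ⟨hfl, hfp, hci⟩ := (isSyntomicMor_iff_isCIMorphism f).1 h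
  haveI := hfl
  haveI := hfp
  refine ⟨Flat.stalkMap f x, ?_⟩
  obtain ⟨e⟩ := CM.exists_fibreStalkEquiv f x
  haveI : LocallyOfFiniteType (f.fiberToSpecResidueField (f x)) := inferInstance
  haveI : IsLocallyNoetherian (f.fiber (f x)) :=
    LocallyOfFiniteType.isLocallyNoetherian (f.fiberToSpecResidueField (f x))
  exact CM.cm_ringEquiv e.symm (cm_of_ci _ (hci x))

theorem cm_stalk_iff {X S : Scheme.{u}} [IsLocallyNoetherian X] [IsLocallyNoetherian S] (f : X ⟶ S)
    (h : Synt.IsSyntomicMor f) (x : X) :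
    IsCohenMacaulayLocalRing (X.presheaf.stalk x) ↔ IsCohenMacaulayLocalRing (S.presheaf.stalk (f x)) := by
  obtain ⟨h1, h2⟩ := flat_and_cm_fibre f h x
  algebraize [(f.stalkMap x).hom]
  haveI : IsLocalHom (algebraMap (S.presheaf.stalk (f x)) (X.presheaf.stalk x)) :=
    inferInstanceAs (IsLocalHom (f.stalkMap x).hom)
  exact (CM.cm_iff_of_flat (S.presheaf.stalk (f x)) (X.presheaf.stalk x)).trans
    ⟨fun h => h.1, fun h => ⟨h, h2⟩⟩

theorem skLoc_stalk {X S : Scheme.{u}} [IsLocallyNoetherian X] [IsLocallyNoetherian S] (f : X ⟶ S)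
    (h : Synt.IsSyntomicMor f) (x : X) (k : ℕ) (hs : SkLoc k (S.presheaf.stalk (f x))) :
    SkLoc k (X.presheaf.stalk x) := by
  obtain ⟨h1, h2⟩ := flat_and_cm_fibre f h x
  algebraize [(f.stalkMap x).hom]
  haveI : IsLocalHom (algebraMap (S.presheaf.stalk (f x)) (X.presheaf.stalk x)) :=
    inferInstanceAs (IsLocalHom (f.stalkMap x).hom)
  haveI : IsLocalRing (FlatAscent.Fib (S.presheaf.stalk (f x)) (X.presheaf.stalk x)) :=
    FlatAscent.isLocalRing_fibre _ _
  exact skLoc_of_flat _ _ hs (skLoc_of_cm k _ h2)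

theorem hasSk_stalk_descend {X S : Scheme.{u}} [IsLocallyNoetherian X] [IsLocallyNoetherian S] (f : X ⟶ S)
    [Flat f] (x : X) (k : ℕ) (hx : HasSk k (X.presheaf.stalk x) (X.presheaf.stalk x)) :
    HasSk k (S.presheaf.stalk (f x)) (S.presheaf.stalk (f x)) := by
  letI := (f.stalkMap x).hom.toAlgebra
  haveI : Module.Flat (S.presheaf.stalk (f x)) (X.presheaf.stalk x) := Flat.stalkMap f x
  haveI : IsLocalHom (algebraMap (S.presheaf.stalk (f x)) (X.presheaf.stalk x)) :=
    inferInstanceAs (IsLocalHom (f.stalkMap x).hom)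
  haveI : Module.FaithfullyFlat (S.presheaf.stalk (f x)) (X.presheaf.stalk x) :=
    Module.FaithfullyFlat.of_flat_of_isLocalHom
  exact hasSk_descend hx

end Groth.Agent.CIPres
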