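import Mathlib
import Groth.Agent.CIPres.Ascent
import Groth.Agent.CIPres.Presentation
import Groth.Agent.CIPres.Basic

/-!
# Complete intersections and finitely generated field extensions
-/

set_option autoImplicit false
universe u

open IsLocalRing RingTheory.Sequence
open scoped TensorProduct

noncomputable section

namespace Groth.Agent.CIPres

/-- A local ring of a localisation of a quotient of a polynomial ring is a quotient of a local ring of
the polynomial ring over the local ring of the base. -/
theorem exists_presentation_localization {R S : Type u} [CommRing R] [CommRing S] {n : ℕ}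
    (Θ : MvPolynomial (Fin n) R →+* S) (hsurj : ∀ z, ∃ a b, IsUnit (Θ b) ∧ z * Θ b = Θ a)
    (P : Ideal S) [P.IsPrime] :
    ∃ (Q : Ideal (MvPolynomial (Fin n) (Localization.AtPrime (P.comap (Θ.comp MvPolynomial.C)))))
      (_ : Q.IsPrime), Q.comap MvPolynomial.C = maximalIdeal _ ∧
      ∃ φ : Localization.AtPrime Q →+* Localization.AtPrime P, Function.Surjective φ ∧
        RingHom.ker φ = (RingHom.ker Θ).map ((algebraMap _ (Localization.AtPrime Q)).comp
          (MvPolynomial.map (σ := Fin n)
            (algebraMap R (Localization.AtPrime (P.comap (Θ.comp MvPolynomial.C)))))) ∧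
        ∀ w, φ (algebraMap _ _ (MvPolynomial.map
          (algebraMap R (Localization.AtPrime (P.comap (Θ.comp MvPolynomial.C)))) w)) =
            algebraMap S (Localization.AtPrime P) (Θ w) := by
  let p := P.comap (Θ.comp MvPolynomial.C)
  let A := Localization.AtPrime p
  let B := Localization.AtPrime P
  let g : A →+* B := Localization.localRingHom p P (Θ.comp MvPolynomial.C) rfl
  haveI : IsLocalHom g := Localization.isLocalHom_localRingHom p P (Θ.comp MvPolynomial.C) rfl
  let Φ : MvPolynomial (Fin n) A →+* B :=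
    MvPolynomial.eval₂Hom g fun i => algebraMap S B (Θ (MvPolynomial.X i))
  let m : MvPolynomial (Fin n) R →+* MvPolynomial (Fin n) A := MvPolynomial.map (algebraMap R A)
  have hΦm : ∀ w, Φ (m w) = algebraMap S B (Θ w) := fun w => by
    refine congrArg (fun f => f w) (MvPolynomial.ringHom_ext (f := Φ.comp m)
      (g := (algebraMap S B).comp Θ) (fun a => ?_) fun i => ?_)
    · show Φ (m (MvPolynomial.C a)) = _
      rw [MvPolynomial.map_C, MvPolynomial.eval₂Hom_C]
      exact Localization.localRingHom_to_map p P _ rfl a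
    · show Φ (m (MvPolynomial.X i)) = _
      rw [MvPolynomial.map_X, MvPolynomial.eval₂Hom_X']
      rfl
  let Q : Ideal (MvPolynomial (Fin n) A) := (maximalIdeal B).comap Φ
  have hQ : Q.comap MvPolynomial.C = maximalIdeal A := by
    ext a
    show Φ (MvPolynomial.C a) ∈ maximalIdeal B ↔ _
    rw [MvPolynomial.eval₂Hom_C]
    exact ⟨fun h => by_contra fun hn => h ((not_not.1 hn).map g), fun h => map_nonunit g a h⟩
  have hu : ∀ q : Q.primeCompl, IsUnit (Φ q) := fun q => not_not.1 q.2
  let φ : Localization.AtPrime Q →+* B := IsLocalization.lift hu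
  have hφ : ∀ w, φ (algebraMap _ _ w) = Φ w := fun w => IsLocalization.lift_eq hu w
  refine ⟨Q, inferInstance, hQ, φ, fun z => ?_, ?_, fun w => (hφ (m w)).trans (hΦm w)⟩
  · obtain ⟨⟨a, t⟩, hat⟩ := IsLocalization.surj P.primeCompl z
    obtain ⟨wa, wb, hb, ha⟩ := hsurj a
    obtain ⟨wa', wb', hb', ha'⟩ := hsurj t
    have hqu : IsUnit (Φ (m (wb * wa'))) := by
      rw [hΦm, map_mul, ← ha', map_mul, map_mul]
      exact (hb.map _).mul ((IsLocalization.map_units B t).mul (hb'.map _))
    have hqQ : m (wb * wa') ∉ Q := fun h => by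
      rw [Ideal.mem_comap] at h
      exact h hqu
    refine ⟨IsLocalization.mk' _ (m (wa * wb')) (⟨m (wb * wa'), hqQ⟩ : Q.primeCompl), ?_⟩
    rw [IsLocalization.lift_mk'_spec, hΦm, hΦm, map_mul Θ, map_mul Θ, ← ha, ← ha', map_mul, map_mul,
      map_mul, map_mul]
    have hat' : z * algebraMap S B t = algebraMap S B a := hat
    rw [← hat']
    ring
  · letI := MvPolynomial.algebraMvPolynomial (σ := Fin n) (R := R) (S := A)
    refine le_antisymm (fun z hz => ?_) (Ideal.map_le_iff_le_comap.2 fun w hw => ?_)
    · obtain ⟨⟨p', s⟩, hps⟩ := IsLocalization.surj Q.primeCompl z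
      obtain ⟨⟨p₀, c⟩, hp₀⟩ := IsLocalization.surj
        (p.primeCompl.map (MvPolynomial.C (σ := Fin n))) p'
      have hcu : IsUnit (m c) := IsLocalization.map_units (M := p.primeCompl.map
        (MvPolynomial.C (σ := Fin n))) (MvPolynomial (Fin n) A) c
      replace hp₀ : p' * m c = m p₀ := hp₀
      have h1 : Φ p' = 0 := by rw [← hφ, ← hps, map_mul, RingHom.mem_ker.1 hz, zero_mul]
      have h2 : algebraMap S B (Θ p₀) = 0 := by rw [← hΦm, ← hp₀, map_mul, h1, zero_mul]
      obtain ⟨t, ht⟩ := (IsLocalization.map_eq_zero_iff P.primeCompl B _).1 h2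
      obtain ⟨wa, wb, hb, ha⟩ := hsurj t
      have hqQ : m wa ∉ Q := fun h => by
        rw [Ideal.mem_comap, hΦm, ← ha, map_mul] at h
        exact h ((IsLocalization.map_units B t).mul (hb.map _))
      have hK : wa * p₀ ∈ RingHom.ker Θ := by
        rw [RingHom.mem_ker, map_mul, ← ha, mul_comm (t : S), mul_assoc, ht, mul_zero]
      have h3 := Ideal.mem_map_of_mem ((algebraMap _ (Localization.AtPrime Q)).comp m) hK
      rw [RingHom.comp_apply, map_mul, map_mul, ← hp₀, map_mul, ← hps, ← mul_assoc] at h3
      rw [Ideal.mul_unit_mem_iff_mem _ (hcu.map (algebraMap _ (Localization.AtPrime Q))),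
        Ideal.unit_mul_mem_iff_mem _ (IsLocalization.map_units _ (⟨m wa, hqQ⟩ : Q.primeCompl))] at h3
      exact (Ideal.mul_unit_mem_iff_mem _ (IsLocalization.map_units _ s)).1 h3
    · show φ (algebraMap _ _ (m w)) = 0
      rw [hφ, hΦm, RingHom.mem_ker.1 hw, map_zero]

/-- The closed fibre of a localised polynomial ring is flat over the polynomial ring of the field. -/
theorem flat_fibre_poly {k A : Type u} [Field k] [CommRing A] [IsLocalRing A] [Algebra k A] {n : ℕ}
    (Q : Ideal (MvPolynomial (Fin n) A)) [Q.IsPrime] :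
    RingHom.Flat (R := MvPolynomial (Fin n) k)
      (S := Localization.AtPrime Q ⧸ (maximalIdeal A).map (algebraMap A (Localization.AtPrime Q)))
      ((Ideal.Quotient.mk ((maximalIdeal A).map (algebraMap A (Localization.AtPrime Q)))).comp
      ((algebraMap (MvPolynomial (Fin n) A) (Localization.AtPrime Q)).comp
        (MvPolynomial.map (algebraMap k A)))) := by
  let I : Ideal (MvPolynomial (Fin n) A) := (maximalIdeal A).map MvPolynomial.C
  let J : Ideal (Localization.AtPrime Q) := I.map (algebraMap _ (Localization.AtPrime Q))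
  have hJ : J = (maximalIdeal A).map (algebraMap A (Localization.AtPrime Q)) := by
    show I.map _ = _
    rw [Ideal.map_map]
    rfl
  letI : Field (A ⧸ maximalIdeal A) := Ideal.Quotient.field _
  let e := (MvPolynomial.quotientEquivQuotientMvPolynomial (σ := Fin n) (maximalIdeal A)).toRingEquiv
  have h1 : (MvPolynomial.map (σ := Fin n) (algebraMap k (A ⧸ maximalIdeal A))).Flat :=
    Groth.FlatDescent.flat_map (Fin n)
  have h2 : RingHom.Flat (R := MvPolynomial (Fin n) A ⧸ I) (S := Localization.AtPrime Q ⧸ J)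
      (algebraMap (MvPolynomial (Fin n) A ⧸ I) (Localization.AtPrime Q ⧸ J)) :=
    RingHom.flat_algebraMap_iff.2
      (IsLocalization.flat _ (Algebra.algebraMapSubmonoid (MvPolynomial (Fin n) A ⧸ I) Q.primeCompl))
  have he : Function.Bijective e.toRingHom := e.bijective
  suffices key : RingHom.Flat (R := MvPolynomial (Fin n) k) (S := Localization.AtPrime Q ⧸ J)
      ((Ideal.Quotient.mk J).comp ((algebraMap (MvPolynomial (Fin n) A) (Localization.AtPrime Q)).comp
        (MvPolynomial.map (algebraMap k A)))) from hJ ▸ key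
  have h := (h1.comp (RingHom.Flat.of_bijective he)).comp h2
  convert h using 1
  refine MvPolynomial.ringHom_ext (fun r => ?_) fun i => ?_
  · simp only [RingHom.comp_apply, MvPolynomial.map_C]
    have : e.toRingHom (MvPolynomial.C (algebraMap k (A ⧸ maximalIdeal A) r)) =
        Ideal.Quotient.mk I (MvPolynomial.C (algebraMap k A r)) := by
      show e (MvPolynomial.C (Ideal.Quotient.mk _ (algebraMap k A r))) = _
      simp [e, I, MvPolynomial.quotientEquivQuotientMvPolynomial]
      rfl
    rw [this]
    rfl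
  · simp only [RingHom.comp_apply, MvPolynomial.map_X]
    have : e.toRingHom (MvPolynomial.X i) = Ideal.Quotient.mk I (MvPolynomial.X i) := by
      show e (MvPolynomial.X i) = _
      simp [e, I, MvPolynomial.quotientEquivQuotientMvPolynomial]
    rw [this]
    rfl

/-- A regular system of parameters is a regular sequence. -/
theorem exists_isRegular_maximalIdeal (R : Type u) [CommRing R] [IsRegularLocalRing R] :
    ∃ rs : List R, Ideal.ofList rs = maximalIdeal R ∧ RingTheory.Sequence.IsRegular R rs := by
  refine exists_isRegular_of_spanFinrank_le _ (maximalIdeal.isMaximal R).ne_top ?_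
  letI : Field (R ⧸ maximalIdeal R) := Ideal.Quotient.field _
  rw [ringKrullDim_eq_zero_of_field (R ⧸ maximalIdeal R), zero_add]
  exact ((isRegularLocalRing_iff R).1 ‹_›).le

/-- Regular sequences along flat ring maps. -/
theorem isWeaklyRegular_map_of_flat {L M : Type u} [CommRing L] [CommRing M] (μ : L →+* M)
    (h : μ.Flat) (rs : List L) (hreg : IsWeaklyRegular L rs) : IsWeaklyRegular M (rs.map μ) := by
  algebraize [μ]
  exact hreg.of_flat

/-- Flatness over a localisation. -/
theorem flat_of_comp_localization {R L M : Type u} [CommRing R] [CommRing L] [CommRing M] [Algebra R L]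
    (S : Submonoid R) [IsLocalization S L] (μ : L →+* M) (h : (μ.comp (algebraMap R L)).Flat) :
    μ.Flat := by
  letI := μ.toAlgebra
  letI := (μ.comp (algebraMap R L)).toAlgebra
  have : IsScalarTower R L M := IsScalarTower.of_algebraMap_eq fun _ => rfl
  exact (Module.flat_iff_of_isLocalization L S M).2 h

/-- Quotients by the prime of a polynomial ring over a field. -/
theorem ci_of_field_presentation {k A : Type u} [Field k] [CommRing A] [IsLocalRing A]
    [IsNoetherianRing A] [Algebra k A] (hA : Pi1.IsCompleteIntersection A) {n : ℕ}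
    (𝔭 : Ideal (MvPolynomial (Fin n) k)) [𝔭.IsPrime] (Q : Ideal (MvPolynomial (Fin n) A)) [Q.IsPrime]
    (hQ : Q.comap MvPolynomial.C = maximalIdeal A)
    {B : Type u} [CommRing B] [IsLocalRing B] (φ : Localization.AtPrime Q →+* B)
    (hu : ∀ b ∉ 𝔭, IsUnit (φ (algebraMap (MvPolynomial (Fin n) A) (Localization.AtPrime Q)
      (MvPolynomial.map (algebraMap k A) b))))
    (hφ : Function.Surjective φ)
    (hker : RingHom.ker φ = 𝔭.map ((algebraMap (MvPolynomial (Fin n) A) (Localization.AtPrime Q)).comp
      (MvPolynomial.map (algebraMap k A)))) :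
    Pi1.IsCompleteIntersection B := by
  let C := Localization.AtPrime Q
  let ι : MvPolynomial (Fin n) k →+* C :=
    (algebraMap (MvPolynomial (Fin n) A) C).comp (MvPolynomial.map (algebraMap k A))
  have hιu : ∀ b : 𝔭.primeCompl, IsUnit (ι b) := fun b => by
    obtain ⟨v, hv⟩ := hu b b.2
    obtain ⟨y, hy⟩ := hφ ↑v⁻¹
    have h1 : ι b * y - 1 ∈ RingHom.ker φ := by
      show φ (ι b * y - 1) = 0
      rw [map_sub, map_mul, map_one, hy]
      show φ (algebraMap (MvPolynomial (Fin n) A) C (MvPolynomial.map (algebraMap k A) ↑b)) * _ - 1 = 0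
      rw [← hv, Units.mul_inv, sub_self]
    refine isUnit_of_mul_isUnit_left (y := y) (by_contra fun hn => ?_)
    have h2 : (1 : C) ∈ maximalIdeal C := by
      have := sub_mem (show ι b * y ∈ maximalIdeal C from hn)
        (le_maximalIdeal (RingHom.ker_ne_top φ) h1)
      rwa [sub_sub_cancel] at this
    exact h2 isUnit_one
  let L := Localization.AtPrime 𝔭
  let ℓ' : L →+* C := IsLocalization.lift hιu
  have hℓ : ℓ'.comp (algebraMap _ L) = ι := IsLocalization.lift_comp hιu
  have : IsRegularRing k := DepthLib.CMPoly.isRegularRing_field k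
  have : IsRegularLocalRing L := IsRegularRing.isRegularLocalRing_localization 𝔭
  obtain ⟨rs, hrs, hrsreg⟩ := exists_isRegular_maximalIdeal L
  have hgen : Ideal.ofList (rs.map ℓ') = RingHom.ker φ := by
    rw [hker, ← Ideal.map_ofList, hrs, ← Localization.AtPrime.map_eq_maximalIdeal (I := 𝔭),
      Ideal.map_map, hℓ]
  have hw : IsWeaklyRegular (C ⧸ (maximalIdeal A).map (algebraMap A C))
      ((rs.map ℓ').map (Ideal.Quotient.mk ((maximalIdeal A).map (algebraMap A C)))) := by
    rw [List.map_map]
    refine isWeaklyRegular_map_of_flat (M := C ⧸ (maximalIdeal A).map (algebraMap A C)) ((Ideal.Quotient.mk ((maximalIdeal A).map (algebraMap A C))).comp ℓ')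
      (flat_of_comp_localization (M := C ⧸ (maximalIdeal A).map (algebraMap A C)) 𝔭.primeCompl _ ?_) rs hrsreg.toIsWeaklyRegular
    rw [RingHom.comp_assoc, hℓ]
    exact flat_fibre_poly Q
  have hne : Ideal.ofList (rs.map ℓ') ≠ ⊤ := hgen ▸ RingHom.ker_ne_top φ
  have : Nontrivial (C ⧸ Ideal.ofList (rs.map ℓ')) := Ideal.Quotient.nontrivial_iff.2 hne
  have : IsLocalRing (C ⧸ Ideal.ofList (rs.map ℓ')) :=
    IsLocalRing.of_surjective' (Ideal.Quotient.mk (Ideal.ofList (rs.map ℓ'))) Ideal.Quotient.mk_surjective
  rw [← isCompleteIntersection_congr (A := C ⧸ Ideal.ofList (rs.map ℓ'))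
    ((Ideal.quotEquivOfEq hgen).trans (RingHom.quotientKerEquivOfSurjective hφ))]
  exact ci_ascent hA Q hQ (rs.map ℓ') (fun a ha => le_maximalIdeal hne (Ideal.subset_span ha)) hw

/-- Kernels commute with base change over a field. -/
theorem ker_lTensor_of_field {k R B K : Type u} [Field k] [CommRing R] [CommRing B] [CommRing K]
    [Algebra k R] [Algebra k B] [Algebra k K] (π : B →ₐ[k] K) :
    RingHom.ker (Algebra.TensorProduct.map (AlgHom.id k R) π) =
      (RingHom.ker π).map (Algebra.TensorProduct.includeRight : B →ₐ[k] R ⊗[k] B) := by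
  have hval : Function.Injective (Algebra.TensorProduct.map (AlgHom.id k R) π.range.val) :=
    Module.Flat.lTensor_preserves_injective_linearMap π.range.val.toLinearMap Subtype.val_injective
  have hk : RingHom.ker π.rangeRestrict = RingHom.ker π := by
    ext w
    rw [RingHom.mem_ker, RingHom.mem_ker]
    exact Subtype.ext_iff
  have hc : Algebra.TensorProduct.map (AlgHom.id k R) π =
      (Algebra.TensorProduct.map (AlgHom.id k R) π.range.val).comp
        (Algebra.TensorProduct.map (AlgHom.id k R) π.rangeRestrict) :=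
    Algebra.TensorProduct.ext (AlgHom.ext fun r => by simp) (AlgHom.ext fun r => by simp)
  rw [← hk, ← Algebra.TensorProduct.lTensor_ker π.rangeRestrict (AlgHom.rangeRestrict_surjective π)]
  ext w
  rw [RingHom.mem_ker, RingHom.mem_ker, hc, AlgHom.comp_apply]
  exact map_eq_zero_iff _ hval

/-- Kernels through an isomorphism. -/
theorem ker_comp_symm {B C D E : Type u} [CommRing B] [CommRing C] [CommRing D] [CommRing E]
    (e : B ≃+* C) (f : B →+* D) (P : Ideal E) (i : E →+* B) (h : RingHom.ker f = P.map i) :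
    RingHom.ker (f.comp e.symm.toRingHom) = P.map (e.toRingHom.comp i) := by
  rw [← Ideal.map_map, ← h]
  ext z
  rw [RingHom.mem_ker, RingHom.comp_apply]
  constructor
  · intro hz
    have : e.toRingHom (e.symm.toRingHom z) = z := e.apply_symm_apply z
    rw [← this]
    exact Ideal.mem_map_of_mem _ (RingHom.mem_ker.2 hz)
  · intro hz
    obtain ⟨y, hy, rfl⟩ := (Ideal.mem_map_iff_of_surjective e.toRingHom e.surjective).1 hz
    show f (e.symm (e y)) = 0
    rw [e.symm_apply_apply]
    exact hy

/-- Base change of local complete intersection rings along finitely generated field extensions. -/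
theorem ci_tensor_field (k K R : Type u) [Field k] [Field K] [Algebra k K]
    (hK : ∃ s : Finset K, IntermediateField.adjoin k (s : Set K) = ⊤) [CommRing R] [Algebra k R]
    [IsNoetherianRing R]
    (hR : ∀ (p : Ideal R) [p.IsPrime], Pi1.IsCompleteIntersection (Localization.AtPrime p)) :
    IsNoetherianRing (R ⊗[k] K) ∧
      ∀ (P : Ideal (R ⊗[k] K)) [P.IsPrime], Pi1.IsCompleteIntersection (Localization.AtPrime P) := by
  classical
  obtain ⟨s, hs⟩ := hK
  let n := s.card
  let x : Fin n → K := fun i => (s.equivFin.symm i : K)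
  have hx : IntermediateField.adjoin k (Set.range x) = ⊤ := by
    rw [← hs]
    congr 1
    rw [show x = Subtype.val ∘ s.equivFin.symm from rfl, Set.range_comp, Equiv.range_eq_univ,
      Set.image_univ, Subtype.range_coe]
  let π : MvPolynomial (Fin n) k →ₐ[k] K := MvPolynomial.aeval x
  have hdiv : ∀ z : K, ∃ a b, π b ≠ 0 ∧ z * π b = π a := fun z => by
    obtain ⟨a, b, hab⟩ := (IntermediateField.mem_adjoin_range_iff k x z).1 (hx ▸ trivial)
    by_cases hb : π b = 0
    · exact ⟨0, 1, by simp, by rw [hab, show MvPolynomial.aeval x b = 0 from hb]; simp⟩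
    · exact ⟨a, b, hb, by rw [hab]; exact div_mul_cancel₀ _ hb⟩
  refine ⟨?_, fun P hP => ?_⟩
  · have : Algebra.EssFiniteType k K := by
      rw [Algebra.essFiniteType_iff]
      refine ⟨Finset.univ.image x, fun z => ?_⟩
      obtain ⟨a, b, hb, hab⟩ := hdiv z
      have hmem : ∀ w, π w ∈ Algebra.adjoin k (↑(Finset.univ.image x) : Set K) := fun w => by
        rw [Finset.coe_image, Finset.coe_univ, Set.image_univ, Algebra.adjoin_range_eq_range_aeval]
        exact ⟨w, rfl⟩
      exact ⟨π b, hmem b, isUnit_iff_ne_zero.2 hb, by rw [hab]; exact hmem a⟩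
    exact Algebra.EssFiniteType.isNoetherianRing R (R ⊗[k] K)
  let e := MvPolynomial.algebraTensorAlgEquiv (σ := Fin n) k R
  let Θ' : R ⊗[k] MvPolynomial (Fin n) k →ₐ[k] R ⊗[k] K := Algebra.TensorProduct.map (AlgHom.id k R) π
  let Θ : MvPolynomial (Fin n) R →+* R ⊗[k] K := Θ'.toRingHom.comp e.symm.toRingEquiv.toRingHom
  have hew : ∀ w, e.symm (MvPolynomial.map (algebraMap k R) w) = 1 ⊗ₜ w := fun w => by
    rw [AlgEquiv.symm_apply_eq, MvPolynomial.algebraTensorAlgEquiv_tmul, one_smul]
  have hΘ : ∀ w, Θ (MvPolynomial.map (algebraMap k R) w) = 1 ⊗ₜ π w := fun w => by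
    show Θ' (e.symm _) = _
    rw [hew]
    simp [Θ']
  have hsurj : ∀ z, ∃ a b, IsUnit (Θ b) ∧ z * Θ b = Θ a := fun z => by
    induction z using TensorProduct.induction_on with
    | zero => exact ⟨0, 1, by simp, by simp⟩
    | tmul r c =>
      obtain ⟨a, b, hb, hab⟩ := hdiv c
      refine ⟨e (r ⊗ₜ a), MvPolynomial.map (algebraMap k R) b, ?_, ?_⟩
      · rw [hΘ]
        exact (isUnit_iff_ne_zero.2 hb).map
          (Algebra.TensorProduct.includeRight : K →ₐ[k] R ⊗[k] K)
      · rw [hΘ]
        show _ = Θ' (e.symm (e (r ⊗ₜ a)))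
        rw [e.symm_apply_apply, Algebra.TensorProduct.tmul_mul_tmul, mul_one, hab]
        rfl
    | add z w hz hw =>
      obtain ⟨a, b, hb, hab⟩ := hz
      obtain ⟨a', b', hb', hab'⟩ := hw
      exact ⟨a * b' + a' * b, b * b', by rw [map_mul]; exact hb.mul hb',
        by rw [map_add, map_mul, map_mul, map_mul, ← hab, ← hab']; ring⟩
  let 𝔭 : Ideal (MvPolynomial (Fin n) k) := RingHom.ker π
  have : 𝔭.IsPrime := RingHom.ker_isPrime π
  have hker : RingHom.ker Θ = 𝔭.map (MvPolynomial.map (algebraMap k R)) := by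
    have h1 := ker_lTensor_of_field (R := R) π
    refine (ker_comp_symm e.toRingEquiv Θ'.toRingHom 𝔭
      (Algebra.TensorProduct.includeRight : MvPolynomial (Fin n) k →ₐ[k] _).toRingHom h1).trans ?_
    refine congrArg (fun f => Ideal.map f 𝔭) (RingHom.ext fun w => ?_)
    show e (1 ⊗ₜ w) = _
    rw [MvPolynomial.algebraTensorAlgEquiv_tmul, one_smul]
  obtain ⟨Q, hQp, hQ, φ, hφ, hφk, hφc⟩ := exists_presentation_localization Θ hsurj P
  haveI := hQp
  have hmap : ∀ w : MvPolynomial (Fin n) k, MvPolynomial.map (algebraMap R (Localization.AtPrime (P.comap (Θ.comp MvPolynomial.C))))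
      (MvPolynomial.map (algebraMap k R) w) = MvPolynomial.map (algebraMap k (Localization.AtPrime (P.comap (Θ.comp MvPolynomial.C)))) w := fun w => by
    rw [MvPolynomial.map_map, ← IsScalarTower.algebraMap_eq]
  haveI : IsNoetherianRing (Localization.AtPrime (P.comap (Θ.comp MvPolynomial.C))) :=
    IsLocalization.isNoetherianRing (P.comap (Θ.comp MvPolynomial.C)).primeCompl _ inferInstance
  refine ci_of_field_presentation (hR _) 𝔭 Q hQ φ (fun b hb => ?_) hφ ?_
  · rw [← hmap, hφc, hΘ]
    exact ((isUnit_iff_ne_zero.2 hb).map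
      (Algebra.TensorProduct.includeRight : K →ₐ[k] R ⊗[k] K)).map _
  · rw [hφk, hker, Ideal.map_map]
    exact congrArg (fun f => Ideal.map f 𝔭) (RingHom.ext fun w => congrArg (algebraMap _ _) (hmap w))

end Groth.Agent.CIPres
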