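import Mathlib
import Groth.Agent.CIPres.Syntomic
import Groth.Agent.RelGCILib.GlobalLift
import Groth.Agent.RelGCILib.Fibre
import Groth.Agent.RelGCILib.Criterion

/-!
# Syntomic algebras: gluing, composition, adjoining roots
-/

set_option autoImplicit false
set_option linter.style.haveILetI false
universe u

open CategoryTheory CategoryTheory.Limits AlgebraicGeometry
open scoped TensorProduct

noncomputable section

namespace Groth.Agent.CIPres

theorem isSyntomic_of_span (R S : Type u) [CommRing R] [CommRing S] [Algebra R S]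
    (s : Set S) (hs : Ideal.span s = ⊤)
    (h : ∀ g ∈ s, Synt.IsSyntomic R (Localization.Away g)) : Synt.IsSyntomic R S := by
  have : Module.Flat R S := by
    rw [← RingHom.flat_algebraMap_iff]
    refine RingHom.Flat.ofLocalizationSpanTarget _ s hs fun g => ?_
    show RingHom.Flat _
    rw [← IsScalarTower.algebraMap_eq, RingHom.flat_algebraMap_iff]
    exact (h g g.2).1
  exact RelGCILib.isSyntomic_of_flat_isLCI R S (KRIdeal.isLCI_of_span R S s hs
    fun g hg => RelGCILib.isLCI_of_isSyntomic R _ (h g hg))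

theorem isSyntomic_trans (R S T : Type u) [CommRing R] [CommRing S] [CommRing T] [Algebra R S]
    [Algebra S T] [Algebra R T] [IsScalarTower R S T] (h₁ : Synt.IsSyntomic R S)
    (h₂ : Synt.IsSyntomic S T) : Synt.IsSyntomic R T := by
  haveI := h₁.1
  haveI := h₂.1
  haveI : Module.Flat R T := Module.Flat.trans R S T
  refine RelGCILib.isSyntomic_of_flat_isLCI R T (KRIdeal.ringLCI_algebraMap.1 ?_)
  rw [IsScalarTower.algebraMap_eq R S T]
  exact KRIdeal.ringLCI_comp (KRIdeal.ringLCI_algebraMap.2 (RelGCILib.isLCI_of_isSyntomic R S h₁))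
    (KRIdeal.ringLCI_algebraMap.2 (RelGCILib.isLCI_of_isSyntomic S T h₂))

theorem isSyntomic_refl (R : Type u) [CommRing R] : Synt.IsSyntomic R R :=
  RelGCILib.isSyntomic_of_smooth R R

theorem ringKrullDim_eq_zero_of_artinian' (R : Type u) [CommRing R] [IsArtinianRing R]
    [Nontrivial R] : ringKrullDim R = 0 :=
  le_antisymm (Ring.krullDimLE_iff.1
    (isArtinianRing_iff_isNoetherianRing_krullDimLE_zero.1 (inferInstance : IsArtinianRing R)).2)
    ringKrullDim_nonneg_of_nontrivial

/-- Adjoining a root of a monic polynomial is syntomic. -/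
theorem isSyntomic_adjoinRoot (A : Type u) [CommRing A] (P : Polynomial A) (hP : P.Monic) :
    Synt.IsSyntomic A (AdjoinRoot P) := by
  haveI : Module.Finite A (AdjoinRoot P) := hP.finite_adjoinRoot
  let e := MvPolynomial.uniqueAlgEquiv A (Fin 1)
  let F : Fin 1 → MvPolynomial (Fin 1) A := fun _ => e.symm P
  have hI : Ideal.span {P} = (Ideal.span (Set.range F)).map e.toRingEquiv.toRingHom := by
    rw [Ideal.map_span, Set.range_const, Set.image_singleton]
    congr
    exact (e.apply_symm_apply P).symm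
  let ε : Synt.RelGCIRing A 1 1 F ≃ₐ[A] AdjoinRoot P :=
    Ideal.quotientEquivAlg (Ideal.span (Set.range F)) (Ideal.span {P}) e hI
  haveI : Module.Finite A (Synt.RelGCIRing A 1 1 F) := Module.Finite.equiv ε.symm.toLinearEquiv
  have hgci : Synt.IsRelGCI A 1 1 F := fun p _ => by
    refine ⟨le_rfl, ?_⟩
    haveI : IsArtinianRing (p.asIdeal.Fiber (Synt.RelGCIRing A 1 1 F)) :=
      IsArtinianRing.of_finite p.asIdeal.ResidueField (p.asIdeal.Fiber (Synt.RelGCIRing A 1 1 F))
    rw [Nat.sub_self, Nat.cast_zero]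
    exact ringKrullDim_eq_zero_of_artinian' (p.asIdeal.Fiber (Synt.RelGCIRing A 1 1 F))
  exact RelGCILib.isSyntomic_congr ε (RelGCILib.isSyntomic_relGCIRing F hgci)

/-- Splitting algebras. -/
theorem exists_splitting_algebra (d : ℕ) : ∀ (A : Type u) [CommRing A] (P : Polynomial A), P.Monic →
    P.natDegree = d → ∃ (A' : Type u) (_ : CommRing A') (_ : Algebra A A'),
      Synt.IsSyntomic A A' ∧ Module.Finite A A' ∧ Module.Free A A' ∧ Module.FaithfullyFlat A A' ∧
        ∃ s : Multiset A', P.map (algebraMap A A') = (s.map fun b => Polynomial.X - Polynomial.C b).prod := by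
  induction d with
  | zero =>
    intro A _ P hP hd
    refine ⟨A, inferInstance, inferInstance, isSyntomic_refl A, inferInstance, inferInstance,
      inferInstance, 0, ?_⟩
    rw [hP.natDegree_eq_zero.1 hd]
    simp
  | succ d ih =>
    intro A _ P hP hd
    rcases subsingleton_or_nontrivial A with hA | hA
    · exact ⟨A, inferInstance, inferInstance, isSyntomic_refl A, inferInstance, inferInstance,
        inferInstance, 0, Subsingleton.elim _ _⟩
    let A₁ := AdjoinRoot P
    let pb := AdjoinRoot.powerBasis' hP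
    haveI : Module.Free A A₁ := Module.Free.of_basis pb.basis
    haveI : Module.Finite A A₁ := pb.finite
    haveI : Nontrivial A₁ := Ideal.Quotient.nontrivial_iff.2 (fun h => by
      rw [hP.eq_one_of_isUnit (Ideal.span_singleton_eq_top.1 h), Polynomial.natDegree_one] at hd
      omega)
    haveI : Module.FaithfullyFlat A A₁ := inferInstance
    let r : A₁ := AdjoinRoot.root P
    have hroot : (P.map (algebraMap A A₁)).IsRoot r := AdjoinRoot.isRoot_root P
    obtain ⟨Q, hQ⟩ := (Polynomial.dvd_iff_isRoot.2 hroot)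
    have hQm : Q.Monic := (Polynomial.monic_X_sub_C r).of_mul_monic_left (hQ ▸ hP.map _)
    have hQd : Q.natDegree = d := by
      have h1 := congrArg Polynomial.natDegree hQ
      rw [hP.natDegree_map, (Polynomial.monic_X_sub_C r).natDegree_mul hQm,
        Polynomial.natDegree_X_sub_C, hd] at h1
      omega
    obtain ⟨A', i1, i2, hsyn, hfin, hfree, hff, s, hs⟩ := ih A₁ Q hQm hQd
    let := i1
    let := i2
    letI : Algebra A A' := ((algebraMap A₁ A').comp (algebraMap A A₁)).toAlgebra
    haveI : IsScalarTower A A₁ A' := IsScalarTower.of_algebraMap_eq fun _ => rfl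
    refine ⟨A', i1, inferInstance, isSyntomic_trans A A₁ A' (isSyntomic_adjoinRoot A P hP) hsyn,
      Module.Finite.trans A₁ A', Module.Free.trans (R := A) (S := A₁) (M := A'), Module.FaithfullyFlat.trans A A₁ A',
      algebraMap A₁ A' r ::ₘ s, ?_⟩
    rw [Multiset.map_cons, Multiset.prod_cons, ← hs, IsScalarTower.algebraMap_eq A A₁ A',
      ← Polynomial.map_map, hQ, Polynomial.map_mul, Polynomial.map_sub, Polynomial.map_X, Polynomial.map_C]

theorem isSyntomicMor_specMap (R S : Type u) [CommRing R] [CommRing S] [Algebra R S]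
    (h : Synt.IsSyntomic R S) :
    Synt.IsSyntomicMor (Spec.map (CommRingCat.ofHom (algebraMap R S))) := by
  refine (S9758.result _).1 ⟨?_, fun x => KRIdeal.isKoszulAt_of_schLCI _ ?_ x⟩
  · rw [HasRingHomProperty.Spec_iff (P := @Flat)]
    exact RingHom.flat_algebraMap_iff.2 h.1
  · rw [HasRingHomProperty.Spec_iff (P := @KRIdeal.SchLCI)]
    exact KRIdeal.ringLCI_algebraMap.2 (RelGCILib.isLCI_of_isSyntomic R S h)

theorem isSyntomicMor_of_smooth {X Y : Scheme.{u}} (f : X ⟶ Y) [Smooth f] : Synt.IsSyntomicMor f :=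
  (isSyntomicMor_iff_isCIMorphism f).2 (isCIMorphism_of_flat_of_smooth f (𝟙 Y) f (Category.comp_id f))

theorem isSyntomicMor_comp {X Y Z : Scheme.{u}} (f : X ⟶ Y) (g : Y ⟶ Z) (hf : Synt.IsSyntomicMor f)
    (hg : Synt.IsSyntomicMor g) : Synt.IsSyntomicMor (f ≫ g) :=
  (isSyntomicMor_iff_isCIMorphism _).2 (isCIMorphism_comp f g ((isSyntomicMor_iff_isCIMorphism f).1 hf)
    ((isSyntomicMor_iff_isCIMorphism g).1 hg))

end Groth.Agent.CIPres
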