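import Mathlib
import Groth.Prelude.Def_W4c2gaugesfzipsQuiet
import Groth.Agent.CIPres.SyntomicAlg
import Groth.Agent.RelGCILib.GlobalLift

/-!
# Quasi-etale morphisms are syntomic
-/

set_option autoImplicit false
set_option linter.style.haveILetI false
universe u

open CategoryTheory CategoryTheory.Limits AlgebraicGeometry

noncomputable section

namespace Groth.Agent.CIPres

theorem isSyntomicMor_of_cover {X S : Scheme.{u}} (f : X ⟶ S)
    (h : ∀ x : X, ∃ V : X.Opens, x ∈ V ∧ Synt.IsSyntomicMor (V.ι ≫ f)) : Synt.IsSyntomicMor f := by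
  choose V hxV hV using h
  have hci := fun x => (isSyntomicMor_iff_isCIMorphism _).1 (hV x)
  have htop : iSup V = ⊤ := eq_top_iff.2 fun x _ => TopologicalSpace.Opens.mem_iSup.2 ⟨x, hxV x⟩
  refine (isSyntomicMor_iff_isCIMorphism f).2
    ⟨IsZariskiLocalAtSource.of_iSup_eq_top (P := @Flat) V htop fun x => (hci x).1,
      IsZariskiLocalAtSource.of_iSup_eq_top (P := @LocallyOfFinitePresentation) V htop fun x => (hci x).2.1,
      fun x => ?_⟩
  obtain ⟨e⟩ := nonempty_fiberStalk_comp_equiv (V x).ι f ⟨x, hxV x⟩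
  exact (isCompleteIntersection_congr e).1 ((hci x).2.2 ⟨x, hxV x⟩)

theorem isSyntomic_rootTower (p : ℕ) (hp : p ≠ 0) : ∀ (n : ℕ) (A B : Type u) [CommRing A] [CommRing B]
    [Algebra A B], Quiet.IsRootTower p n A B → Synt.IsSyntomic A B := by
  intro n
  induction n with
  | zero =>
    intro A B _ _ _ h
    obtain ⟨e⟩ := h
    exact RelGCILib.isSyntomic_congr e.symm (isSyntomic_refl A)
  | succ n ih =>
    intro A B _ _ _ h
    obtain ⟨a, _, _, h'⟩ := h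
    exact isSyntomic_trans A (Quiet.RootRing p A a) B
      (isSyntomic_adjoinRoot A _ (Polynomial.monic_X_pow_sub_C a hp)) (ih _ _ h')

theorem isSyntomicMor_of_isPthRoot (p : ℕ) (hp : p ≠ 0) {X Y : Scheme.{u}} (r : Y ⟶ X)
    (hr : Quiet.IsPthRoot p r) : Synt.IsSyntomicMor r := by
  refine isSyntomicMor_of_cover r fun y => ?_
  obtain ⟨U, hyU, hW, n, hn⟩ := hr (r y)
  refine ⟨r ⁻¹ᵁ U.1, hyU, ?_⟩
  letI := (r.app U.1).hom.toAlgebra
  have hs := isSyntomicMor_specMap Γ(X, U.1) Γ(Y, r ⁻¹ᵁ U.1) (isSyntomic_rootTower p hp n _ _ hn)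
  have heq : (r ⁻¹ᵁ U.1).ι ≫ r =
      hW.isoSpec.hom ≫ Spec.map (CommRingCat.ofHom (algebraMap Γ(X, U.1) Γ(Y, r ⁻¹ᵁ U.1))) ≫ U.2.fromSpec := by
    rw [show CommRingCat.ofHom (algebraMap Γ(X, U.1) Γ(Y, r ⁻¹ᵁ U.1)) = r.appLE U.1 (r ⁻¹ᵁ U.1) le_rfl from
      (Scheme.Hom.app_eq_appLE r).trans rfl, U.2.SpecMap_appLE_fromSpec r hW le_rfl,
      hW.isoSpec_hom_fromSpec_assoc]
  rw [heq]
  exact isSyntomicMor_comp _ _ (isSyntomicMor_of_smooth _) (isSyntomicMor_comp _ _ hs (isSyntomicMor_of_smooth _))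

theorem isSyntomicMor_of_isQuiet (p : ℕ) (hp : p ≠ 0) {X Y : Scheme.{u}} (f : Y ⟶ X)
    (hf : Quiet.IsQuiet p f) : Synt.IsSyntomicMor f := by
  refine isSyntomicMor_of_cover f fun y => ?_
  obtain ⟨V, Y', r, e, hy, hr, he, heq⟩ := hf y
  haveI := he
  refine ⟨V, hy, ?_⟩
  rw [← heq]
  exact isSyntomicMor_comp _ _ (isSyntomicMor_of_isPthRoot p hp r hr) (isSyntomicMor_of_smooth e)

end Groth.Agent.CIPres
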