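import Mathlib
import Groth.Prelude.Def_Frob
import Groth.Agent.RelFrob17.Basic
import Groth.Agent.S14036

/-!
# Flatness of the relative Frobenius of a smooth morphism of schemes
-/

set_option autoImplicit false
set_option linter.style.haveILetI false
universe u

open CategoryTheory CategoryTheory.Limits AlgebraicGeometry FrobSch
open scoped TensorProduct

noncomputable section

namespace Groth.Agent.CIPres

theorem isOpenImmersion_pullbackMap {W X Y Z S T : Scheme.{u}} (f₁ : W ⟶ S) (f₂ : X ⟶ S)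
    (g₁ : Y ⟶ T) (g₂ : Z ⟶ T) (i₁ : W ⟶ Y) (i₂ : X ⟶ Z) (i₃ : S ⟶ T) [IsOpenImmersion i₁]
    [IsOpenImmersion i₂] [Mono i₃] (e₁ : f₁ ≫ i₃ = i₁ ≫ g₁) (e₂ : f₂ ≫ i₃ = i₂ ≫ g₂) :
    IsOpenImmersion (pullback.map f₁ f₂ g₁ g₂ i₁ i₂ i₃ e₁ e₂) := by
  let a : pullback f₁ f₂ ≅ pullback (f₁ ≫ i₃) (f₂ ≫ i₃) :=
    { hom := pullback.lift (pullback.fst _ _) (pullback.snd _ _)
        (pullback.condition_assoc (f := f₁) (g := f₂) i₃)
      inv := pullback.lift (pullback.fst _ _) (pullback.snd _ _) (by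
        rw [← cancel_mono i₃, Category.assoc, Category.assoc]; exact pullback.condition)
      hom_inv_id := by
        apply pullback.hom_ext
        · exact ((Category.assoc _ _ _).trans (congrArg _ (pullback.lift_fst _ _ _))).trans
            ((pullback.lift_fst _ _ _).trans (Category.id_comp _).symm)
        · exact ((Category.assoc _ _ _).trans (congrArg _ (pullback.lift_snd _ _ _))).trans
            ((pullback.lift_snd _ _ _).trans (Category.id_comp _).symm)
      inv_hom_id := by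
        apply pullback.hom_ext
        · exact ((Category.assoc _ _ _).trans (congrArg _ (pullback.lift_fst _ _ _))).trans
            ((pullback.lift_fst _ _ _).trans (Category.id_comp _).symm)
        · exact ((Category.assoc _ _ _).trans (congrArg _ (pullback.lift_snd _ _ _))).trans
            ((pullback.lift_snd _ _ _).trans (Category.id_comp _).symm) }
  have h : pullback.map f₁ f₂ g₁ g₂ i₁ i₂ i₃ e₁ e₂ =
      a.hom ≫ pullback.map (f₁ ≫ i₃) (f₂ ≫ i₃) g₁ g₂ i₁ i₂ (𝟙 _) (by simpa using e₁) (by simpa using e₂) := by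
    apply pullback.hom_ext
    · exact (pullback.lift_fst _ _ _).trans (((Category.assoc _ _ _).trans
        ((congrArg _ (pullback.lift_fst _ _ _)).trans (pullback.lift_fst_assoc _ _ _ _))).symm)
    · exact (pullback.lift_snd _ _ _).trans (((Category.assoc _ _ _).trans
        ((congrArg _ (pullback.lift_snd _ _ _)).trans (pullback.lift_snd_assoc _ _ _ _))).symm)
  have : IsOpenImmersion (pullback.map (f₁ ≫ i₃) (f₂ ≫ i₃) g₁ g₂ i₁ i₂ (𝟙 _) (by simpa using e₁)
      (by simpa using e₂)) :=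
    MorphismProperty.pullbackMap (P := @IsOpenImmersion) ‹_› ‹_› e₁ e₂
  rw [h]
  exact MorphismProperty.comp_mem _ _ _ (@IsOpenImmersion.of_isIso _ _ a.hom a.isIso_hom) ‹_›

theorem frob_Spec (R : CommRingCat.{u}) (p : ℕ) [Fact p.Prime] [CharP R p] :
    frob (Spec R) p = Spec.map (CommRingCat.ofHom (frobenius R p)) := by
  refine ext_of_isAffine ?_
  refine CommRingCat.hom_ext (RingHom.ext fun s => ?_)
  obtain ⟨t, rfl⟩ := (Scheme.ΓSpecIso R).commRingCatIsoToRingEquiv.symm.surjective s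
  show ((Scheme.ΓSpecIso R).inv t) ^ p =
    (Spec.map (CommRingCat.ofHom (frobenius R p))).appTop ((Scheme.ΓSpecIso R).inv t)
  rw [← map_pow]
  exact ConcreteCategory.congr_hom (Scheme.ΓSpecIso_inv_naturality (CommRingCat.ofHom (frobenius R p))) t

set_option maxHeartbeats 1000000 in
theorem flat_fromSpec_relFrob {X S : Scheme.{u}} (p : ℕ) [Fact p.Prime] [IsCharP S p] (f : X ⟶ S)
    [Smooth f] {U : S.Opens} (hU : IsAffineOpen U) {V : X.Opens} (hV : IsAffineOpen V)
    (e : V ≤ f ⁻¹ᵁ U) : Flat (hV.fromSpec ≫ relFrob f p) := by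
  haveI : IsCharP X p := IsCharP.of_hom f p
  rcases subsingleton_or_nontrivial Γ(X, V) with hB | hB
  · haveI : IsEmpty (Spec Γ(X, V)) := inferInstanceAs (IsEmpty (PrimeSpectrum Γ(X, V)))
    infer_instance
  haveI : CharP Γ(X, V) p :=
    (CharP.charP_iff_prime_eq_zero Fact.out).2 (natCast_eq_zero_app X p V)
  haveI : Nontrivial Γ(S, U) := (f.appLE U V e).hom.domain_nontrivial
  haveI : CharP Γ(S, U) p :=
    (CharP.charP_iff_prime_eq_zero Fact.out).2 (natCast_eq_zero_app S p U)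
  letI : Algebra Γ(S, U) Γ(X, V) := (f.appLE U V e).hom.toAlgebra
  haveI : Algebra.Smooth Γ(S, U) Γ(X, V) := Smooth.smooth_appLE f hU hV e
  let T := FrobAlg.Twist p Γ(S, U)
  let t : CommRingCat.of Γ(S, U) ⟶ CommRingCat.of T :=
    CommRingCat.ofHom (FrobAlg.toTwist p Γ(S, U) : Γ(S, U) →+* T)
  haveI : IsIso t := (FrobAlg.toTwist p Γ(S, U)).toCommRingCatIso.isIso_hom
  let i₂ : Spec (CommRingCat.of T) ⟶ S := Spec.map t ≫ hU.fromSpec
  let g : Spec Γ(X, V) ⟶ Spec Γ(S, U) :=
    Spec.map (CommRingCat.ofHom (algebraMap Γ(S, U) Γ(X, V)))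
  let gσ : Spec (CommRingCat.of T) ⟶ Spec Γ(S, U) :=
    Spec.map (CommRingCat.ofHom (algebraMap Γ(S, U) T))
  have hsq : g ≫ hU.fromSpec = hV.fromSpec ≫ f := hU.SpecMap_appLE_fromSpec f hV e
  have hσ : gσ ≫ hU.fromSpec = i₂ ≫ frob S p := by
    rw [Category.assoc, ← frob_comp p hU.fromSpec, frob_Spec Γ(S, U) p, ← Spec.map_comp_assoc]
    rfl
  haveI := isOpenImmersion_pullbackMap g gσ f (frob S p) hV.fromSpec i₂ hU.fromSpec hsq hσ
  let L : Spec Γ(X, V) ⟶ pullback g gσ :=
    Spec.map (CommRingCat.ofHom (FrobAlg.relFrob p Γ(S, U) Γ(X, V))) ≫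
      (pullbackSpecIso Γ(S, U) Γ(X, V) T).inv
  have hflat : Flat (Spec.map (CommRingCat.ofHom (FrobAlg.relFrob p Γ(S, U) Γ(X, V)))) := by
    rw [HasRingHomProperty.Spec_iff (P := @Flat)]
    exact Groth.Agent.S14036.flat_relFrob_any p Γ(S, U) Γ(X, V)
  have hLM : hV.fromSpec ≫ relFrob f p =
      L ≫ pullback.map g gσ f (frob S p) hV.fromSpec i₂ hU.fromSpec hsq hσ := by
    apply pullback.hom_ext
    · rw [Category.assoc, relFrob_fst, Category.assoc, pullback.lift_fst, ← frob_comp p hV.fromSpec,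
        frob_Spec Γ(X, V) p, ← Category.assoc]
      refine congrArg (· ≫ hV.fromSpec) ?_
      dsimp only [L]
      rw [Category.assoc, pullbackSpecIso_inv_fst, ← Spec.map_comp]
      refine congrArg Spec.map (CommRingCat.hom_ext (RingHom.ext fun b => ?_))
      show b ^ p = FrobAlg.relFrob p Γ(S, U) Γ(X, V) (b ⊗ₜ FrobAlg.toTwist p Γ(S, U) 1)
      rw [RelFrob17.relFrob_tmul, map_one, mul_one]
    · rw [Category.assoc, relFrob_snd, Category.assoc, pullback.lift_snd, ← hsq]
      dsimp only [i₂]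
      simp only [← Category.assoc]
      refine congrArg (· ≫ hU.fromSpec) ?_
      dsimp only [L]
      rw [Category.assoc, Category.assoc, pullbackSpecIso_inv_snd_assoc, ← Spec.map_comp, ← Spec.map_comp]
      refine congrArg Spec.map (CommRingCat.hom_ext (RingHom.ext fun a => ?_))
      exact (RelFrob17.relFrob_twistHom p Γ(S, U) Γ(X, V) a).symm
  rw [hLM]
  infer_instance

theorem flat_relFrob {X S : Scheme.{u}} (p : ℕ) [Fact p.Prime] [IsCharP S p] (f : X ⟶ S)
    [Smooth f] : Flat (relFrob f p) := by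
  have hx : ∀ x : X, ∃ (U : S.Opens) (V : X.Opens), IsAffineOpen U ∧ IsAffineOpen V ∧ x ∈ V ∧
      V ≤ f ⁻¹ᵁ U := fun x => by
    obtain ⟨U, hU, hxU, -⟩ :=
      exists_isAffineOpen_mem_and_subset (X := S) (U := ⊤) (x := f x) trivial
    obtain ⟨V, hV, hxV, hVU⟩ := exists_isAffineOpen_mem_and_subset (X := X) (U := f ⁻¹ᵁ U) (x := x) hxU
    exact ⟨U, V, hU, hV, hxV, hVU⟩
  choose U V hU hV hxV e using hx
  refine IsZariskiLocalAtSource.of_iSup_eq_top (P := @Flat) V
    (eq_top_iff.2 fun x _ => TopologicalSpace.Opens.mem_iSup.2 ⟨x, hxV x⟩) fun x => ?_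
  haveI := flat_fromSpec_relFrob p f (hU x) (hV x) (e x)
  rw [← (hV x).isoSpec_hom_fromSpec, Category.assoc]
  infer_instance

end Groth.Agent.CIPres
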