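import Mathlib
import Groth.Prelude.Def_Flat
import Groth.Agent.RelGCILib.Fibre
import Groth.Agent.GeomUnib.DimFormula

/-!
# The fibre dimension of a relative global complete intersection
-/

set_option autoImplicit false
set_option linter.style.haveILetI false
universe u

open CategoryTheory AlgebraicGeometry
open scoped TensorProduct

noncomputable section

namespace Groth.Agent.CIPres

theorem localDim_congr {X Y : Type u} [TopologicalSpace X] [TopologicalSpace Y] (e : X ≃ₜ Y) (x : X) :
    FlatMor.localDim X x = FlatMor.localDim Y (e x) := by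
  refine le_antisymm (le_iInf fun U => iInf_le_of_le ⟨U.1.comap ⟨e, e.continuous⟩, U.2⟩ ?_)
    (le_iInf fun U => iInf_le_of_le ⟨U.1.comap ⟨e.symm, e.symm.continuous⟩, show e.symm (e x) ∈ U.1 by
      rw [e.symm_apply_apply]; exact U.2⟩ ?_)
  · exact ((e.isInducing.comp Topology.IsInducing.subtypeVal).codRestrict (fun y => y.2)).topologicalKrullDim_le
  · exact ((e.symm.isInducing.comp Topology.IsInducing.subtypeVal).codRestrict (fun y => y.2)).topologicalKrullDim_le

theorem localDim_eq_of_le_height {T : Type u} [CommRing T] [IsJacobsonRing T] (d : ℕ)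
    (hle : ringKrullDim T ≤ (d : WithBot ℕ∞))
    (hge : ∀ m : Ideal T, m.IsMaximal → (d : ℕ∞) ≤ m.height) (x : PrimeSpectrum T) :
    FlatMor.localDim (PrimeSpectrum T) x = (d : WithBot ℕ∞) := by
  refine le_antisymm (iInf_le_of_le ⟨⊤, trivial⟩ ?_) (le_iInf fun U => ?_)
  · exact (Topology.IsInducing.subtypeVal.topologicalKrullDim_le).trans
      ((PrimeSpectrum.topologicalKrullDim_eq_ringKrullDim T).trans_le hle)
  · obtain ⟨m, hmU, hm⟩ := nonempty_inter_closedPoints (Z := (U.1 : Set (PrimeSpectrum T))) ⟨x, U.2⟩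
      U.1.isOpen.isLocallyClosed
    have hmax : m.asIdeal.IsMaximal := (PrimeSpectrum.isClosed_singleton_iff_isMaximal m).1 hm
    obtain ⟨_, ⟨g, rfl⟩, hmg, hgU⟩ :=
      PrimeSpectrum.isTopologicalBasis_basic_opens.exists_subset_of_mem_open hmU U.1.isOpen
    have hgm : g ∉ m.asIdeal := hmg
    have hdisj : Disjoint (Submonoid.powers g : Set T) (m.asIdeal : Set T) :=
      Set.disjoint_left.2 fun y hy hym => by
        obtain ⟨k, rfl⟩ := hy
        exact hgm (m.isPrime.mem_of_pow_mem k hym)
    haveI := IsLocalization.isPrime_of_isPrime_disjoint (Submonoid.powers g) (Localization.Away g)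
      m.asIdeal m.isPrime hdisj
    have hmem : ∀ y : PrimeSpectrum (Localization.Away g),
        PrimeSpectrum.comap (algebraMap T (Localization.Away g)) y ∈ (U.1 : Set (PrimeSpectrum T)) := fun y =>
      hgU ((PrimeSpectrum.localization_away_comap_range (Localization.Away g) g).le ⟨y, rfl⟩)
    calc (d : WithBot ℕ∞) = ((d : ℕ∞) : WithBot ℕ∞) := rfl
      _ ≤ ((m.asIdeal.map (algebraMap T (Localization.Away g))).height : WithBot ℕ∞) := by
        rw [IsLocalization.height_map_of_disjoint (Submonoid.powers g) _ hdisj]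
        exact WithBot.coe_le_coe.2 (hge _ hmax)
      _ ≤ ringKrullDim (Localization.Away g) := Ideal.height_le_ringKrullDim_of_ne_top Ideal.IsPrime.ne_top'
      _ = topologicalKrullDim (PrimeSpectrum (Localization.Away g)) :=
        (PrimeSpectrum.topologicalKrullDim_eq_ringKrullDim _).symm
      _ ≤ topologicalKrullDim (U.1 : Set (PrimeSpectrum T)) :=
        ((PrimeSpectrum.localization_away_isOpenEmbedding (Localization.Away g) g).toIsEmbedding.isInducing.codRestrict
          hmem).topologicalKrullDim_le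

theorem le_height_of_pres {κ : Type u} [Field κ] {T : Type u} [CommRing T] {n c : ℕ}
    (F : Fin c → MvPolynomial (Fin n) κ) (α : MvPolynomial (Fin n) κ →+* T) (hα : Function.Surjective α)
    (hker : RingHom.ker α = Ideal.span (Set.range F)) (m : Ideal T) (hm : m.IsMaximal) :
    ((n - c : ℕ) : ℕ∞) ≤ m.height := by
  let J : Ideal (MvPolynomial (Fin n) κ) := Ideal.span (Set.range F)
  let M := m.comap α
  haveI : M.IsMaximal := Ideal.comap_isMaximal_of_surjective α hα
  have hJM : J ≤ M := hker.ge.trans fun y hy => by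
    rw [Ideal.mem_comap, show α y = 0 from hy]; exact zero_mem _
  have h1 := GeomUnib.le_height_add_dim κ n M
  rw [ringKrullDim_eq_zero_of_isField ((Ideal.Quotient.maximal_ideal_iff_isField_quotient M).1 ‹_›),
    add_zero] at h1
  have h1' : (n : ℕ∞) ≤ M.height := WithBot.coe_le_coe.1 h1
  have h2 := Ideal.height_le_height_add_spanFinrank_of_le hJM
  let e : (MvPolynomial (Fin n) κ ⧸ J) ≃+* T :=
    (Ideal.quotEquivOfEq hker.symm).trans (RingHom.quotientKerEquivOfSurjective hα)
  have h3 : (M.map (Ideal.Quotient.mk J)).height = m.height := by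
    rw [← RingEquiv.height_map e (M.map (Ideal.Quotient.mk J))]
    refine congrArg Ideal.height ?_
    show (M.map (Ideal.Quotient.mk J)).map (e : (MvPolynomial (Fin n) κ ⧸ J) →+* T) = m
    rw [Ideal.map_map, show ((e : (MvPolynomial (Fin n) κ ⧸ J) →+* T).comp (Ideal.Quotient.mk J)) = α from
      RingHom.ext fun _ => rfl]
    exact Ideal.map_comap_of_surjective α hα m
  have h4 : J.spanFinrank ≤ c := by
    refine (Submodule.spanFinrank_span_le_ncard_of_finite (Set.finite_range _)).trans ?_
    rw [← Nat.card_coe_set_eq]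
    exact (Finite.card_range_le _).trans (by simp)
  rw [h3] at h2
  have h5 : (n : ℕ∞) ≤ m.height + (c : ℕ∞) :=
    h1'.trans (h2.trans (add_le_add le_rfl (Nat.cast_le.2 h4)))
  rcases eq_or_ne m.height ⊤ with h | h
  · rw [h]; exact le_top
  lift m.height to ℕ using h with a
  exact Nat.cast_le.2 (by have : n ≤ a + c := by exact_mod_cast h5
                          omega)

set_option maxHeartbeats 2000000 in
theorem fibreDimAt_relGCI (R : Type u) [CommRing R] (n c : ℕ) (F : Fin c → MvPolynomial (Fin n) R)
    (hF : Synt.IsRelGCI R n c F) (x : ↑(Spec (CommRingCat.of (Synt.RelGCIRing R n c F)))) :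
    FlatMor.fibreDimAt (Spec.map (CommRingCat.ofHom (algebraMap R (Synt.RelGCIRing R n c F)))) x =
      ((n - c : ℕ) : WithBot ℕ∞) := by
  let f := Spec.map (CommRingCat.ofHom (algebraMap R (Synt.RelGCIRing R n c F)))
  let p : PrimeSpectrum R := f.base x
  let i := Arrow.leftFunc.mapIso (Spec.fiberToSpecResidueFieldIso R (Synt.RelGCIRing R n c F) p)
  let e : ↥(f.fiber (f.base x)) ≃ₜ PrimeSpectrum (p.asIdeal.Fiber (Synt.RelGCIRing R n c F)) :=
    Scheme.homeoOfIso i
  haveI : Nontrivial (p.asIdeal.Fiber (Synt.RelGCIRing R n c F)) :=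
    PrimeSpectrum.nonempty_iff_nontrivial.1 ⟨e (f.asFiber x)⟩
  haveI : IsJacobsonRing (p.asIdeal.Fiber (Synt.RelGCIRing R n c F)) :=
    isJacobsonRing_of_surjective ⟨(RelGCILib.fibrePres F p.asIdeal).toRingHom, RelGCILib.fibrePres_surjective F p.asIdeal⟩
  exact (localDim_congr e (f.asFiber x)).trans
    (localDim_eq_of_le_height (n - c) (hF p inferInstance).2.le
      (fun m hm => le_height_of_pres (T := p.asIdeal.Fiber (Synt.RelGCIRing R n c F))
        (fun i => MvPolynomial.map (algebraMap R p.asIdeal.ResidueField) (F i))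
        (RelGCILib.fibrePres F p.asIdeal).toRingHom (RelGCILib.fibrePres_surjective F p.asIdeal)
        (RelGCILib.ker_fibrePres F p.asIdeal) m hm) _)

end Groth.Agent.CIPres
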