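import Mathlib
import Groth.Prelude.Def_RegImm
import Groth.Prelude.Def_EGA4b
import Groth.Agent.CIPres.Completion
import Groth.Agent.CIPres.Congr
import Groth.Agent.ArtinFlat.RegSeq
import Groth.Agent.FlatDepthFormula.Basic

/-!
# Transversally regular presentations and complete intersection fibres
-/

set_option autoImplicit false
universe u

open IsLocalRing RingTheory.Sequence
open scoped TensorProduct

noncomputable section

namespace Groth.Agent.CIPres

lemma regMod_iff_quot {C : Type u} [CommRing C] (K : Ideal C) (rs : List C) :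
    ArtinFlat.RegMod K rs ↔ IsWeaklyRegular (C ⧸ K) (rs.map (Ideal.Quotient.mk K)) := by
  rw [ArtinFlat.isWeaklyRegular_iff_regMod]
  have hs := Ideal.Quotient.mk_surjective (I := K)
  constructor
  · intro h i hi y hy
    obtain ⟨y, rfl⟩ := hs y
    have hi' : i < rs.length := by simpa using hi
    rw [List.getElem_map, ← map_mul, ← List.map_take, ← Ideal.mem_comap,
      ArtinFlat.comap_sup_ofList hs, ← RingHom.ker_eq_comap_bot, Ideal.mk_ker] at hy
    rw [← List.map_take, ← Ideal.mem_comap, ArtinFlat.comap_sup_ofList hs,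
      ← RingHom.ker_eq_comap_bot, Ideal.mk_ker]
    exact h i hi' y hy
  · intro h
    have h' := ArtinFlat.regMod_comap hs ⊥ rs h
    rwa [← RingHom.ker_eq_comap_bot, Ideal.mk_ker] at h'

theorem transReg_iff {A C B : Type u} [CommRing A] [IsLocalRing A]
    [IsNoetherianRing A] [CommRing C] [IsLocalRing C] [IsNoetherianRing C] [Algebra A C]
    [IsLocalHom (algebraMap A C)] [Module.Flat A C] (hreg : IsRegularLocalRing (EGA4.FibRing A C))
    [CommRing B] [IsLocalRing B] [Algebra C B] [Algebra A B] [IsScalarTower A C B]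
    [IsLocalHom (algebraMap A B)] (hsurj : Function.Surjective (algebraMap C B)) :
    (∃ rs : List C, Ideal.ofList rs = RingHom.ker (algebraMap C B) ∧ RegImm.IsTransRegularSeq A C rs) ↔
      (Module.Flat A B ∧ Pi1.IsCompleteIntersection (EGA4.FibRing A B)) := by
  classical
  set J := RingHom.ker (algebraMap C B) with hJdef
  have hJm : J ≤ maximalIdeal C := le_maximalIdeal (RingHom.ker_ne_top _)
  have hJjac : ∀ r ∈ J, r ∈ (⊥ : Ideal C).jacobson := fun r hr => by
    rw [jacobson_eq_maximalIdeal ⊥ bot_ne_top]; exact hJm hr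
  let eB : (C ⧸ J) ≃ₐ[A] B := Ideal.quotientKerAlgEquivOfSurjective
    (f := IsScalarTower.toAlgHom A C B) hsurj
  let π : EGA4.FibRing A C →+* EGA4.FibRing A B :=
    Ideal.quotientMap _ (algebraMap C B) (Ideal.map_le_iff_le_comap.1
      (by rw [Ideal.map_map, ← IsScalarTower.algebraMap_eq]))
  have hπ : Function.Surjective π := fun z => by
    obtain ⟨b, rfl⟩ := Ideal.Quotient.mk_surjective z
    obtain ⟨c, rfl⟩ := hsurj b
    exact ⟨Ideal.Quotient.mk _ c, Ideal.quotientMap_mk⟩
  have hπker : RingHom.ker π = J.map (Ideal.Quotient.mk (EGA4.mB A C)) := by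
    refine le_antisymm (fun z hz => ?_) (Ideal.map_le_iff_le_comap.2 fun c hc => ?_)
    · obtain ⟨c, rfl⟩ := Ideal.Quotient.mk_surjective z
      rw [RingHom.mem_ker, Ideal.quotientMap_mk, Ideal.Quotient.eq_zero_iff_mem, EGA4.mB,
        IsScalarTower.algebraMap_eq A C B, ← Ideal.map_map,
        Ideal.mem_map_iff_of_surjective _ hsurj] at hz
      obtain ⟨d, hd, hde⟩ := hz
      have : c - d ∈ J := by rw [hJdef, RingHom.mem_ker, map_sub, hde, sub_self]
      have h2 := Ideal.mem_map_of_mem (Ideal.Quotient.mk (EGA4.mB A C)) this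
      rwa [map_sub, Ideal.Quotient.eq_zero_iff_mem.2 hd, sub_zero] at h2
    · rw [Ideal.mem_comap, RingHom.mem_ker, Ideal.quotientMap_mk, RingHom.mem_ker.1 hc, map_zero]
  let eF : (EGA4.FibRing A C ⧸ J.map (Ideal.Quotient.mk (EGA4.mB A C))) ≃+* EGA4.FibRing A B :=
    (Ideal.quotEquivOfEq hπker.symm).trans (RingHom.quotientKerEquivOfSurjective hπ)
  have : IsLocalRing (EGA4.FibRing A B) :=
    IsLocalRing.of_surjective' (Ideal.Quotient.mk _) Ideal.Quotient.mk_surjective
  have : IsLocalRing (EGA4.FibRing A C ⧸ J.map (Ideal.Quotient.mk (EGA4.mB A C))) :=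
    eF.symm.isLocalRing
  have hne : J.map (Ideal.Quotient.mk (EGA4.mB A C)) ≠ ⊤ := hπker ▸ RingHom.ker_ne_top π
  have hci := isCompleteIntersection_quotient_iff (J.map (Ideal.Quotient.mk (EGA4.mB A C))) hne
  rw [isCompleteIntersection_congr eF] at hci
  rw [hci]
  constructor
  · rintro ⟨rs, hrs, hwreg, hflat⟩
    have hfl := hflat rs.length le_rfl
    rw [List.take_length] at hfl
    have hB : Module.Flat A B := Module.Flat.of_linearEquiv
      ((Ideal.quotientEquivAlgOfEq A hrs).trans eB).toLinearEquiv.symm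
    refine ⟨hB, rs.map (Ideal.Quotient.mk _), by rw [← Ideal.map_ofList, hrs], ?_⟩
    have hd := (ArtinFlat.descend (C := A) rs (fun r hr => hJjac r (hrs.le (Ideal.subset_span hr)))
      ((ArtinFlat.isWeaklyRegular_iff_regMod rs).1 hwreg)).2 (maximalIdeal A)
    refine (RingTheory.Sequence.isRegular_iff _ _).2 ⟨(regMod_iff_quot _ rs).1 hd, ?_⟩
    rw [smul_eq_mul, Ideal.mul_top, ← Ideal.map_ofList, hrs]
    exact hne.symm
  · rintro ⟨hB, rb, hrb, hrbreg⟩
    have hlift : ∀ r ∈ rb, ∃ c ∈ J, Ideal.Quotient.mk (EGA4.mB A C) c = r := fun r hr =>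
      (Ideal.mem_map_iff_of_surjective _ Ideal.Quotient.mk_surjective).1
        (hrb.le (Ideal.subset_span hr))
    choose! f hfJ hf using hlift
    set rs := rb.map f with hrsdef
    have hmap : rs.map (Ideal.Quotient.mk (EGA4.mB A C)) = rb := by
      rw [hrsdef, List.map_map]
      conv_rhs => rw [← List.map_id rb]
      exact List.map_congr_left fun r hr => hf r hr
    have hw : IsWeaklyRegular (C ⊗[A] (A ⧸ maximalIdeal A)) rs := by
      rw [FlatDepthFormula.isWeaklyRegular_fibre_iff]
      have e : ((maximalIdeal A).map (algebraMap A C) • (⊤ : Submodule C C)) = EGA4.mB A C := by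
        rw [smul_eq_mul, Ideal.mul_top]
      rw [(Submodule.quotEquivOfEq _ _ e).isWeaklyRegular_congr,
        ← isWeaklyRegular_map_algebraMap_iff (C ⧸ EGA4.mB A C)]
      rw [Ideal.Quotient.algebraMap_eq, hmap]
      exact hrbreg.toIsWeaklyRegular
    obtain ⟨hfl, -⟩ := FlatDepthFormula.main (A := A) (B := C) (M := C) rs hw
    have hle : Ideal.ofList rs ≤ J := Ideal.span_le.2 fun x hx => by
      obtain ⟨r, hr, rfl⟩ := List.mem_map.1 hx
      exact hfJ r hr
    have : Module.Flat A (C ⧸ J) := Module.Flat.of_linearEquiv eB.toLinearEquiv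
    have heq : Ideal.ofList rs = J := by
      refine le_antisymm hle (Submodule.le_of_le_smul_of_le_jacobson_bot (I := maximalIdeal C)
        (IsNoetherian.noetherian J) (maximalIdeal_le_jacobson _) fun y hy => ?_)
      have h1 : Ideal.Quotient.mk (EGA4.mB A C) y ∈
          (Ideal.ofList rs).map (Ideal.Quotient.mk (EGA4.mB A C)) := by
        rw [Ideal.map_ofList, hmap, hrb]
        exact Ideal.mem_map_of_mem _ hy
      obtain ⟨j, hj, hjy⟩ := (Ideal.mem_map_iff_of_surjective _ Ideal.Quotient.mk_surjective).1 h1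
      have h2 := ArtinFlat.mem_smul_of_flat_quotient (C := A) J (maximalIdeal A)
        (Ideal.Quotient.eq.1 hjy.symm) (J.sub_mem hy (hle hj))
      rw [← add_sub_cancel j y]
      refine Submodule.add_mem_sup hj ?_
      rw [smul_eq_mul, mul_comm (maximalIdeal C)]
      exact Ideal.mul_mono_right (IsLocalRing.map_maximalIdeal_le (algebraMap A C)) h2
    refine ⟨rs, heq, FlatDepthFormula.isWeaklyRegular_self (A := A) (M := C) rs hw, fun j hj => ?_⟩
    have h3 := hfl j hj
    exact Module.Flat.of_linearEquiv ((Submodule.quotEquivOfEq (Ideal.ofList (rs.take j) • ⊤ : Submodule C C) (Ideal.ofList (rs.take j))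
      (by rw [smul_eq_mul, Ideal.mul_top])).restrictScalars A).symm

end Groth.Agent.CIPres
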